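import Cfsg.Agent.S1363
import Cfsg.Agent.S1365
import Cfsg.Agent.Helper37.BG17D2Core

set_option autoImplicit false

/-!
# CALL BG17 (helper25, row S1381), piece D2 (helper37): `bg17_derived_two`, verbatim.
-/

namespace Cfsg.Agent.Helper37

open Cfsg Subgroup

universe u

variable {G : Type u} [Group G] [Finite G]

/-- D2. `M'' ≤ M_σ`  (`M' = U M_σ` by S1365, `U` abelian by S1363, `M_σ` normal in `M`). -/
theorem bg17_derived_two (hG : IsMinSimpleOddOrder G) {M K U : Subgroup G} (hM : IsCoatom M)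
    (hKU : IsSigmaDecomposition M K U) (hK1 : K ≠ ⊥) :
    ⁅⁅M, M⁆, ⁅M, M⁆⁆ ≤ sigmaCore M :=
  bg17_derived_two_of hKU (Cfsg.Agent.S1365.result hG M hM K U hKU hK1).1
    (Cfsg.Agent.S1363.result hG M hM K U hKU hK1).1

end Cfsg.Agent.Helper37
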