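import Cfsg.Statements.S1383

set_option autoImplicit false

/-!
# CALL BG83 (helper25, row S1383), piece NTI (double, helper37): `bg83_witness`, verbatim.
-/

namespace Cfsg.Agent.Helper37

open Cfsg Subgroup

universe u

variable {G : Type u} [Group G] [Finite G]

omit [Finite G] in
/-- NTI (pure). -/
theorem bg83_witness [Finite G] (M X : Subgroup G) (hXM : X ≤ M)
    (hMX : M ≤ normalizer (X : Set G)) (hnTI : ¬ IsTISubset (X : Set G)) :
    ∃ x g : G, x ∈ X ∧ (orderOf x).Prime ∧ g ∉ M ∧ x ∈ M.map (MulAut.conj g).toMonoidHom := by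
  unfold IsTISubset at hnTI
  push Not at hnTI
  obtain ⟨g, hg, x, hx, hgx, hx1⟩ := hnTI
  have hgM : g ∉ M := fun h => hg (hMX h)
  have hpos : 0 < orderOf x := orderOf_pos x
  have hne1 : orderOf x ≠ 1 := fun h => hx1 (orderOf_eq_one_iff.mp h)
  obtain ⟨r, hr, hrd⟩ := Nat.exists_prime_and_dvd hne1
  obtain ⟨x₁, hx₁⟩ : ∃ x₁ : G, x₁ = x ^ (orderOf x / r) := ⟨_, rfl⟩
  have ho : orderOf x₁ = r := by
    rw [hx₁]
    exact orderOf_pow_orderOf_div hpos.ne' hrd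
  have hx₁X : x₁ ∈ X := by rw [hx₁]; exact X.pow_mem hx _
  refine ⟨g * x₁ * g⁻¹, g, ?_, ?_, hgM, ?_⟩
  · have h1 : g * x₁ * g⁻¹ = (g * x * g⁻¹) ^ (orderOf x / r) := by rw [hx₁, conj_pow]
    rw [h1]
    exact X.pow_mem hgx _
  · have h2 : orderOf (g * x₁ * g⁻¹) = orderOf x₁ := by
      have := (MulAut.conj g).orderOf_eq x₁
      simpa [MulAut.conj_apply] using this
    rw [h2, ho]
    exact hr
  · exact ⟨x₁, hXM hx₁X, rfl⟩

end Cfsg.Agent.Helper37
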