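-- helper37 library: piece CARD of helper52's CALL S3413.
import Mathlib

set_option autoImplicit false

namespace Cfsg.Agent.Helper37

open Subgroup

theorem cgm_card_eq {H M : Type*} [Group H] [Group M] [Finite H] [Finite M]
    (f : {h : H // h ≠ 1} ≃ {g : M // g ≠ 1}) : Nat.card H = Nat.card M := by
  classical
  rw [← Nat.card_congr (Equiv.optionSubtypeNe (1 : H)), ← Nat.card_congr (Equiv.optionSubtypeNe (1 : M)),
    Finite.card_option, Finite.card_option, Nat.card_congr f]

end Cfsg.Agent.Helper37
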