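-- helper37 library: piece CEN of helper52's CALL S3413.
import Mathlib

set_option autoImplicit false

namespace Cfsg.Agent.Helper37

open Subgroup

theorem cgm_card_centralizer_aux {H : Type*} [Group H] [Finite H] (x : H) :
    Nat.card ↥(centralizer ({x} : Set H)) =
      Nat.card {y : {h : H // h ≠ 1} // x * (y : H) = (y : H) * x} + 1 := by
  classical
  have e : {y : {h : H // h ≠ 1} // x * (y : H) = (y : H) * x} ≃
      {c : ↥(centralizer ({x} : Set H)) // c ≠ 1} :=
    { toFun := fun y => ⟨⟨((y : {h : H // h ≠ 1}) : H), by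
          rw [mem_centralizer_iff]
          intro h hh
          rw [Set.mem_singleton_iff] at hh
          rw [hh]
          exact y.2⟩, fun h => y.1.2 (congrArg Subtype.val h)⟩
      invFun := fun c => ⟨⟨((c : ↥(centralizer ({x} : Set H))) : H), fun h => c.2 (Subtype.ext h)⟩, by
          have h1 := mem_centralizer_iff.mp c.1.2 x (Set.mem_singleton x)
          exact h1⟩
      left_inv := fun y => rfl
      right_inv := fun c => rfl }
  rw [Nat.card_congr e, ← Finite.card_option,
    Nat.card_congr (Equiv.optionSubtypeNe (1 : ↥(centralizer ({x} : Set H))))]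

theorem cgm_card_centralizer {H M : Type*} [Group H] [Group M] [Finite H] [Finite M]
    (f : {h : H // h ≠ 1} ≃ {g : M // g ≠ 1})
    (hf : ∀ x y : {h : H // h ≠ 1}, (x : H) * y = y * x ↔ ((f x) : M) * (f y) = (f y) * (f x))
    (x : {h : H // h ≠ 1}) :
    Nat.card ↥(centralizer ({(x : H)} : Set H)) =
      Nat.card ↥(centralizer ({((f x) : M)} : Set M)) := by
  rw [cgm_card_centralizer_aux, cgm_card_centralizer_aux]
  congr 1
  exact Nat.card_congr (Equiv.subtypeEquiv f (fun y => hf x y))

end Cfsg.Agent.Helper37
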