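-- helper37 library: piece ORD of helper52's CALL S3413.
import Mathlib
import Cfsg.Agent.Helper37.CGMCEN

set_option autoImplicit false

namespace Cfsg.Agent.Helper37

open Subgroup

theorem cgm_orderOf_of_card_centralizer {M : Type*} [Group M] [Finite M] (p : ℕ) [Fact p.Prime]
    (g : M) (hg : g ≠ 1) (hc : Nat.card ↥(centralizer ({g} : Set M)) = p) : orderOf g = p := by
  have hpp : p.Prime := Fact.out
  have hmem : g ∈ centralizer ({g} : Set M) := by
    rw [mem_centralizer_iff]
    intro h hh
    rw [Set.mem_singleton_iff] at hh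
    rw [hh]
  have h1 : orderOf g ∣ p := by
    rw [← hc]
    exact Subgroup.orderOf_dvd_natCard _ hmem
  rcases (Nat.dvd_prime hpp).mp h1 with h2 | h2
  · exact absurd (orderOf_eq_one_iff.mp h2) hg
  · exact h2

theorem cgm_dvd_card_centralizer {M : Type*} [Group M] [Finite M] (g : M) :
    orderOf g ∣ Nat.card ↥(centralizer ({g} : Set M)) := by
  have hmem : g ∈ centralizer ({g} : Set M) := by
    rw [mem_centralizer_iff]
    intro h hh
    rw [Set.mem_singleton_iff] at hh
    rw [hh]
  exact Subgroup.orderOf_dvd_natCard _ hmem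

theorem cgm_card_orderOf_eq {H M : Type*} [Group H] [Group M] [Finite H] [Finite M]
    (f : {h : H // h ≠ 1} ≃ {g : M // g ≠ 1})
    (hf : ∀ x y : {h : H // h ≠ 1}, (x : H) * y = y * x ↔ ((f x) : M) * (f y) = (f y) * (f x))
    (p : ℕ) [Fact p.Prime]
    (hM : ∀ g : M, g ≠ 1 → p ∣ Nat.card ↥(centralizer ({g} : Set M)) →
      Nat.card ↥(centralizer ({g} : Set M)) = p) :
    Nat.card {h : H // orderOf h = p} = Nat.card {g : M // orderOf g = p} := by
  have hpp : p.Prime := Fact.out
  have hneH : ∀ k : H, orderOf k = p → k ≠ 1 := by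
    intro k hk h1
    rw [h1, orderOf_one] at hk
    exact hpp.one_lt.ne hk
  have hneM : ∀ k : M, orderOf k = p → k ≠ 1 := by
    intro k hk h1
    rw [h1, orderOf_one] at hk
    exact hpp.one_lt.ne hk
  have hA : ∀ x : {h : H // h ≠ 1}, orderOf (x : H) = p → orderOf ((f x) : M) = p := by
    intro x hx
    apply cgm_orderOf_of_card_centralizer p _ (f x).2
    apply hM _ (f x).2
    rw [← cgm_card_centralizer f hf x, ← hx]
    exact cgm_dvd_card_centralizer _
  have hB : ∀ z : {g : M // g ≠ 1}, orderOf (z : M) = p → orderOf ((f.symm z) : H) = p := by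
    intro z hz
    apply cgm_orderOf_of_card_centralizer p _ (f.symm z).2
    rw [cgm_card_centralizer f hf (f.symm z), Equiv.apply_symm_apply]
    apply hM _ z.2
    rw [← hz]
    exact cgm_dvd_card_centralizer _
  refine Nat.card_congr
    { toFun := fun h => ⟨((f ⟨h.1, hneH h.1 h.2⟩) : M), hA _ h.2⟩
      invFun := fun g => ⟨((f.symm ⟨g.1, hneM g.1 g.2⟩) : H), hB _ g.2⟩
      left_inv := fun h => by
        apply Subtype.ext
        simp
      right_inv := fun g => by
        apply Subtype.ext
        simp }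

end Cfsg.Agent.Helper37
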