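import Mathlib

set_option autoImplicit false

namespace Cfsg.Agent.Helper37

/-- the Carmichael relations on `k` generators -/
def carmRels (k : ℕ) : Set (FreeGroup (Fin k)) :=
  {g : FreeGroup (Fin k) | ∃ i : Fin k, i.val = 0 ∧ g = FreeGroup.of i ^ 3} ∪
   {g | ∃ i : Fin k, 1 ≤ i.val ∧ g = FreeGroup.of i ^ 2} ∪
   {g | ∃ i j : Fin k, j.val = i.val + 1 ∧ g = (FreeGroup.of i * FreeGroup.of j) ^ 3} ∪
   {g | ∃ i j : Fin k, i.val + 1 < j.val ∧ g = (FreeGroup.of i * FreeGroup.of j) ^ 2}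

/-- the generators, extended by `1` -/
noncomputable def carmX (k : ℕ) (j : ℕ) : PresentedGroup (carmRels k) :=
  if h : j < k then PresentedGroup.of ⟨j, h⟩ else 1

theorem carmX_of (k : ℕ) (j : Fin k) : carmX k j.val = PresentedGroup.of j := by
  unfold carmX
  rw [dif_pos j.2]

theorem carmX_cube (k : ℕ) : carmX k 0 ^ 3 = 1 := by
  unfold carmX
  split_ifs with h
  · rw [PresentedGroup.of, ← map_pow]
    exact PresentedGroup.one_of_mem (Or.inl (Or.inl (Or.inl ⟨⟨0, h⟩, rfl, rfl⟩)))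
  · simp

theorem carmX_sq (k : ℕ) (j : ℕ) (hj : 1 ≤ j) : carmX k j * carmX k j = 1 := by
  unfold carmX
  split_ifs with h
  · rw [PresentedGroup.of, ← map_mul, ← pow_two]
    exact PresentedGroup.one_of_mem (Or.inl (Or.inl (Or.inr ⟨⟨j, h⟩, hj, rfl⟩)))
  · simp

theorem carmX_braid3 (k : ℕ) (i : ℕ) (hi : i + 1 < k) :
    (carmX k i * carmX k (i + 1)) ^ 3 = 1 := by
  unfold carmX
  rw [dif_pos (by omega : i < k), dif_pos hi, PresentedGroup.of, PresentedGroup.of, ← map_mul,
    ← map_pow]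
  exact PresentedGroup.one_of_mem (Or.inl (Or.inr ⟨⟨i, by omega⟩, ⟨i + 1, hi⟩, rfl, rfl⟩))

theorem carmX_far2 (k : ℕ) (i j : ℕ) (hij : i + 1 < j) (hj : j < k) :
    (carmX k i * carmX k j) ^ 2 = 1 := by
  unfold carmX
  rw [dif_pos (by omega : i < k), dif_pos hj, PresentedGroup.of, PresentedGroup.of, ← map_mul,
    ← map_pow]
  exact PresentedGroup.one_of_mem (Or.inr ⟨⟨i, by omega⟩, ⟨j, hj⟩, hij, rfl⟩)

theorem carm_comm_aux {G : Type*} [Group G] (a b : G) (ha : a * a = 1) (hb : b * b = 1)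
    (h : (a * b) ^ 2 = 1) : a * b = b * a := by
  have ha' : a⁻¹ = a := inv_eq_of_mul_eq_one_left ha
  have hb' : b⁻¹ = b := inv_eq_of_mul_eq_one_left hb
  rw [pow_two] at h
  calc a * b = (a * b)⁻¹ := (inv_eq_of_mul_eq_one_left h).symm
    _ = b * a := by rw [mul_inv_rev, ha', hb']

theorem carmX_comm (k : ℕ) (i j : ℕ) (hi : 1 ≤ i) (hij : i + 1 < j) :
    carmX k i * carmX k j = carmX k j * carmX k i := by
  by_cases hj : j < k
  · exact carm_comm_aux _ _ (carmX_sq k i hi) (carmX_sq k j (by omega)) (carmX_far2 k i j hij hj)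
  · have : carmX k j = 1 := by
      unfold carmX
      rw [dif_neg hj]
    rw [this, mul_one, one_mul]

/-- for `2 ≤ j < k`: `x_j x_0 = x_0⁻¹ x_j` -/
theorem carmX_inv0 (k : ℕ) (j : ℕ) (hj : 2 ≤ j) (hjk : j < k) :
    carmX k j * carmX k 0 = (carmX k 0)⁻¹ * carmX k j := by
  have h := carmX_far2 k 0 j (by omega) hjk
  have hs := carmX_sq k j (by omega)
  rw [pow_two] at h
  have h1 : carmX k j * carmX k 0 * carmX k j = (carmX k 0)⁻¹ := by
    apply eq_inv_of_mul_eq_one_right
    calc carmX k 0 * (carmX k j * carmX k 0 * carmX k j)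
        = carmX k 0 * carmX k j * (carmX k 0 * carmX k j) := by group
      _ = 1 := h
  calc carmX k j * carmX k 0 = carmX k j * carmX k 0 * (carmX k j * carmX k j) := by
        rw [hs, mul_one]
    _ = (carmX k j * carmX k 0 * carmX k j) * carmX k j := by group
    _ = (carmX k 0)⁻¹ * carmX k j := by rw [h1]

/-- for `2 ≤ j < k`: `x_j x_0⁻¹ = x_0 x_j` -/
theorem carmX_inv0' (k : ℕ) (j : ℕ) (hj : 2 ≤ j) (hjk : j < k) :
    carmX k j * (carmX k 0)⁻¹ = carmX k 0 * carmX k j := by
  have h := carmX_inv0 k j hj hjk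
  calc carmX k j * (carmX k 0)⁻¹
      = carmX k 0 * ((carmX k 0)⁻¹ * carmX k j) * (carmX k 0)⁻¹ := by group
    _ = carmX k 0 * (carmX k j * carmX k 0) * (carmX k 0)⁻¹ := by rw [h]
    _ = carmX k 0 * carmX k j := by group

theorem carmX_braid (k : ℕ) (i : ℕ) (hi : 1 ≤ i) (hik : i + 1 < k) :
    carmX k (i + 1) * carmX k i * carmX k (i + 1) = carmX k i * carmX k (i + 1) * carmX k i := by
  have ha := carmX_sq k i hi
  have hb := carmX_sq k (i + 1) (by omega)
  have h := carmX_braid3 k i hik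
  have ha' : (carmX k i)⁻¹ = carmX k i := inv_eq_of_mul_eq_one_left ha
  have hb' : (carmX k (i + 1))⁻¹ = carmX k (i + 1) := inv_eq_of_mul_eq_one_left hb
  have h3 : carmX k i * carmX k (i + 1) * (carmX k i * carmX k (i + 1)) *
      (carmX k i * carmX k (i + 1)) = 1 := by
    rw [← h, pow_succ, pow_two]
  have h1 : carmX k i * carmX k (i + 1) * carmX k i *
      (carmX k (i + 1) * carmX k i * carmX k (i + 1)) = 1 := by
    rw [← h3]
    simp only [mul_assoc]
  have h2 := eq_inv_of_mul_eq_one_left h1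
  rw [h2, mul_inv_rev, mul_inv_rev, ha', hb', mul_assoc]

/-- `x_1 x_0 x_1 = x_0⁻¹ x_1 x_0⁻¹` -/
theorem carmX_braid0 (k : ℕ) (hk : 1 < k) :
    carmX k 1 * carmX k 0 * carmX k 1 = (carmX k 0)⁻¹ * carmX k 1 * (carmX k 0)⁻¹ := by
  have hb := carmX_sq k 1 le_rfl
  have h := carmX_braid3 k 0 hk
  have hb' : (carmX k 1)⁻¹ = carmX k 1 := inv_eq_of_mul_eq_one_left hb
  have h3 : carmX k 0 * carmX k 1 * (carmX k 0 * carmX k 1) *
      (carmX k 0 * carmX k 1) = 1 := by
    rw [← h, pow_succ, pow_two]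
  have h1 : carmX k 0 * (carmX k 1 * carmX k 0 * carmX k 1) * (carmX k 0 * carmX k 1) = 1 := by
    rw [← h3]
    simp only [mul_assoc]
  have h2 : carmX k 0 * (carmX k 1 * carmX k 0 * carmX k 1) = (carmX k 0 * carmX k 1)⁻¹ :=
    eq_inv_of_mul_eq_one_left h1
  calc carmX k 1 * carmX k 0 * carmX k 1
      = (carmX k 0)⁻¹ * (carmX k 0 * (carmX k 1 * carmX k 0 * carmX k 1)) := by group
    _ = (carmX k 0)⁻¹ * (carmX k 0 * carmX k 1)⁻¹ := by rw [h2]
    _ = (carmX k 0)⁻¹ * carmX k 1 * (carmX k 0)⁻¹ := by rw [mul_inv_rev, hb', mul_assoc]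

/-- descending words `x_m x_{m-1} ⋯` -/
noncomputable def carmP (m : ℕ) : ℕ → PresentedGroup (carmRels (m + 1))
  | 0 => 1
  | (i + 1) => carmP m i * carmX (m + 1) (m - i)

theorem carmP_succ (m i : ℕ) : carmP m (i + 1) = carmP m i * carmX (m + 1) (m - i) := rfl

theorem carmP_pred (m i : ℕ) (hi : 1 ≤ i) :
    carmP m i = carmP m (i - 1) * carmX (m + 1) (m - (i - 1)) := by
  cases i with
  | zero => omega
  | succ i => rfl

theorem carmP_comm (m : ℕ) (j : ℕ) (hj : 1 ≤ j) :
    ∀ i, i + j + 1 ≤ m → carmP m i * carmX (m + 1) j = carmX (m + 1) j * carmP m i := by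
  intro i
  induction i with
  | zero => intro _; simp [carmP]
  | succ i ih =>
    intro h
    rw [carmP_succ, mul_assoc, ← carmX_comm (m + 1) j (m - i) hj (by omega), ← mul_assoc,
      ih (by omega), mul_assoc]

theorem carmP_x0 (m : ℕ) :
    ∀ i, i + 1 ≤ m → ∃ u ∈ Subgroup.zpowers (carmX (m + 1) 0),
      carmP m i * carmX (m + 1) 0 = u * carmP m i ∧
      carmP m i * (carmX (m + 1) 0)⁻¹ = u⁻¹ * carmP m i := by
  intro i
  induction i with
  | zero =>
    intro _
    exact ⟨_, Subgroup.mem_zpowers _, by simp [carmP], by simp [carmP]⟩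
  | succ i ih =>
    intro h
    obtain ⟨u, hu, h1, h2⟩ := ih (by omega)
    refine ⟨u⁻¹, inv_mem hu, ?_, ?_⟩
    · rw [carmP_succ, mul_assoc, carmX_inv0 (m + 1) (m - i) (by omega) (by omega), ← mul_assoc, h2,
        mul_assoc]
    · rw [carmP_succ, mul_assoc, carmX_inv0' (m + 1) (m - i) (by omega) (by omega), ← mul_assoc, h1,
        inv_inv, mul_assoc]

theorem carmP_braid (m : ℕ) (j : ℕ) (hj : 2 ≤ j) (hjm : j ≤ m) :
    ∀ d, m - j + 2 + d ≤ m →
      carmP m (m - j + 2 + d) * carmX (m + 1) j = carmX (m + 1) (j - 1) * carmP m (m - j + 2 + d) := by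
  intro d
  induction d with
  | zero =>
    intro _
    have e1 : m - j + 2 + 0 = (m - j + 1) + 1 := by omega
    have e2 : m - (m - j + 1) = j - 1 := by omega
    have e3 : m - (m - j) = j := by omega
    rw [e1, carmP_succ, carmP_succ, e2, e3]
    have hb := carmX_braid (m + 1) (j - 1) (by omega) (by omega)
    have e4 : j - 1 + 1 = j := by omega
    rw [e4] at hb
    have hc := carmP_comm m (j - 1) (by omega) (m - j) (by omega)
    calc carmP m (m - j) * carmX (m + 1) j * carmX (m + 1) (j - 1) * carmX (m + 1) j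
        = carmP m (m - j) * (carmX (m + 1) j * carmX (m + 1) (j - 1) * carmX (m + 1) j) := by
          simp only [mul_assoc]
      _ = carmP m (m - j) * (carmX (m + 1) (j - 1) * carmX (m + 1) j * carmX (m + 1) (j - 1)) := by
          rw [hb]
      _ = (carmP m (m - j) * carmX (m + 1) (j - 1)) * carmX (m + 1) j * carmX (m + 1) (j - 1) := by
          simp only [mul_assoc]
      _ = carmX (m + 1) (j - 1) * (carmP m (m - j) * carmX (m + 1) j * carmX (m + 1) (j - 1)) := by
          rw [hc]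
          simp only [mul_assoc]
  | succ d ih =>
    intro h
    have e1 : m - j + 2 + (d + 1) = (m - j + 2 + d) + 1 := by omega
    rw [e1, carmP_succ, mul_assoc,
      carmX_comm (m + 1) (m - (m - j + 2 + d)) j (by omega) (by omega), ← mul_assoc,
      ih (by omega), mul_assoc]

theorem carmX0_inv (k : ℕ) : (carmX k 0)⁻¹ = carmX k 0 * carmX k 0 := by
  have h := carmX_cube k
  rw [pow_succ, pow_two] at h
  exact inv_eq_of_mul_eq_one_left h

/-- the case of `x_1` on the coset of `p_{m+1}` -/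
theorem carmP_top_x1 (m : ℕ) (hm : 1 ≤ m) :
    ∃ u ∈ Subgroup.zpowers (carmX (m + 1) 0),
      carmP m (m + 1) * carmX (m + 1) 1 = u * carmP m (m + 2) := by
  obtain ⟨u, hu, h1, h2⟩ := carmP_x0 m (m - 1) (by omega)
  refine ⟨u⁻¹, inv_mem hu, ?_⟩
  have e1 : m + 2 = (m + 1) + 1 := by omega
  have e2 : m - (m + 1) = 0 := by omega
  have e3 : m - m = 0 := by omega
  have e5 : m - (m - 1) = 1 := by omega
  have hP : carmP m m = carmP m (m - 1) * carmX (m + 1) 1 := by
    rw [carmP_pred m m hm, e5]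
  rw [e1, carmP_succ (m) (m + 1), carmP_succ m m, e2, e3, hP]
  have hb := carmX_braid0 (m + 1) (by omega)
  calc carmP m (m - 1) * carmX (m + 1) 1 * carmX (m + 1) 0 * carmX (m + 1) 1
      = carmP m (m - 1) * (carmX (m + 1) 1 * carmX (m + 1) 0 * carmX (m + 1) 1) := by
        simp only [mul_assoc]
    _ = carmP m (m - 1) * ((carmX (m + 1) 0)⁻¹ * carmX (m + 1) 1 * (carmX (m + 1) 0)⁻¹) := by
        rw [hb]
    _ = (carmP m (m - 1) * (carmX (m + 1) 0)⁻¹) * carmX (m + 1) 1 * (carmX (m + 1) 0)⁻¹ := by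
        simp only [mul_assoc]
    _ = u⁻¹ * (carmP m (m - 1) * carmX (m + 1) 1 * carmX (m + 1) 0 * carmX (m + 1) 0) := by
        rw [h2, carmX0_inv]
        simp only [mul_assoc]

theorem carm_step (m : ℕ) (K : Subgroup (PresentedGroup (carmRels (m + 1))))
    (hK : ∀ j, j < m → carmX (m + 1) j ∈ K) :
    ∀ i, i ≤ m + 2 → ∀ j, j ≤ m → ∃ i', i' ≤ m + 2 ∧ ∃ κ ∈ K,
      carmP m i * carmX (m + 1) j = κ * carmP m i' := by
  intro i hi j hj
  have hz : 1 ≤ m → Subgroup.zpowers (carmX (m + 1) 0) ≤ K := fun hm => by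
    rw [Subgroup.zpowers_le]
    exact hK 0 (by omega)
  have eP : carmP m (m + 1) = carmP m m * carmX (m + 1) 0 := by
    rw [carmP_succ, Nat.sub_self]
  have eP2 : carmP m (m + 2) = carmP m (m + 1) * carmX (m + 1) 0 := by
    rw [show m + 2 = (m + 1) + 1 from rfl, carmP_succ, show m - (m + 1) = 0 by omega]
  have F1 : ∀ j, 2 ≤ j → j ≤ m →
      carmP m (m + 1) * carmX (m + 1) j = carmX (m + 1) (j - 1) * carmP m (m + 2) := by
    intro j hj2 hj
    have hB := carmP_braid m j hj2 hj (j - 2) (by omega)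
    rw [show m - j + 2 + (j - 2) = m by omega] at hB
    rw [eP2, eP, mul_assoc, ← carmX_inv0' (m + 1) j hj2 (by omega), ← mul_assoc, hB, carmX0_inv]
    simp only [mul_assoc]
  rcases Nat.lt_or_ge m i with him | him
  · rcases (by omega : i = m + 1 ∨ i = m + 2) with rfl | rfl
    · rcases (by omega : j = 0 ∨ j = 1 ∨ 2 ≤ j) with rfl | rfl | hj2
      · exact ⟨m + 2, le_rfl, 1, one_mem K, by rw [one_mul, eP2]⟩
      · obtain ⟨u, hu, h⟩ := carmP_top_x1 m hj
        exact ⟨m + 2, le_rfl, u, hz hj hu, h⟩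
      · exact ⟨m + 2, le_rfl, carmX (m + 1) (j - 1), hK _ (by omega), F1 j hj2 hj⟩
    · rcases (by omega : j = 0 ∨ j = 1 ∨ 2 ≤ j) with rfl | rfl | hj2
      · refine ⟨m, by omega, 1, one_mem K, ?_⟩
        have h3 := carmX_cube (m + 1)
        rw [pow_succ, pow_two] at h3
        rw [eP2, eP, one_mul]
        calc carmP m m * carmX (m + 1) 0 * carmX (m + 1) 0 * carmX (m + 1) 0
            = carmP m m * (carmX (m + 1) 0 * carmX (m + 1) 0 * carmX (m + 1) 0) := by
              simp only [mul_assoc]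
          _ = carmP m m := by rw [h3, mul_one]
      · obtain ⟨u, hu, h⟩ := carmP_top_x1 m hj
        refine ⟨m + 1, by omega, u⁻¹, inv_mem (hz hj hu), ?_⟩
        have h' : carmP m (m + 2) = u⁻¹ * (carmP m (m + 1) * carmX (m + 1) 1) := by
          rw [h]
          group
        rw [h', mul_assoc, mul_assoc, carmX_sq _ 1 le_rfl, mul_one]
      · refine ⟨m + 1, by omega, carmX (m + 1) (j - 1), hK _ (by omega), ?_⟩
        have h1 := F1 j hj2 hj
        calc carmP m (m + 2) * carmX (m + 1) j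
            = carmP m (m + 1) * (carmX (m + 1) 0 * carmX (m + 1) j) := by rw [eP2, mul_assoc]
          _ = carmP m (m + 1) * (carmX (m + 1) j * (carmX (m + 1) 0)⁻¹) := by
              rw [carmX_inv0' (m + 1) j hj2 (by omega)]
          _ = (carmP m (m + 1) * carmX (m + 1) j) * (carmX (m + 1) 0)⁻¹ := by rw [mul_assoc]
          _ = carmX (m + 1) (j - 1) * carmP m (m + 1) := by
              rw [h1, eP2]
              group
  · rcases (by omega : j = m - i ∨ (1 ≤ i ∧ j = m - i + 1) ∨ j + 1 ≤ m - i ∨ m - i + 2 ≤ j)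
      with h | ⟨h1, h⟩ | h | h
    · exact ⟨i + 1, by omega, 1, one_mem K, by rw [one_mul, carmP_succ, h]⟩
    · refine ⟨i - 1, by omega, 1, one_mem K, ?_⟩
      rw [one_mul, carmP_pred m i h1, show m - (i - 1) = j by omega, mul_assoc,
        carmX_sq _ j (by omega), mul_one]
    · rcases Nat.eq_zero_or_pos j with rfl | hj1
      · obtain ⟨u, hu, h1, -⟩ := carmP_x0 m i (by omega)
        exact ⟨i, hi, u, hz (by omega) hu, h1⟩
      · exact ⟨i, hi, carmX (m + 1) j, hK j (by omega), carmP_comm m j hj1 i (by omega)⟩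
    · have hB := carmP_braid m j (by omega) hj (i - (m - j + 2)) (by omega)
      rw [show m - j + 2 + (i - (m - j + 2)) = i by omega] at hB
      exact ⟨i, hi, carmX (m + 1) (j - 1), hK _ (by omega), hB⟩

theorem carm_cover (m : ℕ) (K : Subgroup (PresentedGroup (carmRels (m + 1))))
    (hK : ∀ j, j < m → carmX (m + 1) j ∈ K) (g : PresentedGroup (carmRels (m + 1))) :
    ∃ i, i ≤ m + 2 ∧ ∃ κ ∈ K, g = κ * carmP m i := by
  let S : Set (PresentedGroup (carmRels (m + 1))) :=
    {g | ∃ i, i ≤ m + 2 ∧ ∃ κ ∈ K, g = κ * carmP m i}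
  have hstep : ∀ s ∈ S, ∀ j, j ≤ m → s * carmX (m + 1) j ∈ S := by
    rintro s ⟨i, hi, κ, hκ, rfl⟩ j hj
    obtain ⟨i', hi', κ', hκ', h⟩ := carm_step m K hK i hi j hj
    exact ⟨i', hi', κ * κ', mul_mem hκ hκ', by rw [mul_assoc, h, mul_assoc]⟩
  let H : Subgroup (PresentedGroup (carmRels (m + 1))) :=
    { carrier := {h | ∀ s ∈ S, s * h ∈ S ∧ s * h⁻¹ ∈ S}
      mul_mem' := fun {a b} ha hb s hs =>
        ⟨by rw [← mul_assoc]; exact (hb _ (ha s hs).1).1,
         by rw [mul_inv_rev, ← mul_assoc]; exact (ha _ (hb s hs).2).2⟩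
      one_mem' := fun s hs => by simpa using hs
      inv_mem' := fun {a} ha s hs => ⟨(ha s hs).2, by rw [inv_inv]; exact (ha s hs).1⟩ }
  have hgen : ∀ j : Fin (m + 1), PresentedGroup.of j ∈ H := by
    intro j s hs
    rw [← carmX_of]
    refine ⟨hstep s hs j.val (by omega), ?_⟩
    rcases Nat.eq_zero_or_pos j.val with h0 | h1
    · rw [h0, carmX0_inv, ← mul_assoc]
      exact hstep _ (hstep s hs 0 (by omega)) 0 (by omega)
    · rw [inv_eq_of_mul_eq_one_left (carmX_sq (m + 1) j.val h1)]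
      exact hstep s hs j.val (by omega)
  have h1 : (1 : PresentedGroup (carmRels (m + 1))) ∈ S :=
    ⟨0, by omega, 1, one_mem K, by simp [carmP]⟩
  have h2 := (PresentedGroup.generated_by _ H hgen g) 1 h1
  have h3 : g ∈ S := by simpa using h2.1
  exact h3

theorem carm_card (m : ℕ) (K : Subgroup (PresentedGroup (carmRels (m + 1)))) [Finite K]
    (hK : ∀ j, j < m → carmX (m + 1) j ∈ K) :
    Finite (PresentedGroup (carmRels (m + 1))) ∧
      Nat.card (PresentedGroup (carmRels (m + 1))) ≤ (m + 3) * Nat.card K := by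
  let f : Fin (m + 3) × K → PresentedGroup (carmRels (m + 1)) :=
    fun x => x.2.1 * carmP m x.1.val
  have hf : Function.Surjective f := by
    intro g
    obtain ⟨i, hi, κ, hκ, rfl⟩ := carm_cover m K hK g
    exact ⟨(⟨i, by omega⟩, ⟨κ, hκ⟩), rfl⟩
  haveI hfin : Finite (PresentedGroup (carmRels (m + 1))) := Finite.of_surjective f hf
  refine ⟨hfin, ?_⟩
  have h := Nat.card_le_card_of_surjective f hf
  rwa [Nat.card_prod, Nat.card_fin] at h

/-- the map adding one generator -/
noncomputable def carmIota (m : ℕ) :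
    PresentedGroup (carmRels m) →* PresentedGroup (carmRels (m + 1)) :=
  PresentedGroup.toGroup (f := fun j : Fin m => carmX (m + 1) j.val) (by
    intro r hr
    rcases hr with ((⟨i, hi, rfl⟩ | ⟨i, hi, rfl⟩) | ⟨i, j, hij, rfl⟩) | ⟨i, j, hij, rfl⟩
    · simp only [map_pow, FreeGroup.lift_apply_of]
      rw [hi]
      exact carmX_cube _
    · simp only [map_pow, FreeGroup.lift_apply_of]
      rw [pow_two]
      exact carmX_sq _ _ hi
    · simp only [map_pow, map_mul, FreeGroup.lift_apply_of]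
      rw [hij]
      exact carmX_braid3 _ _ (by omega)
    · simp only [map_pow, map_mul, FreeGroup.lift_apply_of]
      exact carmX_far2 _ _ _ hij (by omega))

theorem carm_card_le : ∀ k, Finite (PresentedGroup (carmRels k)) ∧
    2 * Nat.card (PresentedGroup (carmRels k)) ≤ (k + 2).factorial := by
  intro k
  induction k with
  | zero =>
    have hs : Subsingleton (PresentedGroup (carmRels 0)) := by
      constructor
      intro a b
      have ha := PresentedGroup.generated_by (carmRels 0) ⊥ (fun j => j.elim0) a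
      have hb := PresentedGroup.generated_by (carmRels 0) ⊥ (fun j => j.elim0) b
      rw [Subgroup.mem_bot] at ha hb
      rw [ha, hb]
    refine ⟨inferInstance, ?_⟩
    rw [Nat.card_unique]
    decide
  | succ m ih =>
    obtain ⟨hfin, hcard⟩ := ih
    haveI := hfin
    haveI : Finite (carmIota m).range :=
      Finite.of_surjective (carmIota m).rangeRestrict (carmIota m).rangeRestrict_surjective
    have hK : ∀ j, j < m → carmX (m + 1) j ∈ (carmIota m).range := fun j hj =>
      ⟨PresentedGroup.of ⟨j, hj⟩, by simp [carmIota]⟩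
    obtain ⟨hfin', hcard'⟩ := carm_card m (carmIota m).range hK
    refine ⟨hfin', ?_⟩
    have h1 : Nat.card (carmIota m).range ≤ Nat.card (PresentedGroup (carmRels m)) :=
      Nat.card_le_card_of_surjective _ (carmIota m).rangeRestrict_surjective
    calc 2 * Nat.card (PresentedGroup (carmRels (m + 1)))
        ≤ 2 * ((m + 3) * Nat.card (carmIota m).range) := by omega
      _ = (m + 3) * (2 * Nat.card (carmIota m).range) := by ring
      _ ≤ (m + 3) * (m + 2).factorial := by
          apply Nat.mul_le_mul_left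
          omega
      _ = (m + 1 + 2).factorial := by
          rw [show m + 1 + 2 = (m + 2) + 1 by ring, Nat.factorial_succ (m + 2)]

end Cfsg.Agent.Helper37
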