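import Mathlib
import Cfsg.Agent.Helper37.Carm

set_option autoImplicit false

namespace Cfsg.Agent.Helper37

open Equiv

/-- adjacent transpositions in `Perm (Fin N)` (trivial when out of range) -/
def carmS (N : ℕ) (i : ℕ) : Equiv.Perm (Fin N) :=
  if h : i + 1 < N then Equiv.swap ⟨i, by omega⟩ ⟨i + 1, h⟩ else 1

theorem carmS_sq (N i : ℕ) : carmS N i * carmS N i = 1 := by
  unfold carmS
  split_ifs
  · exact Equiv.swap_mul_self _ _
  · exact one_mul 1

theorem carmS_comm (N i j : ℕ) (hij : i + 1 < j) : Commute (carmS N i) (carmS N j) := by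
  unfold carmS
  split_ifs with h1 h2
  · apply Equiv.Perm.Disjoint.commute
    apply Equiv.Perm.disjoint_swap_swap
    simp [Fin.ext_iff]
    omega
  · exact Commute.one_right _
  · exact Commute.one_left _
  · exact Commute.one_left _

theorem carmS_braid (N i : ℕ) (hi : i + 2 < N) : (carmS N i * carmS N (i + 1)) ^ 3 = 1 := by
  unfold carmS
  rw [dif_pos (by omega), dif_pos (by omega)]
  have h3 : Equiv.Perm.IsThreeCycle
      (Equiv.swap (⟨i + 1, by omega⟩ : Fin N) ⟨i, by omega⟩ *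
        Equiv.swap (⟨i + 1, by omega⟩ : Fin N) ⟨i + 1 + 1, by omega⟩) :=
    Equiv.Perm.isThreeCycle_swap_mul_swap_same (by simp [Fin.ext_iff]) (by simp [Fin.ext_iff])
      (by simp [Fin.ext_iff]; omega)
  rw [Equiv.swap_comm (⟨i, by omega⟩ : Fin N) ⟨i + 1, by omega⟩, ← h3.orderOf]
  exact pow_orderOf_eq_one _

theorem carmS_apply_of_ne (N i : ℕ) (q : Fin N) (h1 : q.val ≠ i) (h2 : q.val ≠ i + 1) :
    carmS N i q = q := by
  unfold carmS
  split_ifs with h
  · exact Equiv.swap_apply_of_ne_of_ne (fun e => h1 (by rw [e])) (fun e => h2 (by rw [e]))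
  · rfl

theorem carmS_apply_left (N i : ℕ) (h : i + 1 < N) :
    carmS N i ⟨i, by omega⟩ = ⟨i + 1, h⟩ := by
  unfold carmS
  rw [dif_pos h]
  exact Equiv.swap_apply_left _ _

theorem carmS_apply_right (N i : ℕ) (h : i + 1 < N) :
    carmS N i ⟨i + 1, h⟩ = ⟨i, by omega⟩ := by
  unfold carmS
  rw [dif_pos h]
  exact Equiv.swap_apply_right _ _

theorem carmS_sign (N i : ℕ) (h : i + 1 < N) : Equiv.Perm.sign (carmS N i) = -1 := by
  unfold carmS
  rw [dif_pos h]
  exact Equiv.Perm.sign_swap (by simp [Fin.ext_iff])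

/-- the images of the Carmichael generators -/
def carmY (N : ℕ) (j : ℕ) : Equiv.Perm (Fin N) := carmS N 0 * carmS N (j + 1)

theorem carmY_cube (N : ℕ) (hN : 2 < N) : carmY N 0 ^ 3 = 1 :=
  carmS_braid N 0 (by omega)

theorem carm_aux1 {G : Type*} [Group G] (a b c : G) (ha : a * a = 1) (hab : Commute a b) :
    (a * b) * (a * c) = b * c := by
  calc a * b * (a * c) = b * a * (a * c) := by rw [hab.eq]
    _ = b * (a * a) * c := by simp only [mul_assoc]
    _ = b * c := by rw [ha, mul_one]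

theorem carm_aux2 {G : Type*} [Group G] (b c : G) (hb : b * b = 1) (hc : c * c = 1)
    (hbc : Commute b c) : (b * c) ^ 2 = 1 := by
  calc (b * c) ^ 2 = b * c * (b * c) := pow_two _
    _ = b * (c * b) * c := by simp only [mul_assoc]
    _ = b * (b * c) * c := by rw [hbc.eq]
    _ = (b * b) * (c * c) := by simp only [mul_assoc]
    _ = 1 := by rw [hb, hc, mul_one]

theorem carmY_sq (N j : ℕ) (hj : 1 ≤ j) : carmY N j * carmY N j = 1 := by
  have h := carm_aux2 _ _ (carmS_sq N 0) (carmS_sq N (j + 1)) (carmS_comm N 0 (j + 1) (by omega))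
  rw [pow_two] at h
  exact h

theorem carmY_mul (N i j : ℕ) (hi : 1 ≤ i) :
    carmY N i * carmY N j = carmS N (i + 1) * carmS N (j + 1) :=
  carm_aux1 _ _ _ (carmS_sq N 0) (carmS_comm N 0 (i + 1) (by omega))

theorem carmS_010 (N : ℕ) (hN : 2 < N) :
    carmS N 0 * carmS N 1 * carmS N 0 = Equiv.swap (⟨0, by omega⟩ : Fin N) ⟨2, hN⟩ := by
  unfold carmS
  rw [dif_pos (by omega), dif_pos (by omega)]
  have h := Equiv.swap_mul_swap_mul_swap (x := (⟨2, hN⟩ : Fin N)) (y := ⟨1, by omega⟩)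
    (z := ⟨0, by omega⟩) (by simp [Fin.ext_iff]) (by simp [Fin.ext_iff])
  rw [Equiv.swap_comm (⟨1, by omega⟩ : Fin N) ⟨0, by omega⟩,
    Equiv.swap_comm (⟨2, hN⟩ : Fin N) ⟨1, by omega⟩] at h
  exact h

theorem carmY_braid (N i : ℕ) (hi : i + 3 < N) : (carmY N i * carmY N (i + 1)) ^ 3 = 1 := by
  rcases Nat.eq_zero_or_pos i with rfl | hi1
  · have e : carmY N 0 * carmY N (0 + 1) = carmS N 0 * carmS N 1 * carmS N 0 * carmS N 2 := by
      unfold carmY
      simp only [mul_assoc]
    rw [e, carmS_010 N (by omega)]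
    unfold carmS
    rw [dif_pos (by omega)]
    have h3 : Equiv.Perm.IsThreeCycle
        (Equiv.swap (⟨2, by omega⟩ : Fin N) ⟨0, by omega⟩ *
          Equiv.swap (⟨2, by omega⟩ : Fin N) ⟨2 + 1, by omega⟩) :=
      Equiv.Perm.isThreeCycle_swap_mul_swap_same (by simp [Fin.ext_iff]) (by simp [Fin.ext_iff])
        (by simp [Fin.ext_iff])
    rw [Equiv.swap_comm (⟨0, by omega⟩ : Fin N) ⟨2, by omega⟩, ← h3.orderOf]
    exact pow_orderOf_eq_one _
  · rw [carmY_mul N i (i + 1) hi1]
    exact carmS_braid N (i + 1) (by omega)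

theorem carmY_far (N i j : ℕ) (hij : i + 1 < j) : (carmY N i * carmY N j) ^ 2 = 1 := by
  rcases Nat.eq_zero_or_pos i with rfl | hi1
  · have e : carmY N 0 * carmY N j = (carmS N 0 * carmS N 1 * carmS N 0) * carmS N (j + 1) := by
      unfold carmY
      simp only [mul_assoc]
    rw [e]
    apply carm_aux2
    · calc carmS N 0 * carmS N 1 * carmS N 0 * (carmS N 0 * carmS N 1 * carmS N 0)
          = carmS N 0 * (carmS N 1 * ((carmS N 0 * carmS N 0) * carmS N 1)) * carmS N 0 := by
            simp only [mul_assoc]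
        _ = 1 := by rw [carmS_sq, one_mul, carmS_sq, mul_one, carmS_sq]
    · exact carmS_sq _ _
    · exact ((carmS_comm N 0 (j + 1) (by omega)).mul_left (carmS_comm N 1 (j + 1) (by omega))).mul_left
        (carmS_comm N 0 (j + 1) (by omega))
  · rw [carmY_mul N i j hi1]
    exact carm_aux2 _ _ (carmS_sq _ _) (carmS_sq _ _) (carmS_comm N (i + 1) (j + 1) (by omega))

theorem carmY_sign (N j : ℕ) (hj : j + 2 < N) : Equiv.Perm.sign (carmY N j) = 1 := by
  unfold carmY
  rw [map_mul, carmS_sign N 0 (by omega), carmS_sign N (j + 1) (by omega)]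
  rfl

/-- the homomorphism to the symmetric group -/
noncomputable def carmPhi (m : ℕ) :
    PresentedGroup (carmRels (m + 1)) →* Equiv.Perm (Fin (m + 3)) :=
  PresentedGroup.toGroup (f := fun j : Fin (m + 1) => carmY (m + 3) j.val) (by
    intro r hr
    rcases hr with ((⟨i, hi, rfl⟩ | ⟨i, hi, rfl⟩) | ⟨i, j, hij, rfl⟩) | ⟨i, j, hij, rfl⟩
    · simp only [map_pow, FreeGroup.lift_apply_of]
      rw [hi]
      exact carmY_cube _ (by omega)
    · simp only [map_pow, FreeGroup.lift_apply_of]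
      rw [pow_two]
      exact carmY_sq _ _ hi
    · simp only [map_pow, map_mul, FreeGroup.lift_apply_of]
      rw [hij]
      exact carmY_braid _ _ (by omega)
    · simp only [map_pow, map_mul, FreeGroup.lift_apply_of]
      exact carmY_far _ _ _ hij)

theorem carmPhi_of (m : ℕ) (j : Fin (m + 1)) :
    carmPhi m (PresentedGroup.of j) = carmY (m + 3) j.val := by
  unfold carmPhi
  exact PresentedGroup.toGroup.of _

end Cfsg.Agent.Helper37
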