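import Mathlib
import Cfsg.Agent.Helper37.Carm2

set_option autoImplicit false

namespace Cfsg.Agent.Helper37

open Equiv

/-- subgroup generated by the first `t` generators -/
def carmH (N t : ℕ) : Subgroup (Equiv.Perm (Fin N)) :=
  Subgroup.closure {g | ∃ j, j < t ∧ g = carmY N j}

theorem carmH_mono (N : ℕ) {s t : ℕ} (h : s ≤ t) : carmH N s ≤ carmH N t :=
  Subgroup.closure_mono (fun g ⟨j, hj, e⟩ => ⟨j, by omega, e⟩)

theorem carmY_mem (N t j : ℕ) (hj : j < t) : carmY N j ∈ carmH N t :=
  Subgroup.subset_closure ⟨j, hj, rfl⟩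

theorem carmY_apply_of_ge (N j : ℕ) (q : Fin N) (hq : j + 3 ≤ q.val) : carmY N j q = q := by
  unfold carmY
  rw [Equiv.Perm.mul_apply, carmS_apply_of_ne N (j + 1) q (by omega) (by omega),
    carmS_apply_of_ne N 0 q (by omega) (by omega)]

theorem carmH_fix (N t : ℕ) (g : Equiv.Perm (Fin N)) (hg : g ∈ carmH N t) (q : Fin N)
    (hq : t + 2 ≤ q.val) : g q = q := by
  unfold carmH at hg
  induction hg using Subgroup.closure_induction with
  | mem x hx =>
    obtain ⟨j, hj, rfl⟩ := hx
    exact carmY_apply_of_ge N j q (by omega)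
  | one => rfl
  | mul x y _ _ hx hy => rw [Equiv.Perm.mul_apply, hy, hx]
  | inv x _ hx => rw [Equiv.Perm.inv_eq_iff_eq]; exact hx.symm

theorem carmY_apply_top (N j : ℕ) (hj : 1 ≤ j) (h : j + 2 < N) :
    carmY N j ⟨j + 2, h⟩ = ⟨j + 1, by omega⟩ := by
  unfold carmY
  rw [Equiv.Perm.mul_apply, carmS_apply_right N (j + 1) h]
  exact carmS_apply_of_ne N 0 _ (by show j + 1 ≠ 0; omega) (by show j + 1 ≠ 0 + 1; omega)

theorem carmY0_apply_two (N : ℕ) (h : 2 < N) :
    carmY N 0 ⟨2, h⟩ = ⟨0, by omega⟩ := by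
  unfold carmY
  rw [Equiv.Perm.mul_apply, carmS_apply_right N (0 + 1) h]
  exact carmS_apply_right N 0 (by omega)

theorem carmY0_apply_zero (N : ℕ) (h : 2 < N) :
    carmY N 0 ⟨0, by omega⟩ = ⟨1, by omega⟩ := by
  unfold carmY
  rw [Equiv.Perm.mul_apply, carmS_apply_of_ne N (0 + 1) _ (by simp) (by simp)]
  exact carmS_apply_left N 0 (by omega)

theorem carmH_orbit_ge2 (N t : ℕ) (ht : t + 2 < N) (d : ℕ) (hd : d ≤ t) :
    ∃ h ∈ carmH N (t + 1), h ⟨t + 2, ht⟩ = ⟨t + 2 - d, by omega⟩ := by
  induction d with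
  | zero => exact ⟨1, one_mem _, rfl⟩
  | succ d ih =>
    obtain ⟨h, hh, e⟩ := ih (by omega)
    refine ⟨carmY N (t - d) * h, mul_mem (carmY_mem N (t + 1) (t - d) (by omega)) hh, ?_⟩
    rw [Equiv.Perm.mul_apply, e]
    have h1 := carmY_apply_top N (t - d) (by omega) (by omega)
    have e1 : (⟨t + 2 - d, by omega⟩ : Fin N) = ⟨t - d + 2, by omega⟩ := by
      rw [Fin.mk.injEq]; omega
    have e2 : (⟨t + 2 - (d + 1), by omega⟩ : Fin N) = ⟨t - d + 1, by omega⟩ := by
      rw [Fin.mk.injEq]; omega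
    rw [e1, e2]
    exact h1

theorem carmH_orbit (N t : ℕ) (ht : t + 2 < N) (v : ℕ) (hv : v ≤ t + 2) :
    ∃ h ∈ carmH N (t + 1), h ⟨t + 2, ht⟩ = ⟨v, by omega⟩ := by
  obtain ⟨h2, hh2, e2⟩ := carmH_orbit_ge2 N t ht t le_rfl
  have e2' : h2 ⟨t + 2, ht⟩ = ⟨2, by omega⟩ := by
    rw [e2, Fin.mk.injEq]; omega
  by_cases hv2 : 2 ≤ v
  · obtain ⟨h, hh, e⟩ := carmH_orbit_ge2 N t ht (t + 2 - v) (by omega)
    refine ⟨h, hh, ?_⟩
    rw [e, Fin.mk.injEq]; omega
  · have hy0 : carmY N 0 ∈ carmH N (t + 1) := carmY_mem N (t + 1) 0 (by omega)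
    rcases Nat.eq_zero_or_pos v with rfl | hv0
    · refine ⟨carmY N 0 * h2, mul_mem hy0 hh2, ?_⟩
      rw [Equiv.Perm.mul_apply, e2']
      exact carmY0_apply_two N (by omega)
    · have hv1 : v = 1 := by omega
      subst hv1
      refine ⟨carmY N 0 * (carmY N 0 * h2), mul_mem hy0 (mul_mem hy0 hh2), ?_⟩
      rw [Equiv.Perm.mul_apply, Equiv.Perm.mul_apply, e2', carmY0_apply_two N (by omega)]
      exact carmY0_apply_zero N (by omega)

theorem carmH_card (N : ℕ) : ∀ t, t + 1 < N → (t + 2).factorial ≤ 2 * Nat.card (carmH N t) := by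
  intro t
  induction t with
  | zero =>
    intro _
    have : 1 ≤ Nat.card (carmH N 0) := Nat.card_pos
    have h2 : (0 + 2).factorial = 2 := rfl
    omega
  | succ t ih =>
    intro ht
    have ih' := ih (by omega)
    have hb : t + 2 < N := by omega
    let b : Fin N := ⟨t + 2, hb⟩
    have horb : t + 3 ≤ Nat.card (MulAction.orbit (carmH N (t + 1)) b) := by
      have hmem : ∀ v : Fin (t + 3), (⟨v.val, by omega⟩ : Fin N) ∈ MulAction.orbit (carmH N (t + 1)) b := by
        intro v
        obtain ⟨h, hh, e⟩ := carmH_orbit N t hb v.val (by omega)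
        exact ⟨⟨h, hh⟩, e⟩
      have hinj : Function.Injective
          (fun v : Fin (t + 3) => (⟨⟨v.val, by omega⟩, hmem v⟩ : MulAction.orbit (carmH N (t + 1)) b)) := by
        intro v w hvw
        simp only [Subtype.mk.injEq, Fin.mk.injEq] at hvw
        exact Fin.ext hvw
      have := Nat.card_le_card_of_injective _ hinj
      rwa [Nat.card_fin] at this
    have hstab : Nat.card (carmH N t) ≤ Nat.card (MulAction.stabilizer (carmH N (t + 1)) b) := by
      have hmem : ∀ g : carmH N t, (⟨g.1, carmH_mono N (by omega) g.2⟩ : carmH N (t + 1)) ∈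
          MulAction.stabilizer (carmH N (t + 1)) b := by
        intro g
        rw [MulAction.mem_stabilizer_iff]
        exact carmH_fix N t g.1 g.2 b le_rfl
      have hinj : Function.Injective
          (fun g : carmH N t => (⟨⟨g.1, carmH_mono N (by omega) g.2⟩, hmem g⟩ :
            MulAction.stabilizer (carmH N (t + 1)) b)) := by
        intro v w hvw
        simp only [Subtype.mk.injEq] at hvw
        exact Subtype.ext hvw
      exact Nat.card_le_card_of_injective _ hinj
    have hos : Nat.card (MulAction.orbit (carmH N (t + 1)) b) *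
        Nat.card (MulAction.stabilizer (carmH N (t + 1)) b) = Nat.card (carmH N (t + 1)) := by
      rw [← Nat.card_prod]
      exact Nat.card_congr (MulAction.orbitProdStabilizerEquivGroup (carmH N (t + 1)) b)
    have hfac : (t + 1 + 2).factorial = (t + 3) * (t + 2).factorial := Nat.factorial_succ (t + 2)
    rw [hfac, ← hos]
    calc (t + 3) * (t + 2).factorial ≤ (t + 3) * (2 * Nat.card (carmH N t)) :=
          Nat.mul_le_mul_left _ ih'
      _ = 2 * ((t + 3) * Nat.card (carmH N t)) := by ring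
      _ ≤ 2 * (Nat.card (MulAction.orbit (carmH N (t + 1)) b) *
            Nat.card (MulAction.stabilizer (carmH N (t + 1)) b)) :=
          Nat.mul_le_mul_left _ (Nat.mul_le_mul horb hstab)

theorem carm_iso (m : ℕ) :
    Nonempty (PresentedGroup (carmRels (m + 1)) ≃* alternatingGroup (Fin (m + 3))) := by
  obtain ⟨hfin, hcard⟩ := carm_card_le (m + 1)
  have hr : (carmPhi m).range ≤ alternatingGroup (Fin (m + 3)) := by
    rw [MonoidHom.range_eq_map, ← PresentedGroup.closure_range_of, MonoidHom.map_closure,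
      Subgroup.closure_le]
    rintro _ ⟨_, ⟨j, rfl⟩, rfl⟩
    rw [SetLike.mem_coe, Equiv.Perm.mem_alternatingGroup, carmPhi_of]
    exact carmY_sign _ _ (by omega)
  have hH : carmH (m + 3) (m + 1) ≤ (carmPhi m).range := by
    unfold carmH
    rw [Subgroup.closure_le]
    rintro _ ⟨j, hj, rfl⟩
    exact ⟨PresentedGroup.of ⟨j, hj⟩, carmPhi_of m ⟨j, hj⟩⟩
  have h1 := carmH_card (m + 3) (m + 1) (by omega)
  have h2 : Nat.card (carmH (m + 3) (m + 1)) ≤ Nat.card (carmPhi m).range :=
    Subgroup.card_le_of_le hH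
  have h3 : Nat.card (carmPhi m).range ≤ Nat.card (alternatingGroup (Fin (m + 3))) :=
    Subgroup.card_le_of_le hr
  have h4 : 2 * Nat.card (alternatingGroup (Fin (m + 3))) = (m + 3).factorial := by
    rw [two_mul_nat_card_alternatingGroup, Nat.card_perm, Nat.card_fin]
  have h6 : (m + 1 + 2).factorial = (m + 3).factorial := rfl
  have h5 : Nat.card (PresentedGroup (carmRels (m + 1))) ≤ Nat.card (carmPhi m).range := by
    omega
  have hrange : (carmPhi m).range = alternatingGroup (Fin (m + 3)) := by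
    apply Subgroup.eq_of_le_of_card_ge hr
    omega
  have hinj : Function.Injective (carmPhi m) := by
    have hb := Function.Surjective.bijective_of_nat_card_le (f := (carmPhi m).rangeRestrict)
      (carmPhi m).rangeRestrict_surjective h5
    intro a b hab
    apply hb.1
    exact Subtype.ext hab
  exact ⟨(MonoidHom.ofInjective hinj).trans (MulEquiv.subgroupCongr hrange)⟩

end Cfsg.Agent.Helper37
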