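import Mathlib

set_option autoImplicit false

namespace Cfsg.Agent.Helper37

open Nat

/-- the 2-adic valuation of `n!` -/
def hh (n : ℕ) : ℕ := padicValNat 2 (n !)

theorem hh_rec (n : ℕ) : hh n = hh (n / 2) + n / 2 := by
  unfold hh
  haveI : Fact (Nat.Prime 2) := ⟨Nat.prime_two⟩
  rw [← padicValNat_mul_div_factorial n, padicValNat_factorial_mul]

theorem hh_zero : hh 0 = 0 := by
  unfold hh
  simp

theorem hh_mono {a b : ℕ} (hab : a ≤ b) : hh a ≤ hh b := by
  induction b using Nat.strong_induction_on generalizing a with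
  | _ b ih =>
    by_cases hb : b = 0
    · subst hb
      have : a = 0 := by omega
      rw [this]
    · rw [hh_rec a, hh_rec b]
      have h1 : a / 2 ≤ b / 2 := Nat.div_le_div_right hab
      have h2 := ih (b / 2) (by omega) h1
      omega

theorem hh_add (a b : ℕ) : hh a + hh b ≤ hh (a + b) := by
  induction' hn : a + b using Nat.strong_induction_on with n ih generalizing a b
  by_cases h0 : n = 0
  · have ha : a = 0 := by omega
    have hb : b = 0 := by omega
    rw [ha, hb]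
    simp [hh_zero]
  · rw [hh_rec a, hh_rec b, hh_rec n]
    have h1 := ih (a / 2 + b / 2) (by omega) (a / 2) (b / 2) rfl
    have h2 : hh (a / 2 + b / 2) ≤ hh (n / 2) := hh_mono (by omega)
    omega

theorem hh_lt {n : ℕ} (hn : n ≠ 0) : hh n < n := by
  haveI : Fact (Nat.Prime 2) := ⟨Nat.prime_two⟩
  exact padicValNat_factorial_lt_of_ne_zero 2 hn

theorem hh_four (n : ℕ) :
    hh n = hh (n / 4) + 3 * (n / 4) + (if 2 ≤ n % 4 then 1 else 0) := by
  rw [hh_rec n, hh_rec (n / 2)]
  have h1 : n / 2 / 2 = n / 4 := by omega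
  rw [h1]
  split_ifs with h <;> omega

/-- the small factor -/
def cc (r : ℕ) : ℕ := if r = 3 then 3 else if r = 2 then 2 else 1

/-- the bound: `2 ^ ν₂(n!)` for `n % 4 ≠ 3` and `3 * 2 ^ ν₂((n-3)!)` for `n % 4 = 3` -/
def gg (n : ℕ) : ℕ := cc (n % 4) * 2 ^ (hh (n / 4) + 3 * (n / 4))

theorem cc_pos (r : ℕ) : 1 ≤ cc r := by
  unfold cc
  split_ifs <;> omega

theorem gg_pos (n : ℕ) : 1 ≤ gg n := by
  unfold gg
  exact Nat.mul_pos (cc_pos _) (Nat.pos_of_ne_zero (by positivity))

theorem gg_eq_of_ne {n : ℕ} (hn : n % 4 ≠ 3) : gg n = 2 ^ hh n := by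
  unfold gg
  rw [hh_four n]
  have h4 : n % 4 < 4 := Nat.mod_lt _ (by norm_num)
  by_cases h2 : 2 ≤ n % 4
  · have : n % 4 = 2 := by omega
    rw [if_pos h2, this]
    simp [cc, pow_succ, mul_comm]
  · rw [if_neg h2]
    have : cc (n % 4) = 1 := by
      unfold cc
      rw [if_neg (by omega), if_neg (by omega)]
    rw [this, one_mul, add_zero]

theorem two_pow_hh_le_gg (n : ℕ) : 2 ^ hh n ≤ gg n := by
  by_cases hn : n % 4 = 3
  · unfold gg
    rw [hh_four n, hn, if_pos (by norm_num), pow_succ, mul_comm]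
    apply Nat.mul_le_mul_right
    simp [cc]
  · rw [gg_eq_of_ne hn]

theorem cc_mul (r r' : ℕ) (hr : r < 4) (hr' : r' < 4) :
    cc r * cc r' ≤ cc ((r + r') % 4) * 8 ^ ((r + r') / 4) := by
  interval_cases r <;> interval_cases r' <;> simp [cc]

theorem gg_mul (k m : ℕ) : gg k * gg m ≤ gg (k + m) := by
  have hr : k % 4 < 4 := Nat.mod_lt _ (by norm_num)
  have hr' : m % 4 < 4 := Nat.mod_lt _ (by norm_num)
  have h1 := cc_mul (k % 4) (m % 4) hr hr'
  have e1 : (k + m) % 4 = (k % 4 + m % 4) % 4 := by omega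
  have e2 : (k + m) / 4 = k / 4 + m / 4 + (k % 4 + m % 4) / 4 := by omega
  unfold gg
  rw [e1, e2]
  set i := k / 4
  set i' := m / 4
  set t := (k % 4 + m % 4) / 4
  have h3 : hh i + hh i' ≤ hh (i + i' + t) := (hh_add i i').trans (hh_mono (by omega))
  have h4 : (2 : ℕ) ^ (hh i + 3 * i) * 2 ^ (hh i' + 3 * i') * 8 ^ t
      ≤ 2 ^ (hh (i + i' + t) + 3 * (i + i' + t)) := by
    have : (8 : ℕ) ^ t = 2 ^ (3 * t) := by rw [pow_mul]; norm_num
    rw [this, ← pow_add, ← pow_add]
    apply Nat.pow_le_pow_right (by norm_num)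
    omega
  calc cc (k % 4) * 2 ^ (hh i + 3 * i) * (cc (m % 4) * 2 ^ (hh i' + 3 * i'))
      = (cc (k % 4) * cc (m % 4)) * (2 ^ (hh i + 3 * i) * 2 ^ (hh i' + 3 * i')) := by ring
    _ ≤ (cc ((k % 4 + m % 4) % 4) * 8 ^ t) * (2 ^ (hh i + 3 * i) * 2 ^ (hh i' + 3 * i')) :=
        Nat.mul_le_mul_right _ h1
    _ = cc ((k % 4 + m % 4) % 4) * (2 ^ (hh i + 3 * i) * 2 ^ (hh i' + 3 * i') * 8 ^ t) := by ring
    _ ≤ cc ((k % 4 + m % 4) % 4) * 2 ^ (hh (i + i' + t) + 3 * (i + i' + t)) :=
        Nat.mul_le_mul_left _ h4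

theorem gg_le_two_pow {k : ℕ} (hk : 1 ≤ k) : gg k ≤ 2 ^ (k - 1) := by
  unfold gg
  have hr : k % 4 < 4 := Nat.mod_lt _ (by norm_num)
  by_cases hi : k / 4 = 0
  · rw [hi, hh_zero]
    have hk4 : k % 4 = k := by omega
    rw [hk4]
    have : k = 1 ∨ k = 2 ∨ k = 3 := by omega
    rcases this with rfl | rfl | rfl <;> simp [cc]
  · have h1 := hh_lt hi
    have h2 : cc (k % 4) ≤ 2 ^ (k % 4) := by
      interval_cases (k % 4) <;> simp [cc]
    calc cc (k % 4) * 2 ^ (hh (k / 4) + 3 * (k / 4))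
        ≤ 2 ^ (k % 4) * 2 ^ (hh (k / 4) + 3 * (k / 4)) := Nat.mul_le_mul_right _ h2
      _ = 2 ^ (k % 4 + (hh (k / 4) + 3 * (k / 4))) := by rw [← pow_add]
      _ ≤ 2 ^ (k - 1) := Nat.pow_le_pow_right (by norm_num) (by omega)

theorem two_pow_half_le_gg (n : ℕ) : 2 ^ (n / 2) ≤ gg n := by
  unfold gg
  have hr : n % 4 < 4 := Nat.mod_lt _ (by norm_num)
  have h2 : 2 ^ (n % 4 / 2) ≤ cc (n % 4) := by
    interval_cases (n % 4) <;> simp [cc]
  calc 2 ^ (n / 2) = 2 ^ (n % 4 / 2) * 2 ^ (2 * (n / 4)) := by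
        rw [← pow_add]; congr 1; omega
    _ ≤ cc (n % 4) * 2 ^ (hh (n / 4) + 3 * (n / 4)) :=
        Nat.mul_le_mul h2 (Nat.pow_le_pow_right (by norm_num) (by omega))

/-- two coprime-ish factors -/
theorem gg_prod {k l n : ℕ} (hk : 2 ≤ k) (hl : 2 ≤ l) (hkl : k * l ≤ n) :
    gg k * gg l ≤ gg n := by
  have h1 := gg_le_two_pow (k := k) (by omega)
  have h2 := gg_le_two_pow (k := l) (by omega)
  have h3 : k - 1 + (l - 1) ≤ n / 2 := by
    obtain ⟨k', rfl⟩ : ∃ k', k = k' + 2 := ⟨k - 2, by omega⟩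
    obtain ⟨l', rfl⟩ : ∃ l', l = l' + 2 := ⟨l - 2, by omega⟩
    have : (k' + 2) * (l' + 2) = k' * l' + 2 * k' + 2 * l' + 4 := by ring
    rw [this] at hkl
    have : 0 ≤ k' * l' := Nat.zero_le _
    omega
  calc gg k * gg l ≤ 2 ^ (k - 1) * 2 ^ (l - 1) := Nat.mul_le_mul h1 h2
    _ = 2 ^ (k - 1 + (l - 1)) := by rw [← pow_add]
    _ ≤ 2 ^ (n / 2) := Nat.pow_le_pow_right (by norm_num) h3
    _ ≤ gg n := two_pow_half_le_gg n

theorem sq_le_two_pow (t : ℕ) : (t + 7) ^ 2 ≤ 2 ^ (t + 6) := by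
  induction t with
  | zero => norm_num
  | succ t ih =>
    have : (t + 1 + 7) ^ 2 ≤ 2 * (t + 7) ^ 2 := by
      have h1 : (t + 1 + 7) ^ 2 = t * t + 16 * t + 64 := by ring
      have h2 : 2 * (t + 7) ^ 2 = 2 * (t * t) + 28 * t + 98 := by ring
      rw [h1, h2]
      linarith [Nat.zero_le (t * t)]
    calc (t + 1 + 7) ^ 2 ≤ 2 * (t + 7) ^ 2 := this
      _ ≤ 2 * 2 ^ (t + 6) := Nat.mul_le_mul_left _ ih
      _ = 2 ^ (t + 1 + 6) := by ring

/-- bound for `p`-groups, `p ≥ 7` -/
theorem pow_le_gg_of_seven_le {p j n : ℕ} (hp : 7 ≤ p) (h : (p - 1) * j < n) : p ^ j ≤ gg n := by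
  obtain ⟨t, rfl⟩ : ∃ t, p = t + 7 := ⟨p - 7, by omega⟩
  have h1 : ((t + 7) ^ j) ^ 2 ≤ (2 ^ (n / 2)) ^ 2 := by
    calc ((t + 7) ^ j) ^ 2 = ((t + 7) ^ 2) ^ j := by rw [← pow_mul, ← pow_mul, mul_comm]
      _ ≤ (2 ^ (t + 6)) ^ j := Nat.pow_le_pow_left (sq_le_two_pow t) j
      _ = 2 ^ ((t + 6) * j) := by rw [← pow_mul]
      _ ≤ 2 ^ (n / 2 * 2) := Nat.pow_le_pow_right (by norm_num) (by
          have : t + 7 - 1 = t + 6 := by omega
          rw [this] at h
          omega)
      _ = (2 ^ (n / 2)) ^ 2 := by rw [pow_mul]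
  have h2 : (t + 7) ^ j ≤ 2 ^ (n / 2) := by
    by_contra hc
    have hc' : 2 ^ (n / 2) < (t + 7) ^ j := not_le.mp hc
    have := Nat.pow_lt_pow_left hc' (n := 2) (by norm_num)
    omega
  exact h2.trans (two_pow_half_le_gg n)

/-- bound for `5`-groups -/
theorem pow_le_gg_five {j n : ℕ} (h : 4 * j < n) : 5 ^ j ≤ gg n := by
  unfold gg
  have hj : j ≤ n / 4 := by omega
  calc 5 ^ j ≤ 8 ^ j := Nat.pow_le_pow_left (by norm_num) j
    _ ≤ 8 ^ (n / 4) := Nat.pow_le_pow_right (by norm_num) hj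
    _ = 2 ^ (3 * (n / 4)) := by rw [pow_mul]; norm_num
    _ ≤ 2 ^ (hh (n / 4) + 3 * (n / 4)) := Nat.pow_le_pow_right (by norm_num) (by omega)
    _ ≤ cc (n % 4) * 2 ^ (hh (n / 4) + 3 * (n / 4)) := Nat.le_mul_of_pos_left _ (cc_pos _)

theorem three_pow_mod_eight (a : ℕ) : 3 ^ a % 8 = 1 ∨ 3 ^ a % 8 = 3 := by
  induction a with
  | zero => left; norm_num
  | succ a ih =>
    rw [pow_succ, Nat.mul_mod]
    rcases ih with h | h <;> rw [h] <;> norm_num

/-- bound for transitive `3`-groups -/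
theorem pow_le_gg_three {j n : ℕ} (h : 2 * j < n) (hn : n % 8 = 1 ∨ n % 8 = 3) :
    3 ^ j ≤ gg n := by
  unfold gg
  set u := n / 8 with hu
  have h4 : n / 4 = 2 * u := by omega
  have hh2 : u ≤ hh (2 * u) := by
    rw [hh_rec (2 * u)]
    omega
  have key : (81 : ℕ) ^ u ≤ 2 ^ (hh (n / 4) + 3 * (n / 4)) := by
    calc (81 : ℕ) ^ u ≤ 128 ^ u := Nat.pow_le_pow_left (by norm_num) u
      _ = 2 ^ (7 * u) := by rw [pow_mul]; norm_num
      _ ≤ 2 ^ (hh (n / 4) + 3 * (n / 4)) := Nat.pow_le_pow_right (by norm_num) (by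
          rw [h4]; omega)
  rcases hn with hn | hn
  · have hc : cc (n % 4) = 1 := by
      have : n % 4 = 1 := by omega
      rw [this]; simp [cc]
    rw [hc, one_mul]
    have hj : j ≤ 4 * u := by omega
    calc 3 ^ j ≤ 3 ^ (4 * u) := Nat.pow_le_pow_right (by norm_num) hj
      _ = 81 ^ u := by rw [pow_mul]; norm_num
      _ ≤ _ := key
  · have hc : cc (n % 4) = 3 := by
      have : n % 4 = 3 := by omega
      rw [this]; simp [cc]
    rw [hc]
    have hj : j ≤ 4 * u + 1 := by omega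
    calc 3 ^ j ≤ 3 ^ (4 * u + 1) := Nat.pow_le_pow_right (by norm_num) hj
      _ = 3 * 81 ^ u := by rw [pow_succ, pow_mul]; norm_num; ring
      _ ≤ 3 * 2 ^ (hh (n / 4) + 3 * (n / 4)) := Nat.mul_le_mul_left _ key

/-- restriction of a permutation group to an invariant subset -/
def restrHom {X : Type} (G : Subgroup (Equiv.Perm X)) (p : X → Prop)
    (hp : ∀ g ∈ G, ∀ x, p (g x) ↔ p x) : ↥G →* Equiv.Perm {x // p x} where
  toFun g := (g.1).subtypePerm (hp g.1 g.2)
  map_one' := by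
    apply Equiv.ext
    intro x
    rfl
  map_mul' a b := by
    apply Equiv.ext
    intro x
    rfl

theorem restrHom_apply {X : Type} (G : Subgroup (Equiv.Perm X)) (p : X → Prop)
    (hp : ∀ g ∈ G, ∀ x, p (g x) ↔ p x) (g : ↥G) (x : {x // p x}) :
    (restrHom G p hp g x).1 = g.1 x.1 := rfl

/-- the intransitive step -/
theorem card_le_of_invariant {X : Type} [Finite X] (G : Subgroup (Equiv.Perm X))
    [Group.IsNilpotent G] (p : X → Prop) (hp : ∀ g ∈ G, ∀ x, p (g x) ↔ p x) (b1 b2 : ℕ)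
    (h1 : ∀ G' : Subgroup (Equiv.Perm {x // p x}), Group.IsNilpotent G' → Nat.card G' ≤ b1)
    (h2 : ∀ G' : Subgroup (Equiv.Perm {x // ¬ p x}), Group.IsNilpotent G' → Nat.card G' ≤ b2) :
    Nat.card G ≤ b1 * b2 := by
  classical
  let ρ₁ := restrHom G p hp
  let ρ₂ := restrHom G (fun x => ¬ p x) (fun g hg x => not_congr (hp g hg x))
  let K := ρ₁.ker
  let f₂ : ↥K →* Equiv.Perm {x // ¬ p x} := ρ₂.comp K.subtype
  have hinj : Function.Injective f₂ := by
    rw [injective_iff_map_eq_one]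
    intro k hk
    apply Subtype.ext
    apply Subtype.ext
    apply Equiv.ext
    intro x
    by_cases hx : p x
    · have h3 : ρ₁ k.1 = 1 := k.2
      have h4 := congrArg (fun σ : Equiv.Perm {x // p x} => (σ ⟨x, hx⟩).1) h3
      exact h4
    · have h4 := congrArg (fun σ : Equiv.Perm {x // ¬ p x} => (σ ⟨x, hx⟩).1) hk
      exact h4
  have hc1 : Nat.card ρ₁.range ≤ b1 :=
    h1 _ (Group.nilpotent_of_surjective ρ₁.rangeRestrict ρ₁.rangeRestrict_surjective)
  have hc2 : Nat.card f₂.range ≤ b2 :=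
    h2 _ (Group.nilpotent_of_surjective f₂.rangeRestrict f₂.rangeRestrict_surjective)
  have hc3 : Nat.card K = Nat.card f₂.range := Nat.card_congr (Equiv.ofInjective _ hinj)
  have hc4 : Nat.card K * Nat.card ρ₁.range = Nat.card G := by
    rw [← Subgroup.index_ker]
    exact Subgroup.card_mul_index K
  rw [← hc4, hc3, mul_comm]
  exact Nat.mul_le_mul hc1 hc2

/-- an element of `A` fixing an `A`-orbit pointwise is trivial, if `G = B A` is transitive
with `B` centralizing `A`. -/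
theorem eq_one_of_fixes_orbit {X : Type} (G : Subgroup (Equiv.Perm X))
    [MulAction.IsPretransitive G X] (A B : Subgroup G)
    (hcomm : ∀ a ∈ A, ∀ b ∈ B, a * b = b * a)
    (hgen : ∀ g : G, ∃ a ∈ A, ∃ b ∈ B, g = b * a)
    (x : X) (u : G) (hu : u ∈ A) (hfix : ∀ y ∈ MulAction.orbit A x, u • y = y) : u = 1 := by
  apply Subtype.ext
  apply Equiv.ext
  intro y
  obtain ⟨g, rfl⟩ := MulAction.exists_smul_eq G x y
  obtain ⟨a, ha, b, hb, rfl⟩ := hgen g
  show u • ((b * a) • x) = (b * a) • x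
  have hmem : a • x ∈ MulAction.orbit A x := ⟨⟨a, ha⟩, rfl⟩
  rw [mul_smul, ← mul_smul u b, hcomm u hu b hb, mul_smul, hfix (a • x) hmem]

/-- the action of `A` on an `A`-orbit -/
noncomputable def orbitHom {X : Type} (G : Subgroup (Equiv.Perm X)) (A : Subgroup G) (x : X) :
    ↥A →* Equiv.Perm ↥(MulAction.orbit A x) :=
  MulAction.toPermHom ↥A ↥(MulAction.orbit A x)

theorem orbitHom_injective {X : Type} (G : Subgroup (Equiv.Perm X))
    [MulAction.IsPretransitive G X] (A B : Subgroup G)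
    (hcomm : ∀ a ∈ A, ∀ b ∈ B, a * b = b * a)
    (hgen : ∀ g : G, ∃ a ∈ A, ∃ b ∈ B, g = b * a) (x : X) :
    Function.Injective (orbitHom G A x) := by
  rw [injective_iff_map_eq_one]
  intro u hu
  apply Subtype.ext
  apply eq_one_of_fixes_orbit G A B hcomm hgen x u.1 u.2
  intro y hy
  have h1 := congrArg (fun σ : Equiv.Perm ↥(MulAction.orbit A x) => (σ ⟨y, hy⟩).1) hu
  exact h1


/-- the transitive step for a product of two commuting normal subgroups of coprime orders -/
theorem card_le_of_product {X : Type} [Finite X] (G : Subgroup (Equiv.Perm X))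
    [Group.IsNilpotent G] [MulAction.IsPretransitive G X] (A B : Subgroup G)
    [A.Normal] [B.Normal]
    (hcomm : ∀ a ∈ A, ∀ b ∈ B, a * b = b * a) (hcompl : A.IsComplement' B)
    (hcop : (Nat.card A).Coprime (Nat.card B)) (hA : A ≠ ⊥) (hB : B ≠ ⊥)
    (IH : ∀ m < Nat.card X, ∀ (Y : Type) [Finite Y], Nat.card Y = m →
      ∀ G' : Subgroup (Equiv.Perm Y), Group.IsNilpotent G' → Nat.card G' ≤ gg m) :
    Nat.card G ≤ gg (Nat.card X) := by
  classical
  -- a base point
  obtain ⟨x⟩ : Nonempty X := by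
    by_contra hne
    rw [not_nonempty_iff] at hne
    apply hA
    rw [Subgroup.eq_bot_iff_forall]
    intro a _
    apply Subtype.ext
    apply Equiv.ext
    intro y
    exact (hne.false y).elim
  have hgenAB : ∀ g : G, ∃ a ∈ A, ∃ b ∈ B, g = a * b := by
    intro g
    obtain ⟨⟨a, b⟩, hab⟩ := hcompl.2 g
    exact ⟨a.1, a.2, b.1, b.2, hab.symm⟩
  have hgenA : ∀ g : G, ∃ a ∈ A, ∃ b ∈ B, g = b * a := by
    intro g
    obtain ⟨a, ha, b, hb, rfl⟩ := hgenAB g
    exact ⟨a, ha, b, hb, hcomm a ha b hb⟩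
  have hgenB : ∀ g : G, ∃ b ∈ B, ∃ a ∈ A, g = a * b := by
    intro g
    obtain ⟨a, ha, b, hb, rfl⟩ := hgenAB g
    exact ⟨b, hb, a, ha, rfl⟩
  have hcomm' : ∀ b ∈ B, ∀ a ∈ A, b * a = a * b := fun b hb a ha => (hcomm a ha b hb).symm
  set k := (MulAction.orbit A x).ncard with hk
  set l := (MulAction.orbit B x).ncard with hl
  have hkX : k ∣ Nat.card X :=
    (MulAction.IsBlock.orbit_of_normal (G := G) (N := A) x).ncard_dvd_card
      ⟨x, MulAction.mem_orbit_self x⟩
  have hlX : l ∣ Nat.card X :=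
    (MulAction.IsBlock.orbit_of_normal (G := G) (N := B) x).ncard_dvd_card
      ⟨x, MulAction.mem_orbit_self x⟩
  have hkA : k ∣ Nat.card A := by
    rw [hk, ← MulAction.index_stabilizer]
    exact Subgroup.index_dvd_card _
  have hlB : l ∣ Nat.card B := by
    rw [hl, ← MulAction.index_stabilizer]
    exact Subgroup.index_dvd_card _
  have hcop' : k.Coprime l := Nat.Coprime.coprime_dvd_left hkA (Nat.Coprime.coprime_dvd_right hlB hcop)
  have hklX : k * l ∣ Nat.card X := Nat.Coprime.mul_dvd_of_dvd_of_dvd hcop' hkX hlX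
  haveI : Nonempty X := ⟨x⟩
  have hXpos : 0 < Nat.card X := Nat.card_pos
  have hkl : k * l ≤ Nat.card X := Nat.le_of_dvd hXpos hklX
  -- orbits are not singletons
  have key : ∀ (A' B' : Subgroup G), (∀ a ∈ A', ∀ b ∈ B', a * b = b * a) →
      (∀ g : G, ∃ a ∈ A', ∃ b ∈ B', g = b * a) → A' ≠ ⊥ →
      2 ≤ (MulAction.orbit A' x).ncard := by
    intro A' B' hc hg hne
    by_contra hlt
    have hpos : 0 < (MulAction.orbit A' x).ncard :=
      (Set.ncard_pos (Set.toFinite _)).mpr ⟨x, MulAction.mem_orbit_self x⟩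
    have h1 : (MulAction.orbit A' x).ncard = 1 := by omega
    obtain ⟨z, hz⟩ := Set.ncard_eq_one.mp h1
    apply hne
    rw [Subgroup.eq_bot_iff_forall]
    intro u hu
    apply eq_one_of_fixes_orbit G A' B' hc hg x u hu
    intro y hy
    have h3 : u • y ∈ MulAction.orbit A' x := by
      obtain ⟨a, rfl⟩ := hy
      exact ⟨⟨u, hu⟩ * a, mul_smul (⟨u, hu⟩ : ↥A') a x⟩
    rw [hz] at hy h3
    rw [Set.mem_singleton_iff] at hy h3
    rw [h3, hy]
  have hk2 : 2 ≤ k := key A B hcomm hgenA hA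
  have hl2 : 2 ≤ l := key B A hcomm' hgenB hB
  have hkn : k < Nat.card X := by nlinarith
  have hln : l < Nat.card X := by nlinarith
  -- induction hypothesis for both factors
  have hcA : Nat.card A ≤ gg k := by
    have hinj := orbitHom_injective G A B hcomm hgenA x
    have h1 : Nat.card A = Nat.card (orbitHom G A x).range :=
      Nat.card_congr (Equiv.ofInjective _ hinj)
    rw [h1]
    exact IH k hkn ↥(MulAction.orbit A x) (Nat.card_coe_set_eq _) _
      (Group.nilpotent_of_surjective (orbitHom G A x).rangeRestrict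
        (orbitHom G A x).rangeRestrict_surjective)
  have hcB : Nat.card B ≤ gg l := by
    have hinj := orbitHom_injective G B A hcomm' hgenB x
    have h1 : Nat.card B = Nat.card (orbitHom G B x).range :=
      Nat.card_congr (Equiv.ofInjective _ hinj)
    rw [h1]
    exact IH l hln ↥(MulAction.orbit B x) (Nat.card_coe_set_eq _) _
      (Group.nilpotent_of_surjective (orbitHom G B x).rangeRestrict
        (orbitHom G B x).rangeRestrict_surjective)
  rw [← hcompl.card_mul_card]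
  exact (Nat.mul_le_mul hcA hcB).trans (gg_prod hk2 hl2 hkl)


/-- transitive nilpotent groups that are not of prime power order -/
theorem card_le_of_not_pgroup {X : Type} [Finite X] (G : Subgroup (Equiv.Perm X))
    [Group.IsNilpotent G] [MulAction.IsPretransitive G X]
    (hnp : ¬ ∃ p : ℕ, p.Prime ∧ IsPGroup p G)
    (IH : ∀ m < Nat.card X, ∀ (Y : Type) [Finite Y], Nat.card Y = m →
      ∀ G' : Subgroup (Equiv.Perm Y), Group.IsNilpotent G' → Nat.card G' ≤ gg m) :
    Nat.card G ≤ gg (Nat.card X) := by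
  classical
  have hcard1 : Nat.card G ≠ 1 := by
    intro h1
    apply hnp
    refine ⟨2, Nat.prime_two, IsPGroup.of_card (n := 0) ?_⟩
    rw [h1, pow_zero]
  set p := (Nat.card G).minFac with hp
  have hpp : p.Prime := Nat.minFac_prime hcard1
  haveI : Fact p.Prime := ⟨hpp⟩
  have hpdvd : p ∣ Nat.card G := Nat.minFac_dvd _
  let P : Sylow p G := default
  have hPne : (P : Subgroup G) ≠ ⊥ := P.ne_bot_of_dvd_card hpdvd
  have hcopP : (Nat.card (P : Subgroup G)).Coprime (P : Subgroup G).index := P.card_coprime_index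
  obtain ⟨H, hH⟩ := Subgroup.exists_right_complement'_of_coprime hcopP
  have hHcard : (P : Subgroup G).index = Nat.card H := hH.symm.index_eq_card
  have hcop : (Nat.card (P : Subgroup G)).Coprime (Nat.card H) := by rw [← hHcard]; exact hcopP
  -- `H` centralizes `P`
  let C : Subgroup G := Subgroup.centralizer ((P : Subgroup G) : Set G)
  have hHC : H ≤ C := by
    rw [← Subgroup.relIndex_eq_one]
    by_contra hd
    obtain ⟨q, hq, hqd⟩ := Nat.exists_prime_and_dvd hd
    haveI : Fact q.Prime := ⟨hq⟩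
    have hqH : q ∣ Nat.card H := hqd.trans (Subgroup.relIndex_dvd_card C H)
    have hqC : q ∣ C.index := hqd.trans (Subgroup.relIndex_dvd_index_of_normal C H)
    have hqp : q ≠ p := by
      intro hqp
      rw [hqp] at hqH
      have h1 : p ∣ Nat.card (P : Subgroup G) := P.dvd_card_of_dvd_card hpdvd
      have := Nat.eq_one_of_dvd_coprimes hcop h1 hqH
      exact hpp.one_lt.ne' this
    let Q : Sylow q G := default
    have hdis : Disjoint (Q : Subgroup G) (P : Subgroup G) :=
      IsPGroup.disjoint_of_ne q p hqp _ _ Q.isPGroup' P.isPGroup'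
    have hQC : (Q : Subgroup G) ≤ C := by
      intro y hy
      rw [Subgroup.mem_centralizer_iff]
      intro u hu
      exact (Subgroup.commute_of_normal_of_disjoint _ _ inferInstance inferInstance hdis y u
        hy hu).eq.symm
    have h3 : q ∣ (Q : Subgroup G).index := hqC.trans (Subgroup.index_dvd_of_le hQC)
    exact Q.not_dvd_index h3
  have hcomm : ∀ a ∈ (P : Subgroup G), ∀ b ∈ H, a * b = b * a := by
    intro a ha b hb
    exact (Subgroup.mem_centralizer_iff.mp (hHC hb)) a ha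
  have hgenAB : ∀ g : G, ∃ a ∈ (P : Subgroup G), ∃ b ∈ H, g = a * b := by
    intro g
    obtain ⟨⟨a, b⟩, hab⟩ := hH.2 g
    exact ⟨a.1, a.2, b.1, b.2, hab.symm⟩
  haveI : H.Normal := by
    constructor
    intro h hh g
    obtain ⟨a, ha, b, hb, rfl⟩ := hgenAB g
    have h1 : b * h * b⁻¹ ∈ H := H.mul_mem (H.mul_mem hb hh) (H.inv_mem hb)
    have h2 : a * b * h * (a * b)⁻¹ = b * h * b⁻¹ := by
      have := hcomm a ha _ h1
      calc a * b * h * (a * b)⁻¹ = a * (b * h * b⁻¹) * a⁻¹ := by group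
        _ = (b * h * b⁻¹) * a * a⁻¹ := by rw [this]
        _ = b * h * b⁻¹ := by group
    rw [h2]
    exact h1
  have hHne : H ≠ ⊥ := by
    intro hbot
    apply hnp
    refine ⟨p, hpp, ?_⟩
    have h1 := hH.card_mul_card
    rw [hbot, Subgroup.card_bot, mul_one] at h1
    obtain ⟨n, hn⟩ := IsPGroup.iff_card.mp P.isPGroup'
    exact IsPGroup.of_card (n := n) (h1.symm.trans hn)
  exact card_le_of_product G (P : Subgroup G) H hcomm hH hcop hPne hHne IH

/-- transitive `p`-groups -/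
theorem card_le_of_pgroup {X : Type} [Finite X] [Nonempty X] (G : Subgroup (Equiv.Perm X))
    [MulAction.IsPretransitive G X] (p : ℕ) (hp : p.Prime) (hG : IsPGroup p G) :
    Nat.card G ≤ gg (Nat.card X) := by
  classical
  haveI : Fact p.Prime := ⟨hp⟩
  obtain ⟨j, hj⟩ := IsPGroup.iff_card.mp hG
  set n := Nat.card X with hn
  have hn0 : n ≠ 0 := Nat.card_pos.ne'
  have hdvd : p ^ j ∣ n ! := by
    rw [← hj, hn, ← Nat.card_perm]
    exact Subgroup.card_subgroup_dvd_card G
  have hjle : j ≤ padicValNat p (n !) := (padicValNat_dvd_iff_le (Nat.factorial_ne_zero n)).mp hdvd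
  have hlt : (p - 1) * padicValNat p (n !) < n :=
    sub_one_mul_padicValNat_factorial_lt_of_ne_zero p hn0
  have hlt' : (p - 1) * j < n := lt_of_le_of_lt (Nat.mul_le_mul_left _ hjle) hlt
  rw [hj]
  have hcases : p = 2 ∨ p = 3 ∨ p = 5 ∨ 7 ≤ p := by
    have h2 := hp.two_le
    by_contra hc
    have : p = 4 ∨ p = 6 := by omega
    rcases this with rfl | rfl
    · exact absurd hp (by norm_num)
    · exact absurd hp (by norm_num)
  rcases hcases with rfl | rfl | rfl | h7
  · exact (Nat.pow_le_pow_right (by norm_num) hjle).trans (two_pow_hh_le_gg n)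
  · -- `n` is a power of `3`
    obtain ⟨x⟩ : Nonempty X := inferInstance
    have h1 : (MulAction.stabilizer G x).index = n := by
      rw [MulAction.index_stabilizer, MulAction.orbit_eq_univ, Set.ncard_univ]
    have h2 : n ∣ 3 ^ j := by
      rw [← hj, ← h1]
      exact Subgroup.index_dvd_card _
    obtain ⟨a, -, ha⟩ := (Nat.dvd_prime_pow Nat.prime_three).mp h2
    refine pow_le_gg_three (by omega) ?_
    rw [ha]
    exact three_pow_mod_eight a
  · exact pow_le_gg_five (by omega)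
  · exact pow_le_gg_of_seven_le h7 hlt'

/-- **Nilpotent subgroups of symmetric groups are small.** -/
theorem nilpotent_card_le : ∀ (n : ℕ) (X : Type) [Finite X], Nat.card X = n →
    ∀ G : Subgroup (Equiv.Perm X), Group.IsNilpotent G → Nat.card G ≤ gg n := by
  intro n
  induction n using Nat.strong_induction_on with
  | _ n ih =>
    intro X _ hX G hG
    classical
    by_cases hne : Nonempty X
    · by_cases htrans : MulAction.IsPretransitive G X
      · by_cases hp : ∃ p : ℕ, p.Prime ∧ IsPGroup p G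
        · obtain ⟨p, hp, hpG⟩ := hp
          rw [← hX]
          exact card_le_of_pgroup G p hp hpG
        · rw [← hX]
          exact card_le_of_not_pgroup G hp (fun m hm Y _ hY G' hG' => ih m (hX ▸ hm) Y hY G' hG')
      · -- intransitive
        rw [MulAction.isPretransitive_iff] at htrans
        simp only [not_forall, not_exists] at htrans
        obtain ⟨x, y, hxy⟩ := htrans
        let Y : Set X := MulAction.orbit G x
        have hinv : ∀ g ∈ G, ∀ z, (g z ∈ Y) ↔ z ∈ Y := by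
          intro g hg z
          show (⟨g, hg⟩ : G) • z ∈ MulAction.orbit G x ↔ z ∈ MulAction.orbit G x
          rw [← MulAction.orbit_eq_iff, ← MulAction.orbit_eq_iff, MulAction.orbit_smul]
        have hy : y ∉ Y := by
          rintro ⟨g, hg⟩
          exact hxy g hg
        have hsum : Nat.card {z // z ∈ Y} + Nat.card {z // ¬ z ∈ Y} = n := by
          rw [← hX, ← Nat.card_sum]
          exact Nat.card_congr (Equiv.sumCompl (· ∈ Y))
        have h1pos : 0 < Nat.card {z // z ∈ Y} := by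
          haveI : Nonempty {z // z ∈ Y} := ⟨⟨x, MulAction.mem_orbit_self x⟩⟩
          exact Nat.card_pos
        have h2pos : 0 < Nat.card {z // ¬ z ∈ Y} := by
          haveI : Nonempty {z // ¬ z ∈ Y} := ⟨⟨y, hy⟩⟩
          exact Nat.card_pos
        have key := card_le_of_invariant G (· ∈ Y) hinv
          (gg (Nat.card {z // z ∈ Y})) (gg (Nat.card {z // ¬ z ∈ Y}))
          (fun G' hG' => ih _ (by omega) _ rfl G' hG')
          (fun G' hG' => ih _ (by omega) _ rfl G' hG')
        rw [← hsum]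
        exact key.trans (gg_mul _ _)
    · rw [not_nonempty_iff] at hne
      have : Nat.card G = 1 := by
        rw [Nat.card_eq_one_iff_unique]
        refine ⟨⟨?_⟩, ⟨1⟩⟩
        intro a b
        apply Subtype.ext
        apply Equiv.ext
        intro z
        exact (hne.false z).elim
      rw [this]
      exact gg_pos n

end Cfsg.Agent.Helper37
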