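import Mathlib
import Cfsg.Agent.Helper37.NilSym

set_option autoImplicit false

namespace Cfsg.Agent.Helper37

open Nat

/-! numeric facts on `hh` -/

theorem hh_two_pow (a : ℕ) : hh (2 ^ a) + 1 = 2 ^ a := by
  induction a with
  | zero =>
    rw [pow_zero, hh_rec 1]
    simp [hh_zero]
  | succ a ih =>
    rw [hh_rec (2 ^ (a + 1))]
    have h1 : 2 ^ (a + 1) / 2 = 2 ^ a := by rw [pow_succ]; simp
    rw [h1, pow_succ]
    omega

theorem hh_pred {n : ℕ} (hn : 1 ≤ n) : padicValNat 2 n + hh (n - 1) = hh n := by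
  unfold hh
  obtain ⟨m, rfl⟩ : ∃ m, n = m + 1 := ⟨n - 1, by omega⟩
  haveI : Fact (Nat.Prime 2) := ⟨Nat.prime_two⟩
  rw [Nat.add_sub_cancel, Nat.factorial_succ, padicValNat.mul (by omega) (Nat.factorial_ne_zero m)]

theorem hh_pred_of_mul {n j e : ℕ} (h : n * 2 ^ j = 2 ^ e) : padicValNat 2 n + j = e := by
  haveI : Fact (Nat.Prime 2) := ⟨Nat.prime_two⟩
  have hn : n ≠ 0 := by
    rintro rfl
    simp at h
    exact absurd h.symm (by positivity)
  have h1 := congrArg (padicValNat 2) h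
  rw [padicValNat.mul hn (by positivity), padicValNat.prime_pow, padicValNat.prime_pow] at h1
  exact h1

/-- the sign homomorphism, free of instance arguments -/
noncomputable def sgnHom (X : Type) [Finite X] : Equiv.Perm X →* ℤˣ :=
  @Equiv.Perm.sign X (Classical.decEq X) (Fintype.ofFinite X)

theorem sgnHom_eq_sign {X : Type} [Fintype X] [DecidableEq X] (σ : Equiv.Perm X) :
    sgnHom X σ = Equiv.Perm.sign σ := by
  unfold sgnHom
  congr!

/-- the alternating group as a subgroup, free of instance arguments -/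
noncomputable def altS (X : Type) [Finite X] : Subgroup (Equiv.Perm X) := (sgnHom X).ker

theorem altS_eq {X : Type} [Fintype X] [DecidableEq X] : altS X = alternatingGroup X := by
  ext σ
  unfold altS
  rw [MonoidHom.mem_ker, sgnHom_eq_sign, Equiv.Perm.mem_alternatingGroup]

theorem card_altS {X : Type} [Finite X] (h : 2 ≤ Nat.card X) :
    Nat.card (altS X) * 2 = (Nat.card X)! := by
  classical
  haveI : Fintype X := Fintype.ofFinite X
  haveI : Nontrivial X := by
    rw [← Finite.one_lt_card_iff_nontrivial]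
    omega
  have h1 := two_mul_nat_card_alternatingGroup (α := X)
  rw [altS_eq, mul_comm, h1, Nat.card_perm]

/-- extension of a permutation of a subtype by the identity -/
noncomputable def extP {X : Type} (p : X → Prop) : Equiv.Perm {x // p x} →* Equiv.Perm X :=
  @Equiv.Perm.ofSubtype X p (Classical.decPred p)

theorem extP_apply_mem {X : Type} (p : X → Prop) (σ : Equiv.Perm {x // p x}) {x : X}
    (hx : p x) : extP p σ x = σ ⟨x, hx⟩ := by
  unfold extP
  letI := Classical.decPred p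
  exact Equiv.Perm.ofSubtype_apply_of_mem σ hx

theorem extP_apply_not {X : Type} (p : X → Prop) (σ : Equiv.Perm {x // p x}) {x : X}
    (hx : ¬ p x) : extP p σ x = x := by
  unfold extP
  letI := Classical.decPred p
  exact Equiv.Perm.ofSubtype_apply_of_not_mem σ hx

theorem extP_injective {X : Type} (p : X → Prop) : Function.Injective (extP p) := by
  intro σ τ h
  apply Equiv.ext
  intro x
  apply Subtype.ext
  have h1 := congrArg (fun f : Equiv.Perm X => f x.1) h
  simp only [extP_apply_mem p _ x.2] at h1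
  exact h1

theorem extP_subtypePerm {X : Type} (p : X → Prop) (τ : Equiv.Perm X)
    (h₁ : ∀ x, p (τ x) ↔ p x) (h₂ : ∀ x, ¬ p x → τ x = x) :
    extP p (τ.subtypePerm h₁) = τ := by
  apply Equiv.ext
  intro x
  by_cases hx : p x
  · rw [extP_apply_mem p _ hx]
    rfl
  · rw [extP_apply_not p _ hx, h₂ x hx]

theorem sgnHom_extP {X : Type} [Finite X] (p : X → Prop) (σ : Equiv.Perm {x // p x}) :
    sgnHom X (extP p σ) = sgnHom {x // p x} σ := by
  classical
  haveI : Fintype X := Fintype.ofFinite X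
  rw [sgnHom_eq_sign, sgnHom_eq_sign]
  unfold extP
  convert Equiv.Perm.sign_ofSubtype σ

/-- the permutations of the subtype whose extension lies in `S` -/
noncomputable def fixSub {X : Type} (S : Subgroup (Equiv.Perm X)) (p : X → Prop) :
    Subgroup (Equiv.Perm {x // p x}) := S.comap (extP p)

theorem mem_fixSub {X : Type} (S : Subgroup (Equiv.Perm X)) (p : X → Prop)
    (σ : Equiv.Perm {x // p x}) : σ ∈ fixSub S p ↔ extP p σ ∈ S := Iff.rfl

theorem fixSub_isPGroup {X : Type} {S : Subgroup (Equiv.Perm X)} (hS : IsPGroup 2 S)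
    (p : X → Prop) : IsPGroup 2 (fixSub S p) :=
  hS.comap_of_injective (extP p) (extP_injective p)

theorem fixSub_le_altS {X : Type} [Finite X] {S : Subgroup (Equiv.Perm X)} (hS : S ≤ altS X)
    (p : X → Prop) : fixSub S p ≤ altS {x // p x} := by
  intro σ hσ
  have h1 : extP p σ ∈ altS X := hS hσ
  unfold altS at h1 ⊢
  rw [MonoidHom.mem_ker] at h1 ⊢
  rw [← sgnHom_extP p σ]
  exact h1

theorem two_group_card {X : Type} [Finite X] {S : Subgroup (Equiv.Perm X)} (hS : IsPGroup 2 S) :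
    ∃ k, Nat.card S = 2 ^ k ∧ k ≤ hh (Nat.card X) := by
  haveI : Fact (Nat.Prime 2) := ⟨Nat.prime_two⟩
  obtain ⟨k, hk⟩ := IsPGroup.iff_card.mp hS
  refine ⟨k, hk, ?_⟩
  have h1 : Nat.card S ∣ Nat.card (Equiv.Perm X) := Subgroup.card_subgroup_dvd_card S
  rw [hk, Nat.card_perm] at h1
  unfold hh
  exact (padicValNat_dvd_iff_le (Nat.factorial_ne_zero _)).mp h1

theorem two_group_card_alt {X : Type} [Finite X] {S : Subgroup (Equiv.Perm X)}
    (hS : IsPGroup 2 S) (hA : S ≤ altS X) (h2 : 2 ≤ Nat.card X) :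
    ∃ k, Nat.card S = 2 ^ k ∧ k + 1 ≤ hh (Nat.card X) := by
  haveI : Fact (Nat.Prime 2) := ⟨Nat.prime_two⟩
  obtain ⟨k, hk⟩ := IsPGroup.iff_card.mp hS
  refine ⟨k, hk, ?_⟩
  have h1 : Nat.card S ∣ Nat.card (altS X) := Subgroup.card_dvd_of_le hA
  have h3 : 2 ^ (k + 1) ∣ (Nat.card X)! := by
    rw [← card_altS h2, pow_succ, ← hk]
    exact Nat.mul_dvd_mul_right h1 2
  unfold hh
  exact (padicValNat_dvd_iff_le (Nat.factorial_ne_zero _)).mp h3

theorem nz_inv {G : Type*} [Group G] (S : Subgroup G) [Finite S] (g : G)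
    (hg : ∀ h ∈ S, g * h * g⁻¹ ∈ S) : ∀ h ∈ S, g⁻¹ * h * g⁻¹⁻¹ ∈ S := by
  intro h hh'
  let c : S → S := fun s => ⟨g * s.1 * g⁻¹, hg s.1 s.2⟩
  have hinj : Function.Injective c := by
    intro a b hab
    have h1 : g * a.1 * g⁻¹ = g * b.1 * g⁻¹ := congrArg Subtype.val hab
    exact Subtype.ext (by simpa using h1)
  obtain ⟨s, hs⟩ := (Finite.injective_iff_surjective.mp hinj) ⟨h, hh'⟩
  have h1 : g * s.1 * g⁻¹ = h := congrArg Subtype.val hs
  have h2 : g⁻¹ * h * g⁻¹⁻¹ = s.1 := by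
    rw [← h1]
    group
  rw [h2]
  exact s.2

theorem card_subtype_add {X : Type} [Finite X] (p : X → Prop) :
    Nat.card {x // p x} + Nat.card {x // ¬ p x} = Nat.card X := by
  classical
  rw [← Nat.card_sum]
  exact Nat.card_congr (Equiv.sumCompl p)

theorem card_fixSub {X : Type} (S : Subgroup (Equiv.Perm X)) (q : X → Prop) (T : Subgroup ↥S)
    (hT : ∀ τ : ↥S, τ ∈ T ↔ ∀ x, ¬ q x → τ.1 x = x) :
    Nat.card T = Nat.card (fixSub S q) := by
  symm
  let f : ↥(fixSub S q) → ↥T := fun σ =>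
    ⟨⟨extP q σ.1, σ.2⟩, (hT _).mpr (fun x hx => extP_apply_not q σ.1 hx)⟩
  apply Nat.card_congr (Equiv.ofBijective f ⟨?_, ?_⟩)
  · intro a b hab
    have h1 : extP q a.1 = extP q b.1 := congrArg (fun t : ↥T => t.1.1) hab
    exact Subtype.ext (extP_injective q h1)
  · intro τ
    have h2 := (hT τ.1).mp τ.2
    have h1 : ∀ x, q (τ.1.1 x) ↔ q x := by
      intro x
      by_cases hx : q x
      · simp only [hx, iff_true]
        by_contra hc
        have h3 := h2 _ hc
        have h4 : τ.1.1 x = x := τ.1.1.injective h3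
        rw [h4] at hc
        exact hc hx
      · rw [h2 x hx]
    refine ⟨⟨τ.1.1.subtypePerm h1, ?_⟩, ?_⟩
    · show extP q _ ∈ S
      rw [extP_subtypePerm q _ h1 h2]
      exact τ.1.2
    · apply Subtype.ext
      apply Subtype.ext
      exact extP_subtypePerm q _ h1 h2

theorem card_decomp {X : Type} [Finite X] (S : Subgroup (Equiv.Perm X)) (p : X → Prop)
    (hp : ∀ g ∈ S, ∀ x, p (g x) ↔ p x) :
    Nat.card S = Nat.card (restrHom S p hp).range * Nat.card (fixSub S (fun x => ¬ p x)) := by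
  have h1 : Nat.card (restrHom S p hp).ker = Nat.card (fixSub S (fun x => ¬ p x)) := by
    apply card_fixSub
    intro τ
    rw [MonoidHom.mem_ker]
    constructor
    · intro h x hx
      have hx' : p x := not_not.mp hx
      have h3 := congrArg (fun σ : Equiv.Perm {x // p x} => (σ ⟨x, hx'⟩).1) h
      exact h3
    · intro h
      apply Equiv.ext
      intro x
      apply Subtype.ext
      exact h x.1 (not_not.mpr x.2)
  rw [← h1, ← Subgroup.index_ker, mul_comm]
  exact (Subgroup.card_mul_index _).symm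

theorem card_stab {X : Type} [Finite X] (S : Subgroup (Equiv.Perm X))
    (htr : ∀ x y : X, ∃ σ ∈ S, σ x = y) (x : X) :
    Nat.card S = Nat.card X * Nat.card (fixSub S (fun y => y ≠ x)) := by
  haveI : MulAction.IsPretransitive ↥S X := ⟨fun a b => by
    obtain ⟨σ, hσ, h⟩ := htr a b
    exact ⟨⟨σ, hσ⟩, h⟩⟩
  have h1 : Nat.card (MulAction.stabilizer ↥S x) = Nat.card (fixSub S (fun y => y ≠ x)) := by
    apply card_fixSub
    intro τ
    rw [MulAction.mem_stabilizer_iff]
    constructor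
    · intro h y hy
      have h3 : y = x := not_not.mp hy
      rw [h3]
      exact h
    · intro h
      exact h x (by simp)
  rw [← h1, ← MulAction.index_stabilizer_of_transitive ↥S x, mul_comm]
  exact (Subgroup.card_mul_index _).symm

/-- a 2-subgroup of the symmetric group of the largest possible order -/
def Full2 {X : Type} (P : Subgroup (Equiv.Perm X)) : Prop :=
  IsPGroup 2 P ∧ Nat.card P = 2 ^ hh (Nat.card X)

/-- a 2-subgroup of the alternating group of the largest possible order -/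
def FullA {X : Type} [Finite X] (Q : Subgroup (Equiv.Perm X)) : Prop :=
  IsPGroup 2 Q ∧ Q ≤ altS X ∧ Nat.card Q * 2 = 2 ^ hh (Nat.card X)

theorem full2_decomp {X : Type} [Finite X] {P : Subgroup (Equiv.Perm X)} (hP : Full2 P)
    (p : X → Prop) (hp : ∀ g ∈ P, ∀ x, p (g x) ↔ p x) :
    Full2 (restrHom P p hp).range ∧ Full2 (fixSub P (fun x => ¬ p x)) ∧
      hh (Nat.card X) = hh (Nat.card {x // p x}) + hh (Nat.card {x // ¬ p x}) := by
  have hr : IsPGroup 2 (restrHom P p hp).range :=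
    IsPGroup.of_surjective hP.1 (restrHom P p hp).rangeRestrict
      (restrHom P p hp).rangeRestrict_surjective
  have hf := fixSub_isPGroup hP.1 (fun x => ¬ p x)
  obtain ⟨k1, hk1, hk1'⟩ := two_group_card hr
  obtain ⟨k2, hk2, hk2'⟩ := two_group_card hf
  have h1 := card_decomp P p hp
  rw [hP.2, hk1, hk2, ← pow_add] at h1
  have h2 : hh (Nat.card X) = k1 + k2 := Nat.pow_right_injective (le_refl 2) h1
  have h3 := hh_add (Nat.card {x // p x}) (Nat.card {x // ¬ p x})
  rw [card_subtype_add p] at h3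
  refine ⟨⟨hr, ?_⟩, ⟨hf, ?_⟩, ?_⟩
  · rw [hk1]
    congr 1
    omega
  · rw [hk2]
    congr 1
    omega
  · omega

theorem fullA_decomp {X : Type} [Finite X] {Q : Subgroup (Equiv.Perm X)} (hQ : FullA Q)
    (p : X → Prop) (hp : ∀ g ∈ Q, ∀ x, p (g x) ↔ p x) (h2 : 2 ≤ Nat.card {x // ¬ p x}) :
    Full2 (restrHom Q p hp).range ∧ FullA (fixSub Q (fun x => ¬ p x)) ∧
      hh (Nat.card X) = hh (Nat.card {x // p x}) + hh (Nat.card {x // ¬ p x}) := by
  have hr : IsPGroup 2 (restrHom Q p hp).range :=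
    IsPGroup.of_surjective hQ.1 (restrHom Q p hp).rangeRestrict
      (restrHom Q p hp).rangeRestrict_surjective
  have hf := fixSub_isPGroup hQ.1 (fun x => ¬ p x)
  have hfa := fixSub_le_altS hQ.2.1 (fun x => ¬ p x)
  obtain ⟨k1, hk1, hk1'⟩ := two_group_card hr
  obtain ⟨k2, hk2, hk2'⟩ := two_group_card_alt hf hfa h2
  have h1 := card_decomp Q p hp
  have h4 := hQ.2.2
  rw [h1, hk1, hk2, ← pow_add, ← pow_succ] at h4
  have h5 : k1 + k2 + 1 = hh (Nat.card X) := Nat.pow_right_injective (le_refl 2) h4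
  have h3 := hh_add (Nat.card {x // p x}) (Nat.card {x // ¬ p x})
  rw [card_subtype_add p] at h3
  refine ⟨⟨hr, ?_⟩, ⟨hf, hfa, ?_⟩, ?_⟩
  · rw [hk1]
    congr 1
    omega
  · rw [hk2, ← pow_succ]
    congr 1
    omega
  · omega

theorem orbPred_invariant {X : Type} (P : Subgroup (Equiv.Perm X)) (x : X) :
    ∀ g ∈ P, ∀ z, (∃ σ ∈ P, σ x = g z) ↔ (∃ σ ∈ P, σ x = z) := by
  intro g hg z
  constructor
  · rintro ⟨σ, hσ, h⟩
    exact ⟨g⁻¹ * σ, P.mul_mem (P.inv_mem hg) hσ, by simp [Equiv.Perm.mul_apply, h]⟩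
  · rintro ⟨σ, hσ, h⟩
    exact ⟨g * σ, P.mul_mem hg hσ, by simp [Equiv.Perm.mul_apply, h]⟩

theorem orbPred_invariant_of_norm {X : Type} (S : Subgroup (Equiv.Perm X)) [Finite S] (x : X)
    (g : Equiv.Perm X) (hg : ∀ h ∈ S, g * h * g⁻¹ ∈ S) (hx : ∃ σ ∈ S, σ x = g x) :
    ∀ z, (∃ σ ∈ S, σ x = g z) ↔ (∃ σ ∈ S, σ x = z) := by
  have hg' := nz_inv S g hg
  obtain ⟨τ, hτ, hτx⟩ := hx
  intro z
  constructor
  · rintro ⟨σ, hσ, h⟩
    refine ⟨g⁻¹ * (σ * τ⁻¹) * g⁻¹⁻¹, hg' _ (S.mul_mem hσ (S.inv_mem hτ)), ?_⟩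
    simp only [Equiv.Perm.mul_apply, inv_inv]
    rw [← hτx]
    simp [h]
  · rintro ⟨σ, hσ, h⟩
    refine ⟨g * σ * g⁻¹ * τ, S.mul_mem (hg _ hσ) hτ, ?_⟩
    simp only [Equiv.Perm.mul_apply]
    rw [hτx]
    simp [h]

theorem nz_restr {X : Type} (S : Subgroup (Equiv.Perm X)) (p : X → Prop)
    (hp : ∀ g ∈ S, ∀ x, p (g x) ↔ p x) (g : Equiv.Perm X) (hgp : ∀ x, p (g x) ↔ p x)
    (hg : ∀ h ∈ S, g * h * g⁻¹ ∈ S) :
    ∀ h ∈ (restrHom S p hp).range,
      g.subtypePerm hgp * h * (g.subtypePerm hgp)⁻¹ ∈ (restrHom S p hp).range := by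
  rintro h ⟨π, rfl⟩
  refine ⟨⟨g * π.1 * g⁻¹, hg π.1 π.2⟩, ?_⟩
  apply Equiv.ext
  intro x
  apply Subtype.ext
  rfl

theorem nz_fixSub {X : Type} (S : Subgroup (Equiv.Perm X)) (q : X → Prop)
    (g : Equiv.Perm X) (hgq : ∀ x, q (g x) ↔ q x) (hg : ∀ h ∈ S, g * h * g⁻¹ ∈ S) :
    ∀ h ∈ fixSub S q, g.subtypePerm hgq * h * (g.subtypePerm hgq)⁻¹ ∈ fixSub S q := by
  intro h hh'
  rw [mem_fixSub] at hh' ⊢
  have key : extP q (g.subtypePerm hgq * h * (g.subtypePerm hgq)⁻¹) = g * extP q h * g⁻¹ := by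
    apply Equiv.ext
    intro x
    have hiff : q (g⁻¹ x) ↔ q x := by
      have h1 := hgq (g⁻¹ x)
      have h0 : g (g⁻¹ x) = x := by simp
      rw [h0] at h1
      exact h1.symm
    by_cases hx : q x
    · have hx' : q (g⁻¹ x) := hiff.mpr hx
      rw [extP_apply_mem q _ hx]
      simp only [Equiv.Perm.mul_apply]
      rw [extP_apply_mem q _ hx']
      rfl
    · have hx' : ¬ q (g⁻¹ x) := fun h1 => hx (hiff.mp h1)
      rw [extP_apply_not q _ hx]
      simp only [Equiv.Perm.mul_apply]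
      rw [extP_apply_not q _ hx']
      simp
  rw [key]
  exact hg _ hh'

theorem full2_transitive {X : Type} [Finite X] {P : Subgroup (Equiv.Perm X)} (hP : Full2 P)
    (b : ℕ) (hX : Nat.card X = 2 ^ b) : ∀ x y : X, ∃ σ ∈ P, σ x = y := by
  intro x y
  by_contra hxy
  have hp := orbPred_invariant P x
  obtain ⟨-, -, h3⟩ := full2_decomp hP (fun z => ∃ σ ∈ P, σ x = z) hp
  have hY : 1 ≤ Nat.card {z // ∃ σ ∈ P, σ x = z} := by
    haveI : Nonempty {z // ∃ σ ∈ P, σ x = z} := ⟨⟨x, 1, P.one_mem, rfl⟩⟩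
    exact Nat.card_pos
  have hZ : 1 ≤ Nat.card {z // ¬ ∃ σ ∈ P, σ x = z} := by
    haveI : Nonempty {z // ¬ ∃ σ ∈ P, σ x = z} := ⟨⟨y, hxy⟩⟩
    exact Nat.card_pos
  have h4 := card_subtype_add (fun z => ∃ σ ∈ P, σ x = z)
  have h5 := hh_lt (n := Nat.card {z // ∃ σ ∈ P, σ x = z}) (by omega)
  have h6 := hh_lt (n := Nat.card {z // ¬ ∃ σ ∈ P, σ x = z}) (by omega)
  have h7 := hh_two_pow b
  rw [hX] at h3 h4
  omega

theorem two_orbits_invariant {X : Type} (S : Subgroup (Equiv.Perm X)) (x y : X) :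
    ∀ h ∈ S, ∀ z, ((∃ σ ∈ S, σ x = h z) ∨ (∃ σ ∈ S, σ y = h z)) ↔
      ((∃ σ ∈ S, σ x = z) ∨ (∃ σ ∈ S, σ y = z)) := fun h hh' z =>
  or_congr (orbPred_invariant S x h hh' z) (orbPred_invariant S y h hh' z)

theorem two_orbits_card {X : Type} [Finite X] {S : Subgroup (Equiv.Perm X)} (hS : IsPGroup 2 S)
    (g : Equiv.Perm X) (hg : ∀ h ∈ S, g * h * g⁻¹ ∈ S) (x : X)
    (hx : ¬ ∃ σ ∈ S, σ x = g x) :
    ∃ a : ℕ, Nat.card {z // ∃ σ ∈ S, σ x = z} = 2 ^ a ∧
      Nat.card {z // (∃ σ ∈ S, σ x = z) ∨ (∃ σ ∈ S, σ (g x) = z)} = 2 ^ (a + 1) := by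
  haveI : Fact (Nat.Prime 2) := ⟨Nat.prime_two⟩
  have hg' := nz_inv S g hg
  let A : Set X := {z | ∃ σ ∈ S, σ x = z}
  let B : Set X := {z | ∃ σ ∈ S, σ (g x) = z}
  obtain ⟨a, ha⟩ := hS.card_orbit x
  have hA : A = MulAction.orbit ↥S x := by
    ext z
    constructor
    · rintro ⟨σ, hσ, h⟩
      exact ⟨⟨σ, hσ⟩, h⟩
    · rintro ⟨σ, h⟩
      exact ⟨σ.1, σ.2, h⟩
  have hAc : A.ncard = 2 ^ a := by
    rw [hA, ← ha]
    exact (Nat.card_coe_set_eq _).symm
  have hB : B = g '' A := by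
    ext z
    constructor
    · rintro ⟨σ, hσ, h⟩
      refine ⟨(g⁻¹ * σ * g⁻¹⁻¹) x, ⟨_, hg' σ hσ, rfl⟩, ?_⟩
      simp only [Equiv.Perm.mul_apply, inv_inv]
      simp [h]
    · rintro ⟨w, ⟨σ, hσ, h⟩, rfl⟩
      refine ⟨g * σ * g⁻¹, hg σ hσ, ?_⟩
      simp only [Equiv.Perm.mul_apply]
      simp [h]
  have hBc : B.ncard = 2 ^ a := by
    rw [hB, Set.ncard_image_of_injective A g.injective, hAc]
  have hdisj : Disjoint A B := by
    rw [Set.disjoint_left]
    rintro z ⟨σ, hσ, h⟩ ⟨τ, hτ, h'⟩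
    apply hx
    refine ⟨τ⁻¹ * σ, S.mul_mem (S.inv_mem hτ) hσ, ?_⟩
    simp only [Equiv.Perm.mul_apply]
    rw [h, ← h']
    simp
  refine ⟨a, ?_, ?_⟩
  · rw [← hAc]
    exact Nat.card_coe_set_eq A
  · have h1 : (A ∪ B).ncard = 2 ^ (a + 1) := by
      rw [Set.ncard_union_eq hdisj (Set.toFinite _) (Set.toFinite _), hAc, hBc, pow_succ]
      omega
    rw [← h1]
    exact Nat.card_coe_set_eq (A ∪ B)

theorem two_orbits_not_full {X : Type} [Finite X] {S : Subgroup (Equiv.Perm X)}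
    (hS : IsPGroup 2 S) (g : Equiv.Perm X) (hg : ∀ h ∈ S, g * h * g⁻¹ ∈ S) (x : X)
    (hx : ¬ ∃ σ ∈ S, σ x = g x)
    (hp : ∀ h ∈ S, ∀ z, ((∃ σ ∈ S, σ x = h z) ∨ (∃ σ ∈ S, σ (g x) = h z)) ↔
      ((∃ σ ∈ S, σ x = z) ∨ (∃ σ ∈ S, σ (g x) = z))) :
    ¬ Full2 (restrHom S (fun z => (∃ σ ∈ S, σ x = z) ∨ (∃ σ ∈ S, σ (g x) = z)) hp).range := by
  intro hfull
  obtain ⟨a, -, ha⟩ := two_orbits_card hS g hg x hx
  obtain ⟨σ, hσ, h⟩ := full2_transitive hfull (a + 1) ha
    ⟨x, Or.inl ⟨1, S.one_mem, rfl⟩⟩ ⟨g x, Or.inr ⟨1, S.one_mem, rfl⟩⟩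
  obtain ⟨π, rfl⟩ := hσ
  exact hx ⟨π.1, π.2, congrArg Subtype.val h⟩

theorem full2_orbit {X : Type} [Finite X] {P : Subgroup (Equiv.Perm X)} (hP : Full2 P)
    (g : Equiv.Perm X) (hg : ∀ h ∈ P, g * h * g⁻¹ ∈ P) (x : X) : ∃ σ ∈ P, σ x = g x := by
  by_contra hx
  have hp := two_orbits_invariant P x (g x)
  exact two_orbits_not_full hP.1 g hg x hx hp (full2_decomp hP _ hp).1

theorem two_le_card_of_invariant {X : Type} [Finite X] (S : Subgroup (Equiv.Perm X))
    (p : X → Prop) (hp : ∀ g ∈ S, ∀ x, p (g x) ↔ p x) (hfix : ∀ z, ∃ σ ∈ S, σ z ≠ z) (z : X)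
    (hz : p z) : 2 ≤ Nat.card {x // p x} := by
  obtain ⟨σ, hσ, hσz⟩ := hfix z
  have h1 : p (σ z) := (hp σ hσ z).mpr hz
  haveI : Nontrivial {x // p x} := ⟨⟨⟨z, hz⟩, ⟨σ z, h1⟩, fun h => hσz (congrArg Subtype.val h).symm⟩⟩
  exact Finite.one_lt_card_iff_nontrivial.mpr inferInstance

/-- a 2-subgroup of the largest possible order of a finite symmetric group is its own
normalizer -/
theorem full_norm : ∀ (n : ℕ) (X : Type) [Finite X], Nat.card X = n →
    ∀ P : Subgroup (Equiv.Perm X), Full2 P → ∀ g : Equiv.Perm X,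
    (∀ h ∈ P, g * h * g⁻¹ ∈ P) → g ∈ P := by
  intro n
  induction n using Nat.strong_induction_on with
  | _ n IH =>
    intro X _ hX P hP g hg
    by_cases htr : ∀ x y : X, ∃ σ ∈ P, σ x = y
    · rcases isEmpty_or_nonempty X with hE | ⟨⟨x⟩⟩
      · have h1 : g = 1 := Equiv.ext (fun x => isEmptyElim x)
        rw [h1]
        exact P.one_mem
      · obtain ⟨τ, hτ, hτx⟩ := htr (g x) x
        have hn : 1 ≤ n := by
          haveI : Nonempty X := ⟨x⟩
          rw [← hX]
          exact Nat.card_pos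
        have hg'x : (τ * g) x = x := hτx
        have hg' : ∀ h ∈ P, (τ * g) * h * (τ * g)⁻¹ ∈ P := by
          intro h hh'
          have h1 := P.mul_mem (P.mul_mem hτ (hg h hh')) (P.inv_mem hτ)
          have h2 : (τ * g) * h * (τ * g)⁻¹ = τ * (g * h * g⁻¹) * τ⁻¹ := by group
          rw [h2]
          exact h1
        have hq : ∀ y, (τ * g) y ≠ x ↔ y ≠ x := by
          intro y
          rw [not_iff_not]
          constructor
          · intro h
            apply (τ * g).injective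
            rw [h, hg'x]
          · intro h
            rw [h, hg'x]
        have h4 : Nat.card {y // y ≠ x} = Nat.card X - 1 := by
          have h5 := card_subtype_add (fun y => y ≠ x)
          have h6 : Nat.card {y // ¬ y ≠ x} = 1 :=
            Nat.card_eq_one_iff_exists.mpr ⟨⟨x, by simp⟩, fun y => Subtype.ext (not_not.mp y.2)⟩
          omega
        have hfull : Full2 (fixSub P (fun y => y ≠ x)) := by
          refine ⟨fixSub_isPGroup hP.1 _, ?_⟩
          obtain ⟨j, hj, -⟩ := two_group_card (fixSub_isPGroup hP.1 (fun y => y ≠ x))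
          have h1 := card_stab P htr x
          rw [hP.2, hj] at h1
          have h2 := hh_pred_of_mul h1.symm
          have h3 := hh_pred (n := Nat.card X) (by omega)
          rw [hj, h4]
          congr 1
          omega
        have hmem := IH (n - 1) (by omega) {y // y ≠ x} (by omega) (fixSub P (fun y => y ≠ x))
          hfull ((τ * g).subtypePerm hq) (nz_fixSub P _ (τ * g) hq hg')
        rw [mem_fixSub, extP_subtypePerm _ (τ * g) hq
          (fun y hy => by rw [not_not.mp hy]; exact hg'x)] at hmem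
        have h7 : g = τ⁻¹ * (τ * g) := by group
        rw [h7]
        exact P.mul_mem (P.inv_mem hτ) hmem
    · push Not at htr
      obtain ⟨x, y, hxy⟩ := htr
      haveI : Finite ↥P := inferInstance
      have hp := orbPred_invariant P x
      have hgp := orbPred_invariant_of_norm P x g hg (full2_orbit hP g hg x)
      obtain ⟨hY, hZ, -⟩ := full2_decomp hP (fun z => ∃ σ ∈ P, σ x = z) hp
      have hcard := card_subtype_add (fun z => ∃ σ ∈ P, σ x = z)
      have hYpos : 1 ≤ Nat.card {z // ∃ σ ∈ P, σ x = z} := by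
        haveI : Nonempty {z // ∃ σ ∈ P, σ x = z} := ⟨⟨x, 1, P.one_mem, rfl⟩⟩
        exact Nat.card_pos
      have hZpos : 1 ≤ Nat.card {z // ¬ ∃ σ ∈ P, σ x = z} := by
        haveI : Nonempty {z // ¬ ∃ σ ∈ P, σ x = z} := ⟨⟨y, fun ⟨σ, hσ, h⟩ => hxy σ hσ h⟩⟩
        exact Nat.card_pos
      have h1 := IH (Nat.card {z // ∃ σ ∈ P, σ x = z}) (by omega) {z // ∃ σ ∈ P, σ x = z} rfl _ hY
        (g.subtypePerm hgp) (nz_restr P _ hp g hgp hg)
      obtain ⟨π, hπ⟩ := h1
      have hh1 : ∀ z, (∃ σ ∈ P, σ x = z) → (π.1⁻¹ * g) z = z := by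
        intro z hz
        have h2 := congrArg (fun σ : Equiv.Perm {z // ∃ σ ∈ P, σ x = z} => (σ ⟨z, hz⟩).1) hπ
        have h3 : π.1 z = g z := h2
        simp only [Equiv.Perm.mul_apply]
        rw [← h3]
        simp
      have hhn : ∀ k ∈ P, (π.1⁻¹ * g) * k * (π.1⁻¹ * g)⁻¹ ∈ P := by
        intro k hk
        have h2 := P.mul_mem (P.mul_mem (P.inv_mem π.2) (hg k hk)) π.2
        have h3 : (π.1⁻¹ * g) * k * (π.1⁻¹ * g)⁻¹ = π.1⁻¹ * (g * k * g⁻¹) * π.1 := by group
        rw [h3]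
        exact h2
      have hhp : ∀ z, (¬ ∃ σ ∈ P, σ x = (π.1⁻¹ * g) z) ↔ ¬ ∃ σ ∈ P, σ x = z := by
        intro z
        rw [not_iff_not]
        show (∃ σ ∈ P, σ x = π.1⁻¹ (g z)) ↔ _
        rw [hp π.1⁻¹ (P.inv_mem π.2) (g z)]
        exact hgp z
      have h2 := IH (Nat.card {z // ¬ ∃ σ ∈ P, σ x = z}) (by omega) {z // ¬ ∃ σ ∈ P, σ x = z} rfl
        _ hZ ((π.1⁻¹ * g).subtypePerm hhp) (nz_fixSub P _ (π.1⁻¹ * g) hhp hhn)
      rw [mem_fixSub, extP_subtypePerm _ (π.1⁻¹ * g) hhp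
        (fun z hz => hh1 z (not_not.mp hz))] at h2
      have h7 : g = π.1 * (π.1⁻¹ * g) := by group
      rw [h7]
      exact P.mul_mem π.2 h2

theorem hh_one : hh 1 = 0 := by
  have h1 := hh_rec 1
  norm_num [hh_zero] at h1
  exact h1

theorem hh_five : hh 5 = 3 := by
  have h5 := hh_rec 5
  have h2 := hh_rec 2
  norm_num [hh_one] at h5 h2
  omega

theorem hh_six : hh 6 = 4 := by
  have h6 := hh_rec 6
  have h3 := hh_rec 3
  norm_num [hh_one] at h6 h3
  omega

/-- a Sylow 2-subgroup of a finite alternating group of degree at least 6 is its own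
normalizer in the alternating group -/
theorem alt_norm : ∀ (n : ℕ), 6 ≤ n → ∀ (X : Type) [Finite X], Nat.card X = n →
    ∀ Q : Subgroup (Equiv.Perm X), FullA Q → ∀ g : Equiv.Perm X, g ∈ altS X →
    (∀ h ∈ Q, g * h * g⁻¹ ∈ Q) → g ∈ Q := by
  intro n
  induction n using Nat.strong_induction_on with
  | _ n IH =>
    intro hn X _ hX Q hQ g hgA hg
    obtain ⟨hQ2, hQA, hQc⟩ := hQ
    haveI : Finite ↥Q := inferInstance
    by_cases htr : ∀ x y : X, ∃ σ ∈ Q, σ x = y
    · haveI : Nonempty X := (Nat.card_pos_iff.mp (by omega)).1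
      obtain ⟨x⟩ := ‹Nonempty X›
      obtain ⟨τ, hτ, hτx⟩ := htr (g x) x
      have hg'x : (τ * g) x = x := hτx
      have hg' : ∀ h ∈ Q, (τ * g) * h * (τ * g)⁻¹ ∈ Q := by
        intro h hh'
        have h1 := Q.mul_mem (Q.mul_mem hτ (hg h hh')) (Q.inv_mem hτ)
        have h2 : (τ * g) * h * (τ * g)⁻¹ = τ * (g * h * g⁻¹) * τ⁻¹ := by group
        rw [h2]
        exact h1
      have hq : ∀ y, (τ * g) y ≠ x ↔ y ≠ x := by
        intro y
        rw [not_iff_not]
        constructor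
        · intro h
          apply (τ * g).injective
          rw [h, hg'x]
        · intro h
          rw [h, hg'x]
      have h4 : Nat.card {y // y ≠ x} = Nat.card X - 1 := by
        have h5 := card_subtype_add (fun y => y ≠ x)
        have h6 : Nat.card {y // ¬ y ≠ x} = 1 :=
          Nat.card_eq_one_iff_exists.mpr ⟨⟨x, by simp⟩, fun y => Subtype.ext (not_not.mp y.2)⟩
        omega
      have h1 := card_stab Q htr x
      have hn7 : 7 ≤ n := by
        obtain ⟨k, hk, -⟩ := two_group_card hQ2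
        have hdvd : n ∣ 2 ^ k := by
          rw [← hk, h1, hX]
          exact dvd_mul_right _ _
        obtain ⟨a, -, ha⟩ := (Nat.dvd_prime_pow Nat.prime_two).mp hdvd
        by_contra hlt
        have h6 : n = 6 := by omega
        rw [h6] at ha
        rcases Nat.lt_or_ge a 3 with h | h
        · have h8 := Nat.pow_le_pow_right (by norm_num : 1 ≤ 2) (by omega : a ≤ 2)
          omega
        · have h8 := Nat.pow_le_pow_right (by norm_num : 1 ≤ 2) h
          omega
      have hfull : FullA (fixSub Q (fun y => y ≠ x)) := by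
        refine ⟨fixSub_isPGroup hQ2 _, fixSub_le_altS hQA _, ?_⟩
        obtain ⟨j, hj, -⟩ := two_group_card (fixSub_isPGroup hQ2 (fun y => y ≠ x))
        have h2 : Nat.card X * 2 ^ (j + 1) = 2 ^ hh (Nat.card X) := by
          rw [pow_succ, ← mul_assoc, ← hj, ← h1]
          exact hQc
        have h3 := hh_pred_of_mul h2
        have h5 := hh_pred (n := Nat.card X) (by omega)
        rw [hj, h4, ← pow_succ]
        congr 1
        omega
      have hfixx : ∀ y, ¬ y ≠ x → (τ * g) y = y := fun y hy => by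
        rw [not_not.mp hy]
        exact hg'x
      have hsub : (τ * g).subtypePerm hq ∈ altS {y // y ≠ x} := by
        unfold altS
        rw [MonoidHom.mem_ker, ← sgnHom_extP, extP_subtypePerm _ (τ * g) hq hfixx]
        exact (altS X).mul_mem (hQA hτ) hgA
      have hmem := IH (n - 1) (by omega) (by omega) {y // y ≠ x} (by omega)
        (fixSub Q (fun y => y ≠ x)) hfull ((τ * g).subtypePerm hq) hsub
        (nz_fixSub Q _ (τ * g) hq hg')
      rw [mem_fixSub, extP_subtypePerm _ (τ * g) hq hfixx] at hmem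
      have h7 : g = τ⁻¹ * (τ * g) := by group
      rw [h7]
      exact Q.mul_mem (Q.inv_mem hτ) hmem
    · by_cases hfix : ∃ z₀, ∀ σ ∈ Q, σ z₀ = z₀
      · obtain ⟨z₀, hz₀⟩ := hfix
        have hgz : g z₀ = z₀ := by
          by_contra hne
          have hx : ¬ ∃ σ ∈ Q, σ z₀ = g z₀ := by
            rintro ⟨σ, hσ, h⟩
            rw [hz₀ σ hσ] at h
            exact hne h.symm
          have hp := two_orbits_invariant Q z₀ (g z₀)
          obtain ⟨a, ha1, ha2⟩ := two_orbits_card hQ2 g hg z₀ hx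
          have h1 : Nat.card {z // ∃ σ ∈ Q, σ z₀ = z} = 1 :=
            Nat.card_eq_one_iff_exists.mpr ⟨⟨z₀, 1, Q.one_mem, rfl⟩, fun y => by
              obtain ⟨σ, hσ, h⟩ := y.2
              apply Subtype.ext
              rw [← h, hz₀ σ hσ]⟩
          have ha : a = 0 := by
            rw [h1] at ha1
            by_contra h0
            have h9 := Nat.one_lt_two_pow h0
            omega
          rw [ha] at ha2
          have h5 := card_subtype_add (fun z => (∃ σ ∈ Q, σ z₀ = z) ∨ (∃ σ ∈ Q, σ (g z₀) = z))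
          have h60 : 2 ≤ Nat.card
              {z // ¬ ((∃ σ ∈ Q, σ z₀ = z) ∨ (∃ σ ∈ Q, σ (g z₀) = z))} := by
            norm_num at ha2
            omega
          have h6 := fullA_decomp ⟨hQ2, hQA, hQc⟩ _ hp h60
          exact two_orbits_not_full hQ2 g hg z₀ hx hp h6.1
        have hp : ∀ σ ∈ Q, ∀ y, σ y = z₀ ↔ y = z₀ := by
          intro σ hσ y
          constructor
          · intro h
            apply σ.injective
            rw [h, hz₀ σ hσ]
          · intro h
            rw [h, hz₀ σ hσ]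
        have h1 : Nat.card {y // y = z₀} = 1 :=
          Nat.card_eq_one_iff_exists.mpr ⟨⟨z₀, rfl⟩, fun y => Subtype.ext y.2⟩
        have h5 := card_subtype_add (fun y => y = z₀)
        obtain ⟨-, hfA, hh3⟩ := fullA_decomp ⟨hQ2, hQA, hQc⟩ (fun y => y = z₀) hp (by omega)
        have hn7 : 7 ≤ n := by
          by_contra hlt
          have h6 : n = 6 := by omega
          have h7 : Nat.card {y // ¬ y = z₀} = 5 := by omega
          rw [h1, h7, hX, h6, hh_six, hh_five, hh_one] at hh3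
          omega
        have hgq : ∀ y, ¬ g y = z₀ ↔ ¬ y = z₀ := by
          intro y
          rw [not_iff_not]
          constructor
          · intro h
            apply g.injective
            rw [h, hgz]
          · intro h
            rw [h, hgz]
        have hfixx : ∀ y, ¬ ¬ y = z₀ → g y = y := fun y hy => by
          rw [not_not.mp hy]
          exact hgz
        have hsub : g.subtypePerm hgq ∈ altS {y // ¬ y = z₀} := by
          unfold altS
          rw [MonoidHom.mem_ker, ← sgnHom_extP, extP_subtypePerm _ g hgq hfixx]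
          exact hgA
        have hmem := IH (n - 1) (by omega) (by omega) {y // ¬ y = z₀} (by omega) _ hfA
          (g.subtypePerm hgq) hsub (nz_fixSub Q _ g hgq hg)
        rw [mem_fixSub, extP_subtypePerm _ g hgq hfixx] at hmem
        exact hmem
      · push Not at hfix htr
        obtain ⟨x, y, hxy⟩ := htr
        by_cases hgx : ∃ σ ∈ Q, σ x = g x
        · have hp := orbPred_invariant Q x
          have hgp := orbPred_invariant_of_norm Q x g hg hgx
          have hp' : ∀ σ ∈ Q, ∀ z, (¬ ∃ τ ∈ Q, τ x = σ z) ↔ ¬ ∃ τ ∈ Q, τ x = z :=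
            fun σ hσ z => not_congr (hp σ hσ z)
          have hgp' : ∀ z, (¬ ∃ τ ∈ Q, τ x = g z) ↔ ¬ ∃ τ ∈ Q, τ x = z :=
            fun z => not_congr (hgp z)
          have hZ2 : 2 ≤ Nat.card {z // ¬ ∃ σ ∈ Q, σ x = z} :=
            two_le_card_of_invariant Q _ hp' hfix y (fun ⟨σ, hσ, h⟩ => hxy σ hσ h)
          have hY2 : 2 ≤ Nat.card {z // ¬ ¬ ∃ σ ∈ Q, σ x = z} :=
            two_le_card_of_invariant Q _ (fun σ hσ z => not_congr (hp' σ hσ z)) hfix x
              (not_not.mpr ⟨1, Q.one_mem, rfl⟩)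
          obtain ⟨hYfull, hKZ, -⟩ := fullA_decomp ⟨hQ2, hQA, hQc⟩ _ hp hZ2
          obtain ⟨hZfull, -, -⟩ := fullA_decomp ⟨hQ2, hQA, hQc⟩ _ hp' hY2
          have h1 := full_norm _ {z // ∃ σ ∈ Q, σ x = z} rfl _ hYfull (g.subtypePerm hgp)
            (nz_restr Q _ hp g hgp hg)
          have h2 := full_norm _ {z // ¬ ∃ σ ∈ Q, σ x = z} rfl _ hZfull (g.subtypePerm hgp')
            (nz_restr Q _ hp' g hgp' hg)
          obtain ⟨π, hπ⟩ := h1
          obtain ⟨π', hπ'⟩ := h2
          have hh1 : ∀ z, (∃ σ ∈ Q, σ x = z) → (π.1⁻¹ * g) z = z := by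
            intro z hz
            have h2 := congrArg (fun σ : Equiv.Perm {z // ∃ σ ∈ Q, σ x = z} => (σ ⟨z, hz⟩).1) hπ
            have h3 : π.1 z = g z := h2
            simp only [Equiv.Perm.mul_apply]
            rw [← h3]
            simp
          have hhp : ∀ z, (¬ ∃ σ ∈ Q, σ x = (π.1⁻¹ * g) z) ↔ ¬ ∃ σ ∈ Q, σ x = z := by
            intro z
            rw [not_iff_not]
            show (∃ σ ∈ Q, σ x = π.1⁻¹ (g z)) ↔ _
            rw [hp π.1⁻¹ (Q.inv_mem π.2) (g z)]
            exact hgp z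
          have hfixx : ∀ z, ¬ ¬ (∃ σ ∈ Q, σ x = z) → (π.1⁻¹ * g) z = z :=
            fun z hz => hh1 z (not_not.mp hz)
          have hKR : fixSub Q (fun z => ¬ ∃ σ ∈ Q, σ x = z) ≤
              (restrHom Q (fun z => ¬ ∃ σ ∈ Q, σ x = z) hp').range ⊓
                altS {z // ¬ ∃ σ ∈ Q, σ x = z} := by
            intro σ hσ
            refine ⟨⟨⟨extP _ σ, hσ⟩, ?_⟩, hKZ.2.1 hσ⟩
            apply Equiv.ext
            intro z
            apply Subtype.ext
            exact extP_apply_mem _ σ z.2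
          have hR2 : IsPGroup 2 ↥((restrHom Q (fun z => ¬ ∃ σ ∈ Q, σ x = z) hp').range ⊓
                altS {z // ¬ ∃ σ ∈ Q, σ x = z}) := hZfull.1.to_le inf_le_left
          obtain ⟨k, hk, hk'⟩ := two_group_card_alt hR2 inf_le_right hZ2
          have hKc := hKZ.2.2
          have hRK : Nat.card ↥((restrHom Q (fun z => ¬ ∃ σ ∈ Q, σ x = z) hp').range ⊓
                altS {z // ¬ ∃ σ ∈ Q, σ x = z}) ≤
              Nat.card (fixSub Q (fun z => ¬ ∃ σ ∈ Q, σ x = z)) := by
            have h8 : 2 ^ (k + 1) ≤ 2 ^ hh (Nat.card {z // ¬ ∃ σ ∈ Q, σ x = z}) :=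
              Nat.pow_le_pow_right (by norm_num) hk'
            rw [pow_succ, ← hKc, ← hk] at h8
            omega
          have hKR' := Subgroup.eq_of_le_of_card_ge hKR hRK
          have hmem : (π.1⁻¹ * g).subtypePerm hhp ∈ fixSub Q (fun z => ¬ ∃ σ ∈ Q, σ x = z) := by
            rw [hKR']
            refine ⟨⟨π⁻¹ * π', ?_⟩, ?_⟩
            · apply Equiv.ext
              intro z
              apply Subtype.ext
              have h3 := congrArg
                (fun σ : Equiv.Perm {z // ¬ ∃ σ ∈ Q, σ x = z} => (σ z).1) hπ'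
              have h4 : π'.1 z.1 = g z.1 := h3
              show π.1⁻¹ (π'.1 z.1) = π.1⁻¹ (g z.1)
              rw [h4]
            · show (π.1⁻¹ * g).subtypePerm hhp ∈ altS {z // ¬ ∃ σ ∈ Q, σ x = z}
              unfold altS
              rw [MonoidHom.mem_ker, ← sgnHom_extP, extP_subtypePerm _ (π.1⁻¹ * g) hhp hfixx]
              exact (altS X).mul_mem ((altS X).inv_mem (hQA π.2)) hgA
          rw [mem_fixSub, extP_subtypePerm _ (π.1⁻¹ * g) hhp hfixx] at hmem
          have h7 : g = π.1 * (π.1⁻¹ * g) := by group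
          rw [h7]
          exact Q.mul_mem π.2 hmem
        · exfalso
          have hp := two_orbits_invariant Q x (g x)
          obtain ⟨a, ha1, ha2⟩ := two_orbits_card hQ2 g hg x hgx
          by_cases hW : ∀ z, (∃ σ ∈ Q, σ x = z) ∨ (∃ σ ∈ Q, σ (g x) = z)
          · have hXc : Nat.card X = 2 ^ (a + 1) := by
              rw [← ha2]
              exact (Nat.card_congr (Equiv.subtypeUnivEquiv hW)).symm
            have h5 := card_subtype_add (fun z => ∃ σ ∈ Q, σ x = z)
            have hpow : 2 ^ (a + 1) = 2 * 2 ^ a := by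
              rw [pow_succ]
              ring
            have h7 : Nat.card {z // ¬ ∃ σ ∈ Q, σ x = z} = 2 ^ a := by omega
            have h70 : 2 ≤ Nat.card {z // ¬ ∃ σ ∈ Q, σ x = z} := by omega
            obtain ⟨-, -, hh3⟩ := fullA_decomp ⟨hQ2, hQA, hQc⟩ _ (orbPred_invariant Q x) h70
            rw [h7, ha1, hXc] at hh3
            have h8 := hh_two_pow a
            have h9 := hh_two_pow (a + 1)
            omega
          · obtain ⟨z, hz⟩ := not_forall.mp hW
            have hZ2 : 2 ≤ Nat.card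
                {z // ¬ ((∃ σ ∈ Q, σ x = z) ∨ (∃ σ ∈ Q, σ (g x) = z))} :=
              two_le_card_of_invariant Q _ (fun σ hσ z => not_congr (hp σ hσ z)) hfix z hz
            exact two_orbits_not_full hQ2 g hg x hgx hp
              (fullA_decomp ⟨hQ2, hQA, hQc⟩ _ hp hZ2).1

end Cfsg.Agent.Helper37
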