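import Mathlib
import Cfsg.Prelude.Def_HallClasses
import Cfsg.Agent.Helper37.SylNorm

set_option autoImplicit false

namespace Cfsg.Agent.Helper37

theorem mem_sylow_smul {G : Type*} [Group G] {p : ℕ} (g : G) (S : Sylow p G) (x : G) :
    x ∈ ((g • S : Sylow p G) : Subgroup G) ↔ g⁻¹ * x * g ∈ (S : Subgroup G) := by
  rw [Sylow.coe_subgroup_smul, Subgroup.mem_pointwise_smul_iff_inv_smul_mem]
  simp [MulAut.smul_def]

/-- an overgroup `H` of a Sylow subgroup `S` with `N_G(S) ≤ N_G(H)` is pronormal -/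
theorem isPronormal_of_sylow_le {G : Type*} [Group G] [Finite G] {p : ℕ} [Fact p.Prime]
    (S : Sylow p G) (H : Subgroup G) (hSH : (S : Subgroup G) ≤ H)
    (hN : ∀ γ : G, (∀ s ∈ (S : Subgroup G), γ * s * γ⁻¹ ∈ (S : Subgroup G)) →
      ∀ h ∈ H, γ * h * γ⁻¹ ∈ H) :
    Cfsg.IsPronormal H := by
  intro g
  have h1 : (S : Subgroup G) ≤ H ⊔ H.map (MulAut.conj g).toMonoidHom := hSH.trans le_sup_left
  have h2 : ((g • S : Sylow p G) : Subgroup G) ≤ H ⊔ H.map (MulAut.conj g).toMonoidHom := by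
    intro x hx
    rw [mem_sylow_smul] at hx
    apply (le_sup_right : H.map (MulAut.conj g).toMonoidHom ≤ _)
    refine ⟨g⁻¹ * x * g, hSH hx, ?_⟩
    simp [MulAut.conj_apply, mul_assoc]
  obtain ⟨k, hk⟩ := MulAction.exists_smul_eq ↥(H ⊔ H.map (MulAut.conj g).toMonoidHom)
    (S.subtype h1) ((g • S).subtype h2)
  rw [Sylow.smul_subtype] at hk
  have hk2 : (k : G) • S = g • S := Sylow.subtype_injective hk
  have hk3 : ((k : G)⁻¹ * g) • S = S := by
    rw [mul_smul, ← hk2, inv_smul_smul]
  have hk4 := Sylow.smul_eq_iff_mem_normalizer.mp hk3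
  have key : ∀ s ∈ (S : Subgroup G),
      ((k : G)⁻¹ * g) * s * ((k : G)⁻¹ * g)⁻¹ ∈ (S : Subgroup G) := by
    intro s hs
    exact (Subgroup.mem_normalizer_iff.mp hk4 s).mp hs
  have hγ := hN ((k : G)⁻¹ * g) key
  refine ⟨(k : G), k.2, ?_⟩
  have hle : H.map (MulAut.conj g).toMonoidHom ≤ H.map (MulAut.conj (k : G)).toMonoidHom := by
    rintro _ ⟨h, hh', rfl⟩
    refine ⟨((k : G)⁻¹ * g) * h * ((k : G)⁻¹ * g)⁻¹, hγ h hh', ?_⟩
    simp only [MulEquiv.coe_toMonoidHom, MulAut.conj_apply]
    group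
  exact Subgroup.eq_of_le_of_card_ge hle (by
    rw [Subgroup.card_map_of_injective (MulAut.conj (k : G)).injective,
      Subgroup.card_map_of_injective (MulAut.conj g).injective])

/-- a subgroup of prime index is pronormal -/
theorem isPronormal_of_index_prime {G : Type*} [Group G] [Finite G] (H : Subgroup G)
    (hp : (H.index).Prime) : Cfsg.IsPronormal H := by
  intro g
  have h1 : H ≤ H ⊔ H.map (MulAut.conj g).toMonoidHom := le_sup_left
  have h2 := Subgroup.relIndex_mul_index h1
  have h3 : (H ⊔ H.map (MulAut.conj g).toMonoidHom).index ∣ H.index := Dvd.intro_left _ h2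
  rcases (Nat.dvd_prime hp).mp h3 with h4 | h4
  · have h5 : H ⊔ H.map (MulAut.conj g).toMonoidHom = ⊤ := Subgroup.index_eq_one.mp h4
    exact ⟨g, by rw [h5]; trivial, rfl⟩
  · have h5 : H.relIndex (H ⊔ H.map (MulAut.conj g).toMonoidHom) = 1 := by
      rw [h4] at h2
      have hpos : 0 < H.index := hp.pos
      exact Nat.eq_of_mul_eq_mul_right hpos (by rw [h2, one_mul])
    have h6 : H ⊔ H.map (MulAut.conj g).toMonoidHom ≤ H := Subgroup.relIndex_eq_one.mp h5
    refine ⟨1, Subgroup.one_mem _, ?_⟩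
    have h7 : H.map (MulAut.conj g).toMonoidHom ≤ H := le_sup_right.trans h6
    have h8 : H.map (MulAut.conj g).toMonoidHom = H :=
      Subgroup.eq_of_le_of_card_ge h7 (by
        rw [Subgroup.card_map_of_injective (MulAut.conj g).injective])
    rw [h8]
    ext x
    simp

/-- the whole group is pronormal -/
theorem isPronormal_of_index_one {G : Type*} [Group G] [Finite G] (H : Subgroup G)
    (hp : H.index = 1) : Cfsg.IsPronormal H := by
  intro g
  have h5 : H = ⊤ := Subgroup.index_eq_one.mp hp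
  refine ⟨1, Subgroup.one_mem _, ?_⟩
  have h8 : H.map (MulAut.conj g).toMonoidHom = H :=
    Subgroup.eq_of_le_of_card_ge (by rw [h5]; exact le_top) (by
      rw [Subgroup.card_map_of_injective (MulAut.conj g).injective])
  rw [h8]
  ext x
  simp

/-- a subgroup of odd index contains a Sylow 2-subgroup -/
theorem exists_sylow_le_of_odd_index {G : Type*} [Group G] [Finite G] (H : Subgroup G)
    (hH : Odd H.index) : ∃ S : Sylow 2 G, (S : Subgroup G) ≤ H := by
  haveI : Fact (Nat.Prime 2) := ⟨Nat.prime_two⟩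
  obtain ⟨S₀⟩ : Nonempty (Sylow 2 H) := inferInstance
  have h1 : Nat.card ((S₀ : Subgroup H).map H.subtype) = 2 ^ (Nat.card G).factorization 2 := by
    rw [Subgroup.card_map_of_injective H.subtype_injective, Sylow.card_eq_multiplicity,
      ← Subgroup.card_mul_index H, Nat.factorization_mul Nat.card_pos.ne'
        (Subgroup.index_ne_zero_of_finite)]
    have h2 : (H.index).factorization 2 = 0 :=
      Nat.factorization_eq_zero_of_not_dvd (fun h => by
        rcases hH with ⟨m, hm⟩
        omega)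
    simp [h2]
  refine ⟨Sylow.ofCard _ h1, ?_⟩
  rw [Sylow.coe_ofCard]
  exact Subgroup.map_subtype_le _

end Cfsg.Agent.Helper37
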