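import Mathlib
import Cfsg.Agent.Helper37.Pronorm

set_option autoImplicit false

namespace Cfsg.Agent.Helper37

open Nat

/-- normal form of a nilpotent group of order `3 * 2 ^ a` -/
theorem nil_normal_form {G : Type*} [Group G] [Finite G] (N : Subgroup G) [Group.IsNilpotent N]
    (a : ℕ) (hN : Nat.card N = 3 * 2 ^ a) :
    ∃ (A : Subgroup G) (c : G), A ≤ N ∧ c ∈ N ∧ IsPGroup 2 A ∧ Nat.card A = 2 ^ a ∧
      orderOf c = 3 ∧ (∀ x ∈ A, x * c = c * x) ∧ N = A ⊔ Subgroup.zpowers c := by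
  haveI : Fact (Nat.Prime 2) := ⟨Nat.prime_two⟩
  haveI : Fact (Nat.Prime 3) := ⟨Nat.prime_three⟩
  let S₂ : Sylow 2 N := default
  let S₃ : Sylow 3 N := default
  have h2 : Nat.card (S₂ : Subgroup N) = 2 ^ a := by
    rw [Sylow.card_eq_multiplicity, hN, Nat.factorization_mul (by norm_num) (by positivity),
      Nat.factorization_pow]
    simp [Nat.factorization_eq_zero_of_not_dvd (show ¬ 2 ∣ 3 by norm_num),
      Nat.Prime.factorization_self Nat.prime_two]
  have h3 : Nat.card (S₃ : Subgroup N) = 3 := by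
    rw [Sylow.card_eq_multiplicity, hN, Nat.factorization_mul (by norm_num) (by positivity),
      Nat.factorization_pow]
    simp [Nat.factorization_eq_zero_of_not_dvd (show ¬ 3 ∣ 2 by norm_num),
      Nat.Prime.factorization_self Nat.prime_three]
  obtain ⟨c, hcS, hc1⟩ : ∃ c : N, c ∈ (S₃ : Subgroup N) ∧ c ≠ 1 := by
    by_contra hcon
    push Not at hcon
    have h4 : (S₃ : Subgroup N) = ⊥ := (Subgroup.eq_bot_iff_forall _).mpr hcon
    rw [h4, Subgroup.card_bot] at h3
    omega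
  have hc3 : orderOf c = 3 := by
    have h4 : orderOf c ∣ 3 := by
      have h5 := Subgroup.orderOf_dvd_natCard (S₃ : Subgroup N) hcS
      rwa [h3] at h5
    rcases (Nat.dvd_prime Nat.prime_three).mp h4 with h | h
    · exact absurd (orderOf_eq_one_iff.mp h) hc1
    · exact h
  have hdis : Disjoint (S₂ : Subgroup N) (S₃ : Subgroup N) :=
    IsPGroup.disjoint_of_ne 2 3 (by norm_num) _ _ S₂.isPGroup' S₃.isPGroup'
  have hcomm : ∀ x ∈ (S₂ : Subgroup N), x * c = c * x := fun x hx =>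
    (Subgroup.commute_of_normal_of_disjoint _ _ inferInstance inferInstance hdis x c hx hcS).eq
  have hc3' : orderOf (c : G) = 3 := by
    rw [Subgroup.orderOf_coe]
    exact hc3
  refine ⟨(S₂ : Subgroup N).map N.subtype, c.1, Subgroup.map_subtype_le _, c.2,
    S₂.isPGroup'.map _, ?_, hc3', ?_, ?_⟩
  · rw [Subgroup.card_map_of_injective N.subtype_injective]
    exact h2
  · rintro _ ⟨x, hx, rfl⟩
    exact congrArg Subtype.val (hcomm x hx)
  · symm
    apply Subgroup.eq_of_le_of_card_ge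
    · exact sup_le (Subgroup.map_subtype_le _) (by
        rw [Subgroup.zpowers_le]
        exact c.2)
    · rw [hN]
      apply Nat.le_of_dvd Nat.card_pos
      apply Nat.Coprime.mul_dvd_of_dvd_of_dvd
      · exact Nat.Coprime.pow_right a (by norm_num)
      · rw [← hc3']
        exact Subgroup.orderOf_dvd_natCard _
          ((le_sup_right : Subgroup.zpowers c.1 ≤ _) (Subgroup.mem_zpowers c.1))
      · have h5 : Nat.card ((S₂ : Subgroup N).map N.subtype) = 2 ^ a := by
          rw [Subgroup.card_map_of_injective N.subtype_injective]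
          exact h2
        rw [← h5]
        exact Subgroup.card_dvd_of_le le_sup_left

/-- an element of order 3 centralized by a large 2-group is a 3-cycle -/
theorem isThreeCycle_of_centralizer {n : ℕ} (c : Equiv.Perm (Fin n)) (hc : orderOf c = 3)
    (A : Subgroup (Equiv.Perm (Fin n))) (a : ℕ) (hA : Nat.card A = 2 ^ a)
    (ha : 6 ≤ n → hh (n - 4) < a) (hcomm : ∀ x ∈ A, x * c = c * x) : c.IsThreeCycle := by
  haveI : Fact (Nat.Prime 2) := ⟨Nat.prime_two⟩
  obtain ⟨t, ht⟩ := Equiv.Perm.cycleType_prime_order (σ := c) (by rw [hc]; exact Nat.prime_three)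
  rw [hc] at ht
  have hsum : 3 * (t + 1) ≤ n := by
    have h1 := Equiv.Perm.sum_cycleType_le c
    rw [ht] at h1
    simp only [Multiset.sum_replicate, smul_eq_mul, Fintype.card_fin] at h1
    omega
  rcases Nat.eq_zero_or_pos t with h0 | hpos
  · subst h0
    show c.cycleType = {3}
    rw [ht]
    rfl
  · exfalso
    have hle : A ≤ Subgroup.centralizer ({c} : Set (Equiv.Perm (Fin n))) := by
      intro x hx
      rw [Subgroup.mem_centralizer_singleton_iff]
      exact (hcomm x hx)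
    have hdvd : 2 ^ a ∣ Nat.card (Subgroup.centralizer ({c} : Set (Equiv.Perm (Fin n)))) :=
      hA ▸ Subgroup.card_dvd_of_le hle
    rw [Equiv.Perm.nat_card_centralizer, ht] at hdvd
    simp only [Multiset.sum_replicate, smul_eq_mul, Fintype.card_fin, Multiset.prod_replicate,
      Multiset.toFinset_replicate, if_neg (Nat.succ_ne_zero t), Finset.prod_singleton,
      Multiset.count_replicate_self] at hdvd
    have hcop : Nat.Coprime (2 ^ a) (3 ^ (t + 1)) :=
      Nat.Coprime.pow _ _ (by norm_num)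
    have hdvd2 : 2 ^ a ∣ (n - (t + 1) * 3)! * (t + 1)! := by
      have h1 : (n - (t + 1) * 3)! * 3 ^ (t + 1) * (t + 1)! =
          3 ^ (t + 1) * ((n - (t + 1) * 3)! * (t + 1)!) := by ring
      rw [h1] at hdvd
      exact hcop.dvd_of_dvd_mul_left hdvd
    have h2 : a ≤ hh (n - (t + 1) * 3) + hh (t + 1) := by
      have h3 := (padicValNat_dvd_iff_le (p := 2)
        (Nat.mul_ne_zero (Nat.factorial_ne_zero _) (Nat.factorial_ne_zero _))).mp hdvd2
      rw [padicValNat.mul (Nat.factorial_ne_zero _) (Nat.factorial_ne_zero _)] at h3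
      exact h3
    have h4 := hh_add (n - (t + 1) * 3) (t + 1)
    have h5 : hh (n - (t + 1) * 3 + (t + 1)) ≤ hh (n - 4) := hh_mono (by omega)
    have h6 := ha (by omega)
    omega

/-- a 2-element commuting with a 3-cycle fixes its support pointwise -/
theorem fixes_support_of_commute {α : Type*} [Fintype α] [DecidableEq α] (c : Equiv.Perm α)
    (hc : c.IsThreeCycle) (x : Equiv.Perm α) (k : ℕ) (hx : x ^ (2 ^ k) = 1)
    (hcomm : x * c = c * x) (y : α) (hy : c y ≠ y) : x y = y := by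
  have hcyc := hc.isCycle
  have hxy : c (x y) ≠ x y := by
    intro h
    apply hy
    have h1 : (c * x) y = x y := h
    rw [← hcomm] at h1
    exact x.injective h1
  obtain ⟨i, hi⟩ := hcyc.exists_pow_eq hy hxy
  have hcomm' : ∀ j : ℕ, x * c ^ j = c ^ j * x := by
    intro j
    exact (Commute.pow_right (show Commute x c from hcomm) j).eq
  have hpow : ∀ m : ℕ, (x ^ m) y = (c ^ (i * m)) y := by
    intro m
    induction m with
    | zero => simp
    | succ m ih =>
      rw [_root_.pow_succ', Equiv.Perm.mul_apply, ih]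
      have h1 : x ((c ^ (i * m)) y) = (x * c ^ (i * m)) y := rfl
      rw [h1, hcomm' (i * m), Equiv.Perm.mul_apply, ← hi, ← Equiv.Perm.mul_apply, ← pow_add]
      congr 2
  have h1 := hpow (2 ^ k)
  rw [hx] at h1
  have h2 : c ^ (i * 2 ^ k) = 1 := (hcyc.pow_eq_one_iff' hy).mpr h1.symm
  have h3 : 3 ∣ i * 2 ^ k := by
    rw [← hc.orderOf]
    exact orderOf_dvd_of_pow_eq_one h2
  have h4 : 3 ∣ i := (Nat.Coprime.dvd_mul_right (Nat.Coprime.pow_right k (by norm_num))).mp h3
  have h5 : c ^ i = 1 := by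
    obtain ⟨j, rfl⟩ := h4
    rw [pow_mul, ← hc.orderOf, pow_orderOf_eq_one, one_pow]
  rw [← hi, h5]
  rfl

theorem preserves_of_fixes {X : Type} (x : Equiv.Perm X) (q : X → Prop)
    (h2 : ∀ y, ¬ q y → x y = y) : ∀ y, q (x y) ↔ q y := by
  intro y
  by_cases hy : q y
  · simp only [hy, iff_true]
    by_contra hc
    have h3 := h2 _ hc
    have h4 : x y = y := x.injective h3
    rw [h4] at hc
    exact hc hy
  · rw [h2 y hy]

theorem fixSub_map_extP {X : Type} (A : Subgroup (Equiv.Perm X)) (q : X → Prop)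
    (hA : ∀ x ∈ A, ∀ y, ¬ q y → x y = y) : (fixSub A q).map (extP q) = A := by
  ext x
  constructor
  · rintro ⟨σ, hσ, rfl⟩
    exact hσ
  · intro hx
    have h1 := preserves_of_fixes x q (hA x hx)
    have h2 := extP_subtypePerm q x h1 (hA x hx)
    refine ⟨x.subtypePerm h1, ?_, h2⟩
    show extP q _ ∈ A
    rw [h2]
    exact hx

theorem card_fixSub_of_fixes {X : Type} (A : Subgroup (Equiv.Perm X)) (q : X → Prop)
    (hA : ∀ x ∈ A, ∀ y, ¬ q y → x y = y) : Nat.card (fixSub A q) = Nat.card A := by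
  conv_rhs => rw [← fixSub_map_extP A q hA]
  rw [Subgroup.card_map_of_injective (extP_injective q)]

theorem map_extP_conj {X : Type} (q : X → Prop) (B : Subgroup (Equiv.Perm {y // q y}))
    (σ : Equiv.Perm {y // q y}) :
    (B.map (MulAut.conj σ).toMonoidHom).map (extP q) =
      (B.map (extP q)).map (MulAut.conj (extP q σ)).toMonoidHom := by
  rw [Subgroup.map_map, Subgroup.map_map]
  congr 1
  ext b : 1
  simp [MulAut.conj_apply]

theorem extP_commute {X : Type} (c : Equiv.Perm X) (σ : Equiv.Perm {y // c y = y}) :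
    extP (fun y => c y = y) σ * c = c * extP (fun y => c y = y) σ := by
  apply Equiv.ext
  intro y
  simp only [Equiv.Perm.mul_apply]
  by_cases hy : c y = y
  · rw [hy, extP_apply_mem (fun y => c y = y) σ hy]
    exact ((σ ⟨y, hy⟩).2).symm
  · have hy' : ¬ c (c y) = c y := fun h => hy (c.injective h)
    rw [extP_apply_not (fun y => c y = y) σ hy', extP_apply_not (fun y => c y = y) σ hy]

theorem map_conj_of_sylow_smul {G : Type*} [Group G] {p : ℕ} (S₁ S₂ : Sylow p G) (σ : G)
    (h : σ • S₁ = S₂) : (S₂ : Subgroup G) = (S₁ : Subgroup G).map (MulAut.conj σ).toMonoidHom := by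
  ext x
  rw [← h, mem_sylow_smul]
  constructor
  · intro hx
    refine ⟨σ⁻¹ * x * σ, hx, ?_⟩
    simp [MulAut.conj_apply, mul_assoc]
  · rintro ⟨y, hy, rfl⟩
    have h1 : σ⁻¹ * (MulAut.conj σ).toMonoidHom y * σ = y := by
      simp [MulAut.conj_apply, mul_assoc]
    rw [h1]
    exact hy

/-- two 2-subgroups of the largest possible order are conjugate -/
theorem full2_conj {Z : Type} [Finite Z] (B₁ B₂ : Subgroup (Equiv.Perm Z)) (h1 : Full2 B₁)
    (h2 : Full2 B₂) : ∃ σ : Equiv.Perm Z, B₂ = B₁.map (MulAut.conj σ).toMonoidHom := by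
  haveI : Fact (Nat.Prime 2) := ⟨Nat.prime_two⟩
  have hf : (Nat.card (Equiv.Perm Z)).factorization 2 = hh (Nat.card Z) := by
    rw [Nat.card_perm]
    exact Nat.factorization_def _ Nat.prime_two
  let S₁ : Sylow 2 (Equiv.Perm Z) := Sylow.ofCard B₁ (by rw [hf]; exact h1.2)
  let S₂ : Sylow 2 (Equiv.Perm Z) := Sylow.ofCard B₂ (by rw [hf]; exact h2.2)
  obtain ⟨σ, hσ⟩ := MulAction.exists_smul_eq (Equiv.Perm Z) S₁ S₂
  exact ⟨σ, map_conj_of_sylow_smul S₁ S₂ σ hσ⟩

theorem card_fixed_of_isThreeCycle {n : ℕ} (c : Equiv.Perm (Fin n)) (hc : c.IsThreeCycle) :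
    Nat.card {y // c y = y} = n - 3 := by
  have h1 := card_subtype_add (fun y : Fin n => c y = y)
  have h2 : Nat.card {y // ¬ c y = y} = 3 := by
    rw [← hc.card_support, Nat.card_eq_fintype_card, Fintype.card_subtype]
    congr 1
  rw [Nat.card_fin] at h1
  omega

/-- the conjugacy step for groups `A × ⟨c⟩`, `c` a 3-cycle, `A` a 2-group of the largest
possible order fixing the support of `c` -/
theorem conj_of_pairs {n : ℕ} (A₁ A₂ : Subgroup (Equiv.Perm (Fin n)))
    (c₁ c₂ : Equiv.Perm (Fin n)) (h1 : c₁.IsThreeCycle) (h2 : c₂.IsThreeCycle)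
    (hA1 : IsPGroup 2 A₁) (hA2 : IsPGroup 2 A₂) (hc1 : Nat.card A₁ = 2 ^ hh (n - 3))
    (hc2 : Nat.card A₂ = 2 ^ hh (n - 3))
    (hf1 : ∀ x ∈ A₁, ∀ y, c₁ y ≠ y → x y = y) (hf2 : ∀ x ∈ A₂, ∀ y, c₂ y ≠ y → x y = y) :
    ∃ g : Equiv.Perm (Fin n), A₂ = A₁.map (MulAut.conj g).toMonoidHom ∧ g * c₁ * g⁻¹ = c₂ := by
  obtain ⟨g, hg⟩ : ∃ g, g * c₁ * g⁻¹ = c₂ := by
    have h3 : IsConj c₁ c₂ := by
      rw [Equiv.Perm.isConj_iff_cycleType_eq]
      exact h1.trans h2.symm
    exact isConj_iff.mp h3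
  have hf1' : ∀ x ∈ A₁.map (MulAut.conj g).toMonoidHom, ∀ y, ¬ c₂ y = y → x y = y := by
    rintro _ ⟨x, hx, rfl⟩ y hy
    have h3 : c₁ (g⁻¹ y) ≠ g⁻¹ y := by
      intro h
      apply hy
      rw [← hg]
      simp only [Equiv.Perm.mul_apply]
      rw [h]
      simp
    have h4 := hf1 x hx _ h3
    simp only [MulEquiv.coe_toMonoidHom, MulAut.conj_apply, Equiv.Perm.mul_apply]
    rw [h4]
    simp
  have hf2' : ∀ x ∈ A₂, ∀ y, ¬ c₂ y = y → x y = y := hf2
  have hZ := card_fixed_of_isThreeCycle c₂ h2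
  have hB1 : Full2 (fixSub (A₁.map (MulAut.conj g).toMonoidHom) (fun y => c₂ y = y)) := by
    refine ⟨fixSub_isPGroup (hA1.map _) _, ?_⟩
    rw [card_fixSub_of_fixes _ _ hf1', Subgroup.card_map_of_injective (MulAut.conj g).injective,
      hc1, hZ]
  have hB2 : Full2 (fixSub A₂ (fun y => c₂ y = y)) := by
    refine ⟨fixSub_isPGroup hA2 _, ?_⟩
    rw [card_fixSub_of_fixes _ _ hf2', hc2, hZ]
  obtain ⟨σ, hσ⟩ := full2_conj _ _ hB1 hB2
  refine ⟨extP (fun y => c₂ y = y) σ * g, ?_, ?_⟩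
  · have h5 := congrArg (Subgroup.map (extP (fun y => c₂ y = y))) hσ
    rw [fixSub_map_extP _ _ hf2', map_extP_conj, fixSub_map_extP _ _ hf1',
      Subgroup.map_map] at h5
    rw [h5]
    congr 1
  · have h6 := extP_commute c₂ σ
    calc extP (fun y => c₂ y = y) σ * g * c₁ * (extP (fun y => c₂ y = y) σ * g)⁻¹
        = extP (fun y => c₂ y = y) σ * (g * c₁ * g⁻¹) * (extP (fun y => c₂ y = y) σ)⁻¹ := by
          group
      _ = extP (fun y => c₂ y = y) σ * c₂ * (extP (fun y => c₂ y = y) σ)⁻¹ := by rw [hg]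
      _ = c₂ := by rw [h6]; group

end Cfsg.Agent.Helper37
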