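import Mathlib
import Cfsg.Agent.Helper37.NilSym2

set_option autoImplicit false

namespace Cfsg.Agent.Helper37

open Nat

theorem hh_two : hh 2 = 1 := by
  have h2 := hh_rec 2
  norm_num [hh_one] at h2
  exact h2

theorem hh_three : hh 3 = 1 := by
  have h3 := hh_rec 3
  norm_num [hh_one] at h3
  exact h3

theorem hh_val_four : hh 4 = 3 := by
  have h4 := hh_rec 4
  norm_num [hh_two] at h4
  exact h4

/-- the largest order of a nilpotent subgroup of the alternating group of degree `n` -/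
def ga (n : ℕ) : ℕ :=
  if n ≤ 1 then 1 else if n = 3 then 3 else if n = 5 then 5 else if n = 6 then 9
  else if n = 9 then 81 else gg n / 2

theorem gg_one : gg 1 = 1 := by norm_num [gg, cc, hh_zero]
theorem gg_two : gg 2 = 2 := by norm_num [gg, cc, hh_zero]
theorem gg_three : gg 3 = 3 := by norm_num [gg, cc, hh_zero]
theorem gg_four : gg 4 = 8 := by norm_num [gg, cc, hh_one]
theorem gg_five : gg 5 = 8 := by norm_num [gg, cc, hh_one]
theorem gg_six : gg 6 = 16 := by norm_num [gg, cc, hh_one]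
theorem gg_seven : gg 7 = 24 := by norm_num [gg, cc, hh_one]
theorem gg_eight : gg 8 = 128 := by norm_num [gg, cc, hh_two]
theorem gg_nine : gg 9 = 128 := by norm_num [gg, cc, hh_two]
theorem gg_ten : gg 10 = 256 := by norm_num [gg, cc, hh_two]
theorem gg_eleven : gg 11 = 384 := by norm_num [gg, cc, hh_two]
theorem gg_twelve : gg 12 = 1024 := by norm_num [gg, cc, hh_three]
theorem gg_fourteen : gg 14 = 2048 := by norm_num [gg, cc, hh_three]
theorem gg_fifteen : gg 15 = 3072 := by norm_num [gg, cc, hh_three]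
theorem gg_eighteen : gg 18 = 65536 := by norm_num [gg, cc, hh_val_four]

theorem two_dvd_gg {n : ℕ} (h : 2 ≤ n) (h3 : n ≠ 3) : 2 ∣ gg n := by
  unfold gg
  by_cases hi : n / 4 = 0
  · have h2 : n = 2 := by omega
    subst h2
    norm_num [cc]
  · apply Dvd.dvd.mul_left
    exact dvd_pow_self 2 (by omega)

theorem two_mul_ga {n : ℕ} (h : 2 ≤ n) (h3 : n ≠ 3) (h5 : n ≠ 5) (h6 : n ≠ 6) (h9 : n ≠ 9) :
    2 * ga n = gg n := by
  unfold ga
  rw [if_neg (by omega), if_neg h3, if_neg h5, if_neg h6, if_neg h9]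
  exact Nat.mul_div_cancel' (two_dvd_gg h h3)

theorem ga_min (k l : ℕ) (hk : 1 ≤ k) (hl : 1 ≤ l) :
    min (gg k * ga l) (ga k * gg l) ≤ ga (k + l) := by
  by_cases hs : k + l = 3 ∨ k + l = 5 ∨ k + l = 6 ∨ k + l = 9
  · have hk8 : k ≤ 8 := by omega
    have hl8 : l ≤ 8 := by omega
    interval_cases k <;> interval_cases l <;>
      first
      | omega
      | norm_num [ga, gg_one, gg_two, gg_three, gg_four, gg_five, gg_six, gg_seven, gg_eight]
  · by_cases hE : (k = 1 ∨ k = 3 ∨ k = 5 ∨ k = 6 ∨ k = 9) ∧ (l = 1 ∨ l = 3 ∨ l = 5 ∨ l = 6 ∨ l = 9)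
    · obtain ⟨h1, h2⟩ := hE
      rcases h1 with rfl | rfl | rfl | rfl | rfl <;> rcases h2 with rfl | rfl | rfl | rfl | rfl <;>
        norm_num [ga, gg_one, gg_two, gg_three, gg_four, gg_five, gg_six, gg_seven, gg_eight,
          gg_nine, gg_ten, gg_eleven, gg_twelve, gg_fourteen, gg_fifteen, gg_eighteen]
    · have hsum := two_mul_ga (n := k + l) (by omega) (by omega) (by omega) (by omega) (by omega)
      have hmul := gg_mul k l
      by_cases hl' : l = 1 ∨ l = 3 ∨ l = 5 ∨ l = 6 ∨ l = 9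
      · have hk' : ¬ (k = 1 ∨ k = 3 ∨ k = 5 ∨ k = 6 ∨ k = 9) := fun h => hE ⟨h, hl'⟩
        have h1 := two_mul_ga (n := k) (by omega) (by omega) (by omega) (by omega) (by omega)
        apply (min_le_right _ _).trans
        have h2 : 2 * (ga k * gg l) ≤ 2 * ga (k + l) := by
          rw [hsum, ← mul_assoc, h1]
          exact hmul
        omega
      · have h1 := two_mul_ga (n := l) (by omega) (by omega) (by omega) (by omega) (by omega)
        apply (min_le_left _ _).trans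
        have h2 : 2 * (gg k * ga l) ≤ 2 * ga (k + l) := by
          rw [hsum, mul_left_comm, h1]
          exact hmul
        omega

theorem two_pow_hh_le_ga {n : ℕ} (h : 2 ≤ n) : 2 ^ hh n ≤ 2 * ga n := by
  by_cases hE : n = 3 ∨ n = 5 ∨ n = 6 ∨ n = 9
  · rcases hE with rfl | rfl | rfl | rfl
    · norm_num [ga, hh_three]
    · norm_num [ga, hh_five]
    · norm_num [ga, hh_six]
    · have h9 : hh 9 = 7 := by
        have h := hh_rec 9
        norm_num [hh_val_four] at h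
        exact h
      norm_num [ga, h9]
  · rw [two_mul_ga h (by omega) (by omega) (by omega) (by omega)]
    exact two_pow_hh_le_gg n

theorem two_mul_two_pow_half_le_gg {n : ℕ} (hn : 4 ≤ n) : 2 * 2 ^ (n / 2) ≤ gg n := by
  unfold gg
  have hr : n % 4 < 4 := Nat.mod_lt _ (by norm_num)
  have h2 : 2 ^ (n % 4 / 2) ≤ cc (n % 4) := by
    interval_cases (n % 4) <;> simp [cc]
  calc 2 * 2 ^ (n / 2) = 2 ^ (n % 4 / 2) * 2 ^ (2 * (n / 4) + 1) := by
        rw [← pow_add, ← pow_succ']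
        congr 1
        omega
    _ ≤ cc (n % 4) * 2 ^ (hh (n / 4) + 3 * (n / 4)) :=
        Nat.mul_le_mul h2 (Nat.pow_le_pow_right (by norm_num) (by omega))

theorem two_pow_half_le_ga {n : ℕ} (h : 6 ≤ n) : 2 ^ (n / 2) ≤ ga n := by
  by_cases hE : n = 6 ∨ n = 9
  · rcases hE with rfl | rfl <;> norm_num [ga]
  · have h1 := two_mul_ga (n := n) (by omega) (by omega) (by omega) (by omega) (by omega)
    have h2 := two_mul_two_pow_half_le_gg (n := n) (by omega)
    omega

theorem two_mul_pow_le_gg_of_seven_le {p j n : ℕ} (hp : 7 ≤ p) (h : (p - 1) * j < n)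
    (hn : 4 ≤ n) : 2 * p ^ j ≤ gg n := by
  obtain ⟨t, rfl⟩ : ∃ t, p = t + 7 := ⟨p - 7, by omega⟩
  have h1 : ((t + 7) ^ j) ^ 2 ≤ (2 ^ (n / 2)) ^ 2 := by
    calc ((t + 7) ^ j) ^ 2 = ((t + 7) ^ 2) ^ j := by rw [← pow_mul, ← pow_mul, mul_comm]
      _ ≤ (2 ^ (t + 6)) ^ j := Nat.pow_le_pow_left (sq_le_two_pow t) j
      _ = 2 ^ ((t + 6) * j) := by rw [← pow_mul]
      _ ≤ 2 ^ (n / 2 * 2) := Nat.pow_le_pow_right (by norm_num) (by
          have : t + 7 - 1 = t + 6 := by omega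
          rw [this] at h
          omega)
      _ = (2 ^ (n / 2)) ^ 2 := by rw [pow_mul]
  have h2 : (t + 7) ^ j ≤ 2 ^ (n / 2) := by
    by_contra hc
    have hc' : 2 ^ (n / 2) < (t + 7) ^ j := not_le.mp hc
    have := Nat.pow_lt_pow_left hc' (n := 2) (by norm_num)
    omega
  exact (Nat.mul_le_mul_left 2 h2).trans (two_mul_two_pow_half_le_gg hn)

theorem two_mul_pow_le_gg_five {j n : ℕ} (h : 4 * j < n) (hn : 8 ≤ n) : 2 * 5 ^ j ≤ gg n := by
  unfold gg
  have hj : j ≤ n / 4 := by omega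
  have h1 : 1 ≤ hh (n / 4) := by
    have := hh_mono (a := 2) (b := n / 4) (by omega)
    rw [hh_two] at this
    exact this
  calc 2 * 5 ^ j ≤ 2 * 8 ^ j := Nat.mul_le_mul_left _ (Nat.pow_le_pow_left (by norm_num) j)
    _ ≤ 2 * 8 ^ (n / 4) := Nat.mul_le_mul_left _ (Nat.pow_le_pow_right (by norm_num) hj)
    _ = 2 ^ (3 * (n / 4) + 1) := by rw [pow_succ, pow_mul]; norm_num; ring
    _ ≤ 2 ^ (hh (n / 4) + 3 * (n / 4)) := Nat.pow_le_pow_right (by norm_num) (by omega)
    _ ≤ cc (n % 4) * 2 ^ (hh (n / 4) + 3 * (n / 4)) := Nat.le_mul_of_pos_left _ (cc_pos _)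

theorem two_mul_pow_le_gg_three {j n : ℕ} (h : 2 * j < n) (hn : n % 8 = 1 ∨ n % 8 = 3)
    (h16 : 16 ≤ n) : 2 * 3 ^ j ≤ gg n := by
  unfold gg
  set u := n / 8 with hu
  have h4 : n / 4 = 2 * u := by omega
  have hu2 : 1 ≤ hh u := by
    have := hh_mono (a := 2) (b := u) (by omega)
    rw [hh_two] at this
    exact this
  have hh2 : u + 1 ≤ hh (2 * u) := by
    rw [hh_rec (2 * u)]
    have : 2 * u / 2 = u := by omega
    rw [this]
    omega
  have key : 2 * (81 : ℕ) ^ u ≤ 2 ^ (hh (n / 4) + 3 * (n / 4)) := by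
    calc 2 * (81 : ℕ) ^ u ≤ 2 * 128 ^ u := Nat.mul_le_mul_left _ (Nat.pow_le_pow_left (by norm_num) u)
      _ = 2 ^ (7 * u + 1) := by rw [pow_succ, pow_mul]; norm_num; ring
      _ ≤ 2 ^ (hh (n / 4) + 3 * (n / 4)) := Nat.pow_le_pow_right (by norm_num) (by
          rw [h4]; omega)
  rcases hn with hn | hn
  · have hc : cc (n % 4) = 1 := by
      have : n % 4 = 1 := by omega
      rw [this]; simp [cc]
    rw [hc, one_mul]
    have hj : j ≤ 4 * u := by omega
    calc 2 * 3 ^ j ≤ 2 * 3 ^ (4 * u) := Nat.mul_le_mul_left _ (Nat.pow_le_pow_right (by norm_num) hj)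
      _ = 2 * 81 ^ u := by rw [pow_mul]; norm_num
      _ ≤ _ := key
  · have hc : cc (n % 4) = 3 := by
      have : n % 4 = 3 := by omega
      rw [this]; simp [cc]
    rw [hc]
    have hj : j ≤ 4 * u + 1 := by omega
    calc 2 * 3 ^ j ≤ 2 * 3 ^ (4 * u + 1) :=
          Nat.mul_le_mul_left _ (Nat.pow_le_pow_right (by norm_num) hj)
      _ = 3 * (2 * 81 ^ u) := by rw [pow_succ, pow_mul]; norm_num; ring
      _ ≤ 3 * 2 ^ (hh (n / 4) + 3 * (n / 4)) := Nat.mul_le_mul_left _ key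

end Cfsg.Agent.Helper37
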