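import Mathlib
import Cfsg.Agent.Helper37.NilAlt0

set_option autoImplicit false

namespace Cfsg.Agent.Helper37

open Nat

theorem gg_prod_pow {k l n : ℕ} (hk : 2 ≤ k) (hl : 2 ≤ l) (hkl : k * l ≤ n) :
    gg k * gg l ≤ 2 ^ (n / 2) := by
  have h1 := gg_le_two_pow (k := k) (by omega)
  have h2 := gg_le_two_pow (k := l) (by omega)
  have h3 : k - 1 + (l - 1) ≤ n / 2 := by
    obtain ⟨k', rfl⟩ : ∃ k', k = k' + 2 := ⟨k - 2, by omega⟩
    obtain ⟨l', rfl⟩ : ∃ l', l = l' + 2 := ⟨l - 2, by omega⟩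
    have : (k' + 2) * (l' + 2) = k' * l' + 2 * k' + 2 * l' + 4 := by ring
    rw [this] at hkl
    have : 0 ≤ k' * l' := Nat.zero_le _
    omega
  calc gg k * gg l ≤ 2 ^ (k - 1) * 2 ^ (l - 1) := Nat.mul_le_mul h1 h2
    _ = 2 ^ (k - 1 + (l - 1)) := by rw [← pow_add]
    _ ≤ 2 ^ (n / 2) := Nat.pow_le_pow_right (by norm_num) h3

/-- the transitive step for a product of two commuting normal subgroups of coprime orders,
with the sharper bound -/
theorem card_le_pow_of_product {X : Type} [Finite X] (G : Subgroup (Equiv.Perm X))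
    [Group.IsNilpotent G] [MulAction.IsPretransitive G X] (A B : Subgroup G)
    [A.Normal] [B.Normal]
    (hcomm : ∀ a ∈ A, ∀ b ∈ B, a * b = b * a) (hcompl : A.IsComplement' B)
    (hcop : (Nat.card A).Coprime (Nat.card B)) (hA : A ≠ ⊥) (hB : B ≠ ⊥) :
    Nat.card G ≤ 2 ^ (Nat.card X / 2) ∧ 6 ≤ Nat.card X := by
  classical
  obtain ⟨x⟩ : Nonempty X := by
    by_contra hne
    rw [not_nonempty_iff] at hne
    apply hA
    rw [Subgroup.eq_bot_iff_forall]
    intro a _
    apply Subtype.ext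
    apply Equiv.ext
    intro y
    exact (hne.false y).elim
  have hgenAB : ∀ g : G, ∃ a ∈ A, ∃ b ∈ B, g = a * b := by
    intro g
    obtain ⟨⟨a, b⟩, hab⟩ := hcompl.2 g
    exact ⟨a.1, a.2, b.1, b.2, hab.symm⟩
  have hgenA : ∀ g : G, ∃ a ∈ A, ∃ b ∈ B, g = b * a := by
    intro g
    obtain ⟨a, ha, b, hb, rfl⟩ := hgenAB g
    exact ⟨a, ha, b, hb, hcomm a ha b hb⟩
  have hgenB : ∀ g : G, ∃ b ∈ B, ∃ a ∈ A, g = a * b := by
    intro g
    obtain ⟨a, ha, b, hb, rfl⟩ := hgenAB g
    exact ⟨b, hb, a, ha, rfl⟩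
  have hcomm' : ∀ b ∈ B, ∀ a ∈ A, b * a = a * b := fun b hb a ha => (hcomm a ha b hb).symm
  set k := (MulAction.orbit A x).ncard with hk
  set l := (MulAction.orbit B x).ncard with hl
  have hkX : k ∣ Nat.card X :=
    (MulAction.IsBlock.orbit_of_normal (G := G) (N := A) x).ncard_dvd_card
      ⟨x, MulAction.mem_orbit_self x⟩
  have hlX : l ∣ Nat.card X :=
    (MulAction.IsBlock.orbit_of_normal (G := G) (N := B) x).ncard_dvd_card
      ⟨x, MulAction.mem_orbit_self x⟩
  have hkA : k ∣ Nat.card A := by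
    rw [hk, ← MulAction.index_stabilizer]
    exact Subgroup.index_dvd_card _
  have hlB : l ∣ Nat.card B := by
    rw [hl, ← MulAction.index_stabilizer]
    exact Subgroup.index_dvd_card _
  have hcop' : k.Coprime l := Nat.Coprime.coprime_dvd_left hkA (Nat.Coprime.coprime_dvd_right hlB hcop)
  have hklX : k * l ∣ Nat.card X := Nat.Coprime.mul_dvd_of_dvd_of_dvd hcop' hkX hlX
  haveI : Nonempty X := ⟨x⟩
  have hXpos : 0 < Nat.card X := Nat.card_pos
  have hkl : k * l ≤ Nat.card X := Nat.le_of_dvd hXpos hklX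
  have key : ∀ (A' B' : Subgroup G), (∀ a ∈ A', ∀ b ∈ B', a * b = b * a) →
      (∀ g : G, ∃ a ∈ A', ∃ b ∈ B', g = b * a) → A' ≠ ⊥ →
      2 ≤ (MulAction.orbit A' x).ncard := by
    intro A' B' hc hg hne
    by_contra hlt
    have hpos : 0 < (MulAction.orbit A' x).ncard :=
      (Set.ncard_pos (Set.toFinite _)).mpr ⟨x, MulAction.mem_orbit_self x⟩
    have h1 : (MulAction.orbit A' x).ncard = 1 := by omega
    obtain ⟨z, hz⟩ := Set.ncard_eq_one.mp h1
    apply hne
    rw [Subgroup.eq_bot_iff_forall]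
    intro u hu
    apply eq_one_of_fixes_orbit G A' B' hc hg x u hu
    intro y hy
    have h3 : u • y ∈ MulAction.orbit A' x := by
      obtain ⟨a, rfl⟩ := hy
      exact ⟨⟨u, hu⟩ * a, mul_smul (⟨u, hu⟩ : ↥A') a x⟩
    rw [hz] at hy h3
    rw [Set.mem_singleton_iff] at hy h3
    rw [h3, hy]
  have hk2 : 2 ≤ k := key A B hcomm hgenA hA
  have hl2 : 2 ≤ l := key B A hcomm' hgenB hB
  have hkl6 : 6 ≤ k * l := by
    by_contra hlt
    have hk3 : k ≤ 2 := by
      by_contra hk3
      have : 3 * 2 ≤ k * l := Nat.mul_le_mul (by omega) hl2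
      omega
    have hl3 : l ≤ 2 := by
      by_contra hl3
      have : 2 * 3 ≤ k * l := Nat.mul_le_mul hk2 (by omega)
      omega
    have hk' : k = 2 := by omega
    have hl' : l = 2 := by omega
    rw [hk', hl'] at hcop'
    exact absurd hcop' (by norm_num)
  have hcA : Nat.card A ≤ gg k := by
    have hinj := orbitHom_injective G A B hcomm hgenA x
    have h1 : Nat.card A = Nat.card (orbitHom G A x).range :=
      Nat.card_congr (Equiv.ofInjective _ hinj)
    rw [h1]
    exact nilpotent_card_le k ↥(MulAction.orbit A x) (Nat.card_coe_set_eq _) _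
      (Group.nilpotent_of_surjective (orbitHom G A x).rangeRestrict
        (orbitHom G A x).rangeRestrict_surjective)
  have hcB : Nat.card B ≤ gg l := by
    have hinj := orbitHom_injective G B A hcomm' hgenB x
    have h1 : Nat.card B = Nat.card (orbitHom G B x).range :=
      Nat.card_congr (Equiv.ofInjective _ hinj)
    rw [h1]
    exact nilpotent_card_le l ↥(MulAction.orbit B x) (Nat.card_coe_set_eq _) _
      (Group.nilpotent_of_surjective (orbitHom G B x).rangeRestrict
        (orbitHom G B x).rangeRestrict_surjective)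
  refine ⟨?_, by omega⟩
  rw [← hcompl.card_mul_card]
  exact (Nat.mul_le_mul hcA hcB).trans (gg_prod_pow hk2 hl2 hkl)

/-- transitive nilpotent groups that are not of prime power order, with the sharper bound -/
theorem card_le_pow_of_not_pgroup {X : Type} [Finite X] (G : Subgroup (Equiv.Perm X))
    [Group.IsNilpotent G] [MulAction.IsPretransitive G X]
    (hnp : ¬ ∃ p : ℕ, p.Prime ∧ IsPGroup p G) :
    Nat.card G ≤ 2 ^ (Nat.card X / 2) ∧ 6 ≤ Nat.card X := by
  classical
  have hcard1 : Nat.card G ≠ 1 := by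
    intro h1
    apply hnp
    refine ⟨2, Nat.prime_two, IsPGroup.of_card (n := 0) ?_⟩
    rw [h1, pow_zero]
  set p := (Nat.card G).minFac with hp
  have hpp : p.Prime := Nat.minFac_prime hcard1
  haveI : Fact p.Prime := ⟨hpp⟩
  have hpdvd : p ∣ Nat.card G := Nat.minFac_dvd _
  let P : Sylow p G := default
  have hPne : (P : Subgroup G) ≠ ⊥ := P.ne_bot_of_dvd_card hpdvd
  have hcopP : (Nat.card (P : Subgroup G)).Coprime (P : Subgroup G).index := P.card_coprime_index
  obtain ⟨H, hH⟩ := Subgroup.exists_right_complement'_of_coprime hcopP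
  have hHcard : (P : Subgroup G).index = Nat.card H := hH.symm.index_eq_card
  have hcop : (Nat.card (P : Subgroup G)).Coprime (Nat.card H) := by rw [← hHcard]; exact hcopP
  let C : Subgroup G := Subgroup.centralizer ((P : Subgroup G) : Set G)
  have hHC : H ≤ C := by
    rw [← Subgroup.relIndex_eq_one]
    by_contra hd
    obtain ⟨q, hq, hqd⟩ := Nat.exists_prime_and_dvd hd
    haveI : Fact q.Prime := ⟨hq⟩
    have hqH : q ∣ Nat.card H := hqd.trans (Subgroup.relIndex_dvd_card C H)
    have hqC : q ∣ C.index := hqd.trans (Subgroup.relIndex_dvd_index_of_normal C H)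
    have hqp : q ≠ p := by
      intro hqp
      rw [hqp] at hqH
      have h1 : p ∣ Nat.card (P : Subgroup G) := P.dvd_card_of_dvd_card hpdvd
      have := Nat.eq_one_of_dvd_coprimes hcop h1 hqH
      exact hpp.one_lt.ne' this
    let Q : Sylow q G := default
    have hdis : Disjoint (Q : Subgroup G) (P : Subgroup G) :=
      IsPGroup.disjoint_of_ne q p hqp _ _ Q.isPGroup' P.isPGroup'
    have hQC : (Q : Subgroup G) ≤ C := by
      intro y hy
      rw [Subgroup.mem_centralizer_iff]
      intro u hu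
      exact (Subgroup.commute_of_normal_of_disjoint _ _ inferInstance inferInstance hdis y u
        hy hu).eq.symm
    have h3 : q ∣ (Q : Subgroup G).index := hqC.trans (Subgroup.index_dvd_of_le hQC)
    exact Q.not_dvd_index h3
  have hcomm : ∀ a ∈ (P : Subgroup G), ∀ b ∈ H, a * b = b * a := by
    intro a ha b hb
    exact (Subgroup.mem_centralizer_iff.mp (hHC hb)) a ha
  have hgenAB : ∀ g : G, ∃ a ∈ (P : Subgroup G), ∃ b ∈ H, g = a * b := by
    intro g
    obtain ⟨⟨a, b⟩, hab⟩ := hH.2 g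
    exact ⟨a.1, a.2, b.1, b.2, hab.symm⟩
  haveI : H.Normal := by
    constructor
    intro h hh g
    obtain ⟨a, ha, b, hb, rfl⟩ := hgenAB g
    have h1 : b * h * b⁻¹ ∈ H := H.mul_mem (H.mul_mem hb hh) (H.inv_mem hb)
    have h2 : a * b * h * (a * b)⁻¹ = b * h * b⁻¹ := by
      have := hcomm a ha _ h1
      calc a * b * h * (a * b)⁻¹ = a * (b * h * b⁻¹) * a⁻¹ := by group
        _ = (b * h * b⁻¹) * a * a⁻¹ := by rw [this]
        _ = b * h * b⁻¹ := by group
    rw [h2]
    exact h1
  have hHne : H ≠ ⊥ := by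
    intro hbot
    apply hnp
    refine ⟨p, hpp, ?_⟩
    have h1 := hH.card_mul_card
    rw [hbot, Subgroup.card_bot, mul_one] at h1
    obtain ⟨n, hn⟩ := IsPGroup.iff_card.mp P.isPGroup'
    exact IsPGroup.of_card (n := n) (h1.symm.trans hn)
  exact card_le_pow_of_product G (P : Subgroup G) H hcomm hH hcop hPne hHne

end Cfsg.Agent.Helper37
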