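import Mathlib
import Cfsg.Agent.Helper37.NilAlt1

set_option autoImplicit false

namespace Cfsg.Agent.Helper37

open Nat

theorem fixSub_nilpotent {X : Type} (S : Subgroup (Equiv.Perm X)) [Group.IsNilpotent S]
    (q : X → Prop) : Group.IsNilpotent (fixSub S q) := by
  let f : ↥(fixSub S q) →* ↥S :=
    { toFun := fun σ => ⟨extP q σ.1, σ.2⟩
      map_one' := by
        apply Subtype.ext
        simp
      map_mul' := fun a b => by
        apply Subtype.ext
        simp }
  have hinj : Function.Injective f := fun a b h =>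
    Subtype.ext (extP_injective q (congrArg Subtype.val h))
  exact Group.nilpotent_of_mulEquiv (MonoidHom.ofInjective hinj).symm

/-- transitive `p`-subgroups of alternating groups -/
theorem alt_card_le_of_pgroup {X : Type} [Finite X] (G : Subgroup (Equiv.Perm X))
    (hGA : G ≤ altS X) [MulAction.IsPretransitive G X] (h2 : 2 ≤ Nat.card X) (p : ℕ)
    (hp : p.Prime) (hG : IsPGroup p G) : Nat.card G ≤ ga (Nat.card X) := by
  classical
  haveI : Fact p.Prime := ⟨hp⟩
  haveI : Nonempty X := (Nat.card_pos_iff.mp (by omega)).1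
  obtain ⟨j, hj⟩ := IsPGroup.iff_card.mp hG
  set n := Nat.card X with hn
  have hn0 : n ≠ 0 := by omega
  have hdvd : p ^ j ∣ n ! := by
    rw [← hj, hn, ← Nat.card_perm]
    exact Subgroup.card_subgroup_dvd_card G
  have hjle : j ≤ padicValNat p (n !) :=
    (padicValNat_dvd_iff_le (Nat.factorial_ne_zero n)).mp hdvd
  have hlt : (p - 1) * padicValNat p (n !) < n :=
    sub_one_mul_padicValNat_factorial_lt_of_ne_zero p hn0
  have hlt' : (p - 1) * j < n := lt_of_le_of_lt (Nat.mul_le_mul_left _ hjle) hlt
  obtain ⟨x⟩ : Nonempty X := inferInstance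
  have h1 : (MulAction.stabilizer G x).index = n := by
    rw [MulAction.index_stabilizer, MulAction.orbit_eq_univ, Set.ncard_univ]
  have hnd : n ∣ p ^ j := by
    rw [← hj, ← h1]
    exact Subgroup.index_dvd_card _
  obtain ⟨a, -, ha⟩ := (Nat.dvd_prime_pow hp).mp hnd
  have ha1 : 1 ≤ a := by
    by_contra h0
    have h0' : a = 0 := by omega
    rw [h0', pow_zero] at ha
    omega
  rw [hj]
  have hcases : p = 2 ∨ p = 3 ∨ p = 5 ∨ 7 ≤ p := by
    have h2 := hp.two_le
    by_contra hc
    have : p = 4 ∨ p = 6 := by omega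
    rcases this with rfl | rfl
    · exact absurd hp (by norm_num)
    · exact absurd hp (by norm_num)
  rcases hcases with rfl | rfl | rfl | h7
  · obtain ⟨k, hk, hk'⟩ := two_group_card_alt hG hGA h2
    have hjk : j = k := Nat.pow_right_injective (le_refl 2) (hj.symm.trans hk)
    subst hjk
    have h3 := two_pow_hh_le_ga (n := n) h2
    have h4 : 2 ^ (j + 1) ≤ 2 ^ hh n := Nat.pow_le_pow_right (by norm_num) hk'
    rw [pow_succ] at h4
    omega
  · by_cases h3 : n = 3
    · have hj1 : j ≤ 1 := by omega
      rw [h3]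
      interval_cases j <;> norm_num [ga]
    by_cases h9 : n = 9
    · have hj4 : j ≤ 4 := by omega
      rw [h9]
      interval_cases j <;> norm_num [ga]
    have ha3 : 3 ≤ a := by
      by_contra hlt3
      have : a = 1 ∨ a = 2 := by omega
      rcases this with rfl | rfl
      · exact h3 (by rw [ha]; norm_num)
      · exact h9 (by rw [ha]; norm_num)
    have h27 : 27 ≤ n := by
      rw [ha]
      calc 27 = 3 ^ 3 := by norm_num
        _ ≤ 3 ^ a := Nat.pow_le_pow_right (by norm_num) ha3
    have hmod : n % 8 = 1 ∨ n % 8 = 3 := by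
      rw [ha]
      exact three_pow_mod_eight a
    have h5 := two_mul_pow_le_gg_three (j := j) (n := n) (by omega) hmod (by omega)
    have h6 := two_mul_ga (n := n) (by omega) (by omega) (by omega) (by omega) (by omega)
    omega
  · by_cases h5 : n = 5
    · have hj1 : j ≤ 1 := by omega
      rw [h5]
      interval_cases j <;> norm_num [ga]
    have ha2 : 2 ≤ a := by
      by_contra hlt2
      have ha' : a = 1 := by omega
      exact h5 (by rw [ha, ha']; norm_num)
    have h25 : 25 ≤ n := by
      rw [ha]
      calc 25 = 5 ^ 2 := by norm_num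
        _ ≤ 5 ^ a := Nat.pow_le_pow_right (by norm_num) ha2
    have h6 := two_mul_pow_le_gg_five (j := j) (n := n) (by omega) (by omega)
    have h7 := two_mul_ga (n := n) (by omega) (by omega) (by omega) (by omega) (by omega)
    omega
  · have hpn : p ≤ n := by
      rw [ha]
      exact Nat.le_self_pow (by omega) p
    have h9 : n ≠ 9 := by
      intro h9
      rw [h9] at ha
      have hp9 : p ∣ 9 := by
        rw [ha]
        exact dvd_pow_self p (by omega)
      have hple : p ≤ 9 := Nat.le_of_dvd (by norm_num) hp9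
      interval_cases p
      · omega
      · omega
      · exact absurd hp (by norm_num)
    have h6 := two_mul_pow_le_gg_of_seven_le (j := j) (n := n) h7 hlt' (by omega)
    have h7' := two_mul_ga (n := n) (by omega) (by omega) (by omega) (by omega) h9
    omega

/-- **Nilpotent subgroups of alternating groups are small.** -/
theorem alt_nilpotent_card_le : ∀ (n : ℕ) (X : Type) [Finite X], Nat.card X = n →
    ∀ G : Subgroup (Equiv.Perm X), G ≤ altS X → Group.IsNilpotent G → Nat.card G ≤ ga n := by
  intro n
  induction n using Nat.strong_induction_on with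
  | _ n ih =>
    intro X _ hX G hGA hG
    classical
    haveI := hG
    by_cases h1 : n ≤ 1
    · haveI hsub : Subsingleton X := by
        rw [← Finite.card_le_one_iff_subsingleton]
        omega
      have h2 : Nat.card G = 1 := by
        rw [Nat.card_eq_one_iff_unique]
        refine ⟨⟨?_⟩, ⟨1⟩⟩
        intro a b
        apply Subtype.ext
        apply Equiv.ext
        intro z
        exact Subsingleton.elim _ _
      rw [h2]
      unfold ga
      rw [if_pos h1]
    · by_cases htrans : MulAction.IsPretransitive G X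
      · by_cases hp : ∃ p : ℕ, p.Prime ∧ IsPGroup p G
        · obtain ⟨p, hp, hpG⟩ := hp
          rw [← hX]
          exact alt_card_le_of_pgroup G hGA (by omega) p hp hpG
        · obtain ⟨h2, h6⟩ := card_le_pow_of_not_pgroup G hp
          rw [← hX]
          exact h2.trans (two_pow_half_le_ga h6)
      · rw [MulAction.isPretransitive_iff] at htrans
        simp only [not_forall, not_exists] at htrans
        obtain ⟨x, y, hxy⟩ := htrans
        have hp := orbPred_invariant G x
        have hy : ¬ ∃ σ ∈ G, σ x = y := by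
          rintro ⟨σ, hσ, h⟩
          exact hxy ⟨σ, hσ⟩ h
        have hsum := card_subtype_add (fun z => ∃ σ ∈ G, σ x = z)
        have hsum' := card_subtype_add (fun z => ¬ ∃ σ ∈ G, σ x = z)
        have h1pos : 1 ≤ Nat.card {z // ∃ σ ∈ G, σ x = z} := by
          haveI : Nonempty {z // ∃ σ ∈ G, σ x = z} := ⟨⟨x, 1, G.one_mem, rfl⟩⟩
          exact Nat.card_pos
        have h2pos : 1 ≤ Nat.card {z // ¬ ∃ σ ∈ G, σ x = z} := by
          haveI : Nonempty {z // ¬ ∃ σ ∈ G, σ x = z} := ⟨⟨y, hy⟩⟩
          exact Nat.card_pos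
        have hp' : ∀ g ∈ G, ∀ z, (¬ ∃ σ ∈ G, σ x = g z) ↔ ¬ ∃ σ ∈ G, σ x = z :=
          fun g hg z => not_congr (hp g hg z)
        have d1 := card_decomp G (fun z => ∃ σ ∈ G, σ x = z) hp
        have d2 := card_decomp G (fun z => ¬ ∃ σ ∈ G, σ x = z) hp'
        have b1 : Nat.card (restrHom G (fun z => ∃ σ ∈ G, σ x = z) hp).range ≤ gg (Nat.card {z // ∃ σ ∈ G, σ x = z}) :=
          nilpotent_card_le _ _ rfl _ (Group.nilpotent_of_surjective
            (restrHom G (fun z => ∃ σ ∈ G, σ x = z) hp).rangeRestrict (restrHom G (fun z => ∃ σ ∈ G, σ x = z) hp).rangeRestrict_surjective)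
        have b2 : Nat.card (fixSub G (fun z => ¬ ∃ σ ∈ G, σ x = z)) ≤
            ga (Nat.card {z // ¬ ∃ σ ∈ G, σ x = z}) :=
          ih _ (by omega) _ rfl _ (fixSub_le_altS hGA _) (fixSub_nilpotent G _)
        have b3 : Nat.card (restrHom G (fun z => ¬ ∃ σ ∈ G, σ x = z) hp').range ≤
            gg (Nat.card {z // ¬ ∃ σ ∈ G, σ x = z}) :=
          nilpotent_card_le _ _ rfl _ (Group.nilpotent_of_surjective
            (restrHom G (fun z => ¬ ∃ σ ∈ G, σ x = z) hp').rangeRestrict (restrHom G (fun z => ¬ ∃ σ ∈ G, σ x = z) hp').rangeRestrict_surjective)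
        have b4 : Nat.card (fixSub G (fun z => ¬ ¬ ∃ σ ∈ G, σ x = z)) ≤
            ga (Nat.card {z // ¬ ¬ ∃ σ ∈ G, σ x = z}) :=
          ih _ (by omega) _ rfl _ (fixSub_le_altS hGA _) (fixSub_nilpotent G _)
        have hYY : Nat.card {z // ¬ ¬ ∃ σ ∈ G, σ x = z} =
            Nat.card {z // ∃ σ ∈ G, σ x = z} := by omega
        rw [hYY] at b4
        have m := ga_min (Nat.card {z // ∃ σ ∈ G, σ x = z})
          (Nat.card {z // ¬ ∃ σ ∈ G, σ x = z}) h1pos h2pos
        rw [hsum, hX] at m
        refine le_trans (le_min ?_ ?_) m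
        · rw [d1]
          exact Nat.mul_le_mul b1 b2
        · rw [d2, mul_comm]
          exact Nat.mul_le_mul b4 b3

/-- the order of a Sylow 2-subgroup of an alternating group -/
theorem card_sylow_alt (n : ℕ) (h : 2 ≤ n) (P : Sylow 2 (alternatingGroup (Fin n))) :
    Nat.card P * 2 = 2 ^ hh n := by
  haveI : Fact (Nat.Prime 2) := ⟨Nat.prime_two⟩
  haveI : Nontrivial (Fin n) := Fin.nontrivial_iff_two_le.mpr (by omega)
  have hcard : Nat.card (alternatingGroup (Fin n)) * 2 = n.factorial := by
    rw [mul_comm, two_mul_nat_card_alternatingGroup, Nat.card_perm, Nat.card_fin]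
  have h1 : (Nat.card (alternatingGroup (Fin n))).factorization 2 + 1 = hh n := by
    have h2 := congrArg (fun m : ℕ => m.factorization 2) hcard
    rw [Nat.factorization_mul Nat.card_pos.ne' (by norm_num)] at h2
    simp only [Finsupp.coe_add, Pi.add_apply,
      Nat.Prime.factorization_self Nat.prime_two] at h2
    rw [h2]
    unfold hh
    exact Nat.factorization_def _ Nat.prime_two
  rw [Sylow.card_eq_multiplicity, ← pow_succ, h1]

/-- transport of a nilpotent subgroup of the alternating group to the symmetric group -/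
theorem alt_subgroup_card_le (n : ℕ) (N : Subgroup (alternatingGroup (Fin n)))
    (hN : Group.IsNilpotent N) : Nat.card N ≤ ga n := by
  haveI := hN
  have hmap : Nat.card N = Nat.card (N.map (alternatingGroup (Fin n)).subtype) :=
    (Subgroup.card_map_of_injective (Subgroup.subtype_injective _)).symm
  have hnil : Group.IsNilpotent (N.map (alternatingGroup (Fin n)).subtype) :=
    Group.nilpotent_of_mulEquiv (N.equivMapOfInjective _ (Subgroup.subtype_injective _))
  have hle : N.map (alternatingGroup (Fin n)).subtype ≤ altS (Fin n) := by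
    rintro _ ⟨y, -, rfl⟩
    rw [altS_eq]
    exact y.2
  rw [hmap]
  exact alt_nilpotent_card_le n (Fin n) (Nat.card_fin n) _ hle hnil

end Cfsg.Agent.Helper37
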