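import Mathlib
import Cfsg.Agent.Helper37.NilAlt

set_option autoImplicit false

namespace Cfsg.Agent.Helper37

open Nat

/-- two 2-subgroups of the alternating group of the largest possible order are conjugate
in the alternating group -/
theorem fullA_conj {Z : Type} [Finite Z] (h2 : 2 ≤ Nat.card Z) (B₁ B₂ : Subgroup (Equiv.Perm Z))
    (h1 : FullA B₁) (h2' : FullA B₂) :
    ∃ σ ∈ altS Z, B₂ = B₁.map (MulAut.conj σ).toMonoidHom := by
  haveI : Fact (Nat.Prime 2) := ⟨Nat.prime_two⟩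
  have hc := card_altS h2
  have hf : (Nat.card (altS Z)).factorization 2 + 1 = hh (Nat.card Z) := by
    have h3 := congrArg (fun m : ℕ => m.factorization 2) hc
    rw [Nat.factorization_mul Nat.card_pos.ne' (by norm_num)] at h3
    simp only [Finsupp.coe_add, Pi.add_apply, Nat.Prime.factorization_self Nat.prime_two] at h3
    rw [h3]
    unfold hh
    exact Nat.factorization_def _ Nat.prime_two
  have key : ∀ B : Subgroup (Equiv.Perm Z), FullA B →
      Nat.card (B.subgroupOf (altS Z)) = 2 ^ (Nat.card (altS Z)).factorization 2 := by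
    intro B hB
    rw [Nat.card_congr (Subgroup.subgroupOfEquivOfLe hB.2.1).toEquiv]
    have h4 := hB.2.2
    rw [← hf, pow_succ] at h4
    exact Nat.eq_of_mul_eq_mul_right (by norm_num) h4
  let S₁ : Sylow 2 (altS Z) := Sylow.ofCard (B₁.subgroupOf (altS Z)) (key B₁ h1)
  let S₂ : Sylow 2 (altS Z) := Sylow.ofCard (B₂.subgroupOf (altS Z)) (key B₂ h2')
  obtain ⟨τ, hτ⟩ := MulAction.exists_smul_eq (altS Z) S₁ S₂
  have h5 := map_conj_of_sylow_smul S₁ S₂ τ hτ
  refine ⟨τ.1, τ.2, ?_⟩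
  have h6 : (B₂.subgroupOf (altS Z)) =
      (B₁.subgroupOf (altS Z)).map (MulAut.conj τ).toMonoidHom := h5
  have h7 := congrArg (Subgroup.map (altS Z).subtype) h6
  rw [Subgroup.subgroupOf_map_subtype, inf_eq_left.mpr h2'.2.1, Subgroup.map_map] at h7
  rw [h7]
  have h8 : (altS Z).subtype.comp (MulAut.conj τ).toMonoidHom =
      (MulAut.conj τ.1).toMonoidHom.comp (altS Z).subtype := by
    ext x
    simp [MulAut.conj_apply]
  rw [h8, ← Subgroup.map_map, Subgroup.subgroupOf_map_subtype, inf_eq_left.mpr h1.2.1]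

theorem exists_even_conj {n : ℕ} (hn : 5 ≤ n) (c₁ c₂ : Equiv.Perm (Fin n))
    (h1 : c₁.IsThreeCycle) (h2 : c₂.IsThreeCycle) :
    ∃ g : Equiv.Perm (Fin n), Equiv.Perm.sign g = 1 ∧ g * c₁ * g⁻¹ = c₂ := by
  obtain ⟨g, hg⟩ : ∃ g, g * c₁ * g⁻¹ = c₂ := by
    have h3 : IsConj c₁ c₂ := by
      rw [Equiv.Perm.isConj_iff_cycleType_eq]
      exact h1.trans h2.symm
    exact isConj_iff.mp h3
  rcases Int.units_eq_one_or (Equiv.Perm.sign g) with hs | hs
  · exact ⟨g, hs, hg⟩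
  · have hZ := card_fixed_of_isThreeCycle c₂ h2
    have h2Z : 1 < Nat.card {y // c₂ y = y} := by omega
    haveI : Nontrivial {y // c₂ y = y} := Finite.one_lt_card_iff_nontrivial.mp h2Z
    obtain ⟨z₁, z₂, hz⟩ := exists_pair_ne {y // c₂ y = y}
    have hne : z₁.1 ≠ z₂.1 := fun h => hz (Subtype.ext h)
    have hd : Equiv.Perm.Disjoint (Equiv.swap z₁.1 z₂.1) c₂ := by
      intro x
      by_cases hx1 : x = z₁.1
      · right
        rw [hx1]
        exact z₁.2
      · by_cases hx2 : x = z₂.1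
        · right
          rw [hx2]
          exact z₂.2
        · left
          exact Equiv.swap_apply_of_ne_of_ne hx1 hx2
    refine ⟨Equiv.swap z₁.1 z₂.1 * g, ?_, ?_⟩
    · rw [map_mul, hs, Equiv.Perm.sign_swap hne]
      simp
    · have hcomm := hd.commute
      calc Equiv.swap z₁.1 z₂.1 * g * c₁ * (Equiv.swap z₁.1 z₂.1 * g)⁻¹
          = Equiv.swap z₁.1 z₂.1 * (g * c₁ * g⁻¹) * (Equiv.swap z₁.1 z₂.1)⁻¹ := by group
        _ = Equiv.swap z₁.1 z₂.1 * c₂ * (Equiv.swap z₁.1 z₂.1)⁻¹ := by rw [hg]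
        _ = c₂ := by rw [hcomm.eq]; group

/-- the conjugacy step for groups `A × ⟨c⟩` inside the alternating group -/
theorem conj_of_pairs_alt {n : ℕ} (hn : 5 ≤ n) (A₁ A₂ : Subgroup (Equiv.Perm (Fin n)))
    (c₁ c₂ : Equiv.Perm (Fin n)) (h1 : c₁.IsThreeCycle) (h2 : c₂.IsThreeCycle)
    (hA1 : IsPGroup 2 A₁) (hA2 : IsPGroup 2 A₂)
    (hA1' : A₁ ≤ alternatingGroup (Fin n)) (hA2' : A₂ ≤ alternatingGroup (Fin n))
    (hc1 : Nat.card A₁ * 2 = 2 ^ hh (n - 3)) (hc2 : Nat.card A₂ * 2 = 2 ^ hh (n - 3))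
    (hf1 : ∀ x ∈ A₁, ∀ y, c₁ y ≠ y → x y = y) (hf2 : ∀ x ∈ A₂, ∀ y, c₂ y ≠ y → x y = y) :
    ∃ g : Equiv.Perm (Fin n), g ∈ alternatingGroup (Fin n) ∧
      A₂ = A₁.map (MulAut.conj g).toMonoidHom ∧ g * c₁ * g⁻¹ = c₂ := by
  obtain ⟨g, hgs, hg⟩ := exists_even_conj hn c₁ c₂ h1 h2
  have hf1' : ∀ x ∈ A₁.map (MulAut.conj g).toMonoidHom, ∀ y, ¬ c₂ y = y → x y = y := by
    rintro _ ⟨x, hx, rfl⟩ y hy
    have h3 : c₁ (g⁻¹ y) ≠ g⁻¹ y := by
      intro h
      apply hy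
      rw [← hg]
      simp only [Equiv.Perm.mul_apply]
      rw [h]
      simp
    have h4 := hf1 x hx _ h3
    simp only [MulEquiv.coe_toMonoidHom, MulAut.conj_apply, Equiv.Perm.mul_apply]
    rw [h4]
    simp
  have hf2' : ∀ x ∈ A₂, ∀ y, ¬ c₂ y = y → x y = y := hf2
  have hZ := card_fixed_of_isThreeCycle c₂ h2
  have hmapA : A₁.map (MulAut.conj g).toMonoidHom ≤ altS (Fin n) := by
    rintro _ ⟨x, hx, rfl⟩
    rw [altS_eq, Equiv.Perm.mem_alternatingGroup]
    have h3 := hA1' hx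
    rw [Equiv.Perm.mem_alternatingGroup] at h3
    simp [MulAut.conj_apply, h3]
  have hB1 : FullA (fixSub (A₁.map (MulAut.conj g).toMonoidHom) (fun y => c₂ y = y)) := by
    refine ⟨fixSub_isPGroup (hA1.map _) _, fixSub_le_altS hmapA _, ?_⟩
    rw [card_fixSub_of_fixes _ _ hf1', Subgroup.card_map_of_injective (MulAut.conj g).injective,
      hc1, hZ]
  have hB2 : FullA (fixSub A₂ (fun y => c₂ y = y)) := by
    refine ⟨fixSub_isPGroup hA2 _, fixSub_le_altS (by rw [altS_eq]; exact hA2') _, ?_⟩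
    rw [card_fixSub_of_fixes _ _ hf2', hc2, hZ]
  obtain ⟨σ, hσA, hσ⟩ := fullA_conj (by rw [hZ]; omega) _ _ hB1 hB2
  refine ⟨extP (fun y => c₂ y = y) σ * g, ?_, ?_, ?_⟩
  · rw [Equiv.Perm.mem_alternatingGroup, map_mul, hgs, mul_one, ← sgnHom_eq_sign, sgnHom_extP]
    exact hσA
  · have h5 := congrArg (Subgroup.map (extP (fun y => c₂ y = y))) hσ
    rw [fixSub_map_extP _ _ hf2', map_extP_conj, fixSub_map_extP _ _ hf1',
      Subgroup.map_map] at h5
    rw [h5]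
    congr 1
  · have h6 := extP_commute c₂ σ
    calc extP (fun y => c₂ y = y) σ * g * c₁ * (extP (fun y => c₂ y = y) σ * g)⁻¹
        = extP (fun y => c₂ y = y) σ * (g * c₁ * g⁻¹) * (extP (fun y => c₂ y = y) σ)⁻¹ := by
          group
      _ = extP (fun y => c₂ y = y) σ * c₂ * (extP (fun y => c₂ y = y) σ)⁻¹ := by rw [hg]
      _ = c₂ := by rw [h6]; group

theorem conj_of_map_subtype {G : Type*} [Group G] (K : Subgroup G) (N₁ N₂ : Subgroup K) (g : G)
    (hg : g ∈ K)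
    (h : N₂.map K.subtype = (N₁.map K.subtype).map (MulAut.conj g).toMonoidHom) :
    N₂ = N₁.map (MulAut.conj (⟨g, hg⟩ : K)).toMonoidHom := by
  apply Subgroup.map_injective K.subtype_injective
  rw [h, Subgroup.map_map, Subgroup.map_map]
  congr 1

end Cfsg.Agent.Helper37
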