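import Mathlib
import Cfsg.Agent.Helper37.NilAlt2

set_option autoImplicit false

namespace Cfsg.Agent.Helper37

open Nat

/-- a Sylow 2-subgroup of a finite symmetric group is `Full2` -/
theorem full2_of_sylow {X : Type} [Finite X] (P : Sylow 2 (Equiv.Perm X)) :
    Full2 (P : Subgroup (Equiv.Perm X)) := by
  haveI : Fact (Nat.Prime 2) := ⟨Nat.prime_two⟩
  refine ⟨P.isPGroup', ?_⟩
  rw [Sylow.card_eq_multiplicity, Nat.card_perm]
  rfl

theorem exists_full2_ge {X : Type} [Finite X] (Q : Subgroup (Equiv.Perm X)) (hQ : IsPGroup 2 Q) :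
    ∃ P : Subgroup (Equiv.Perm X), Full2 P ∧ Q ≤ P := by
  haveI : Fact (Nat.Prime 2) := ⟨Nat.prime_two⟩
  obtain ⟨S, hS⟩ := hQ.exists_le_sylow
  exact ⟨S, full2_of_sylow S, hS⟩

theorem full2_fixSub {X : Type} [Finite X] {P : Subgroup (Equiv.Perm X)} (hP : Full2 P)
    (p : X → Prop) (hp : ∀ g ∈ P, ∀ x, p (g x) ↔ p x) : Full2 (fixSub P p) := by
  have hp' : ∀ g ∈ P, ∀ x, (¬ p (g x)) ↔ ¬ p x := fun g hg x => not_congr (hp g hg x)
  have h1 := (full2_decomp hP (fun x => ¬ p x) hp').2.1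
  have e : (fun x => ¬ ¬ p x) = p := funext (fun x => propext not_not)
  rw [e] at h1
  exact h1

theorem full2_swap_mem {X : Type} [Finite X] [DecidableEq X] {P : Subgroup (Equiv.Perm X)}
    (hP : Full2 P) (h2 : 2 ≤ Nat.card X) : ∃ a b : X, a ≠ b ∧ Equiv.swap a b ∈ P := by
  haveI : Fact (Nat.Prime 2) := ⟨Nat.prime_two⟩
  haveI : Nontrivial X := Finite.one_lt_card_iff_nontrivial.mp (by omega)
  obtain ⟨a, b, hab⟩ := exists_pair_ne X
  have hne : Equiv.swap a b ≠ 1 := by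
    intro h
    have h1 := congrArg (fun f : Equiv.Perm X => f a) h
    simp only [Equiv.swap_apply_left, Equiv.Perm.coe_one, id_eq] at h1
    exact hab h1.symm
  have hQ : IsPGroup 2 (Subgroup.zpowers (Equiv.swap a b)) := by
    apply IsPGroup.of_card (n := 1)
    rw [Nat.card_zpowers, pow_one]
    exact orderOf_eq_prime (by rw [pow_two, Equiv.swap_mul_self]) hne
  obtain ⟨S, hS, hQS⟩ := exists_full2_ge _ hQ
  obtain ⟨σ, hσ⟩ := full2_conj S P hS hP
  refine ⟨σ a, σ b, fun h => hab (σ.injective h), ?_⟩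
  rw [hσ, Equiv.swap_apply_apply]
  exact ⟨Equiv.swap a b, hQS (Subgroup.mem_zpowers _), rfl⟩

theorem swap_partner_unique {X : Type} [Finite X] [DecidableEq X] {P : Subgroup (Equiv.Perm X)}
    (hP : IsPGroup 2 P) {x y w : X} (hy : y ≠ x) (hw : w ≠ x) (h1 : Equiv.swap x y ∈ P)
    (h2 : Equiv.swap x w ∈ P) : y = w := by
  by_contra hyw
  haveI : Fintype X := Fintype.ofFinite X
  have h3 : (Equiv.swap x y * Equiv.swap x w).IsThreeCycle :=
    Equiv.Perm.isThreeCycle_swap_mul_swap_same (Ne.symm hy) (Ne.symm hw) hyw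
  obtain ⟨k, hk⟩ := hP ⟨_, P.mul_mem h1 h2⟩
  have h4 : orderOf (Equiv.swap x y * Equiv.swap x w) ∣ 2 ^ k :=
    orderOf_dvd_of_pow_eq_one (congrArg Subtype.val hk)
  rw [h3.orderOf] at h4
  have h5 := Nat.Prime.dvd_of_dvd_pow Nat.prime_three h4
  exact absurd h5 (by norm_num)

theorem extP_swap {X : Type} [DecidableEq X] (p : X → Prop) (a b : {x // p x}) :
    extP p (Equiv.swap a b) = Equiv.swap a.1 b.1 := by
  unfold extP
  letI := Classical.decPred p
  exact Equiv.Perm.ofSubtype_swap_eq a b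

theorem full2_swap_through {X : Type} [Finite X] [DecidableEq X] {P : Subgroup (Equiv.Perm X)}
    (hP : Full2 P) (x : X) (hx : ∃ σ ∈ P, σ x ≠ x) : ∃ y, y ≠ x ∧ Equiv.swap x y ∈ P := by
  have hp := orbPred_invariant P x
  have hF := full2_fixSub hP (fun z => ∃ σ ∈ P, σ x = z) hp
  obtain ⟨σ₀, hσ₀, hσ₀x⟩ := hx
  have h2 : 2 ≤ Nat.card {z // ∃ σ ∈ P, σ x = z} := by
    haveI : Nontrivial {z // ∃ σ ∈ P, σ x = z} :=
      ⟨⟨⟨x, 1, P.one_mem, rfl⟩, ⟨σ₀ x, σ₀, hσ₀, rfl⟩,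
        fun h => hσ₀x (congrArg Subtype.val h).symm⟩⟩
    exact Finite.one_lt_card_iff_nontrivial.mpr inferInstance
  obtain ⟨a, b, hab, hsw⟩ := full2_swap_mem hF h2
  rw [mem_fixSub, extP_swap] at hsw
  obtain ⟨σ, hσ, hσa⟩ := a.2
  refine ⟨σ⁻¹ b.1, ?_, ?_⟩
  · intro h
    apply hab
    apply Subtype.ext
    calc a.1 = σ x := hσa.symm
      _ = σ (σ⁻¹ b.1) := by rw [h]
      _ = b.1 := by simp
  · have h4 : Equiv.swap x (σ⁻¹ b.1) = σ⁻¹ * Equiv.swap a.1 b.1 * σ⁻¹⁻¹ := by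
      rw [← Equiv.swap_apply_apply, ← hσa]
      simp
    rw [h4]
    exact P.mul_mem (P.mul_mem (P.inv_mem hσ) hsw) (P.inv_mem (P.inv_mem hσ))

theorem full2_no_fixed {X : Type} [Finite X] {P : Subgroup (Equiv.Perm X)} (hP : Full2 P)
    (heven : Even (Nat.card X)) (hpos : 1 ≤ Nat.card X) (y : X) : ∃ σ ∈ P, σ y ≠ y := by
  by_contra hcon
  push Not at hcon
  have hA : ∀ x ∈ P, ∀ w, ¬ (w ≠ y) → x w = w := by
    intro x hx w hw
    have h1 : w = y := not_not.mp hw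
    rw [h1]
    exact hcon x hx
  have h1 := card_fixSub_of_fixes P (fun w => w ≠ y) hA
  obtain ⟨k, hk, hkle⟩ := two_group_card (fixSub_isPGroup hP.1 (fun w => w ≠ y))
  have h2 := card_subtype_add (fun w : X => w ≠ y)
  have h3 : Nat.card {w : X // ¬ w ≠ y} = 1 := by
    haveI : Unique {w : X // ¬ w ≠ y} :=
      ⟨⟨⟨y, by simp⟩⟩, fun w => Subtype.ext (not_not.mp w.2)⟩
    exact Nat.card_unique
  have h4 := hh_pred hpos
  have h5 : 1 ≤ padicValNat 2 (Nat.card X) :=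
    one_le_padicValNat_of_dvd (by omega) heven.two_dvd
  have h6 : Nat.card {w : X // w ≠ y} = Nat.card X - 1 := by omega
  rw [h6] at hkle
  rw [hk, hP.2] at h1
  have h7 := Nat.pow_right_injective (le_refl 2) h1
  omega

/-- the partner involution of a Sylow 2-subgroup of a symmetric group: every moved point `y`
lies in exactly one transposition `(y, π y)` of the group -/
theorem full2_partner {X : Type} [Finite X] [DecidableEq X] {P : Subgroup (Equiv.Perm X)}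
    (hP : Full2 P) :
    ∃ π : Equiv.Perm X, π * π = 1 ∧
      (∀ y, (∃ σ ∈ P, σ y ≠ y) → π y ≠ y ∧ Equiv.swap y (π y) ∈ P) ∧
      (∀ y, (¬ ∃ σ ∈ P, σ y ≠ y) → π y = y) ∧ ∀ p ∈ P, p * π = π * p := by
  classical
  let f : X → X := fun y =>
    if h : ∃ σ ∈ P, σ y ≠ y then Classical.choose (full2_swap_through hP y h) else y
  have hf1 : ∀ y (_ : ∃ σ ∈ P, σ y ≠ y), f y ≠ y ∧ Equiv.swap y (f y) ∈ P := by
    intro y h
    have h1 := Classical.choose_spec (full2_swap_through hP y h)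
    simp only [f, dif_pos h]
    exact h1
  have hf2 : ∀ y, (¬ ∃ σ ∈ P, σ y ≠ y) → f y = y := by
    intro y h
    simp only [f, dif_neg h]
  have hmoved : ∀ y w, w ≠ y → Equiv.swap y w ∈ P → ∃ σ ∈ P, σ y ≠ y := by
    intro y w hw hmem
    exact ⟨_, hmem, by rw [Equiv.swap_apply_left]; exact hw⟩
  have hinv : Function.Involutive f := by
    intro y
    by_cases h : ∃ σ ∈ P, σ y ≠ y
    · obtain ⟨h1, h2⟩ := hf1 y h
      have h2' : Equiv.swap (f y) y ∈ P := by rw [Equiv.swap_comm]; exact h2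
      have h3 : ∃ σ ∈ P, σ (f y) ≠ f y := hmoved (f y) y (Ne.symm h1) h2'
      obtain ⟨h4, h5⟩ := hf1 (f y) h3
      exact swap_partner_unique hP.1 h4 (Ne.symm h1) h5 h2'
    · rw [hf2 y h, hf2 y h]
  refine ⟨hinv.toPerm f, ?_, ?_, ?_, ?_⟩
  · apply Equiv.ext
    intro y
    exact hinv y
  · intro y h
    exact hf1 y h
  · intro y h
    exact hf2 y h
  · intro p hp
    apply Equiv.ext
    intro y
    show p (f y) = f (p y)
    by_cases h : ∃ σ ∈ P, σ y ≠ y
    · obtain ⟨h1, h2⟩ := hf1 y h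
      have h3 : Equiv.swap (p y) (p (f y)) ∈ P := by
        rw [Equiv.swap_apply_apply]
        exact P.mul_mem (P.mul_mem hp h2) (P.inv_mem hp)
      have h4 : p (f y) ≠ p y := fun h' => h1 (p.injective h')
      have h5 := hmoved (p y) (p (f y)) h4 h3
      obtain ⟨h6, h7⟩ := hf1 (p y) h5
      exact swap_partner_unique hP.1 h4 h6 h3 h7
    · have h1 : p y = y := by
        by_contra h'
        exact h ⟨p, hp, h'⟩
      rw [hf2 y h, h1, hf2 y h]

end Cfsg.Agent.Helper37
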