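import Mathlib
import Cfsg.Agent.Helper37.MaxSyl0

set_option autoImplicit false

namespace Cfsg.Agent.Helper37

open Nat

theorem two_group_fixed_point {X : Type} {P : Subgroup (Equiv.Perm X)}
    (hP : IsPGroup 2 P) (hodd : ¬ 2 ∣ Nat.card X) : ∃ z, ∀ σ ∈ P, σ z = z := by
  haveI : Fact (Nat.Prime 2) := ⟨Nat.prime_two⟩
  obtain ⟨z, hz⟩ := hP.nonempty_fixed_point_of_prime_not_dvd_card X hodd
  exact ⟨z, fun σ hσ => hz ⟨σ, hσ⟩⟩

theorem card_ne_point {X : Type} [Finite X] (z : X) :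
    Nat.card {w : X // w ≠ z} + 1 = Nat.card X := by
  have h2 := card_subtype_add (fun w : X => w ≠ z)
  have h3 : Nat.card {w : X // ¬ w ≠ z} = 1 := by
    haveI : Unique {w : X // ¬ w ≠ z} :=
      ⟨⟨⟨z, by simp⟩⟩, fun w => Subtype.ext (not_not.mp w.2)⟩
    exact Nat.card_unique
  omega

theorem ne_point_invariant {X : Type} {P : Subgroup (Equiv.Perm X)} (z : X)
    (hz : ∀ σ ∈ P, σ z = z) : ∀ g ∈ P, ∀ w, g w ≠ z ↔ w ≠ z := by
  intro g hg w
  constructor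
  · intro h hw
    apply h
    rw [hw]
    exact hz g hg
  · intro h hw
    apply h
    exact g.injective (hw.trans (hz g hg).symm)

/-- a Sylow 2-subgroup of the symmetric group on `2 ^ k + 1` points is transitive on the
complement of its fixed point -/
theorem full2_trans_off_fixed {X : Type} [Finite X] {P : Subgroup (Equiv.Perm X)} (hP : Full2 P)
    (k : ℕ) (hX : Nat.card X = 2 ^ k + 1) (z : X) (hz : ∀ σ ∈ P, σ z = z) (x y : X)
    (hx : x ≠ z) (hy : y ≠ z) : ∃ σ ∈ P, σ x = y := by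
  have hF := full2_fixSub hP (fun w => w ≠ z) (ne_point_invariant z hz)
  have hc : Nat.card {w : X // w ≠ z} = 2 ^ k := by
    have := card_ne_point z
    omega
  obtain ⟨τ, hτ, hτx⟩ := full2_transitive hF k hc ⟨x, hx⟩ ⟨y, hy⟩
  refine ⟨extP (fun w => w ≠ z) τ, hτ, ?_⟩
  rw [extP_apply_mem (fun w => w ≠ z) τ hx, hτx]

theorem two_trans_of_fixed {X : Type} (M : Subgroup (Equiv.Perm X)) (z : X)
    (hR : ∀ x y, x ≠ z → y ≠ z → ∃ σ ∈ M, σ z = z ∧ σ x = y) (hz : ∃ g ∈ M, g z ≠ z) :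
    MulAction.IsMultiplyPretransitive M X 2 := by
  obtain ⟨g₀, hg₀, hg₀z⟩ := hz
  have step1 : ∀ c, ∃ h ∈ M, h z = c := by
    intro c
    by_cases hc : c = z
    · exact ⟨1, M.one_mem, by rw [hc]; rfl⟩
    · obtain ⟨σ, hσ, -, hσw⟩ := hR (g₀ z) c hg₀z hc
      exact ⟨σ * g₀, M.mul_mem hσ hg₀, by rw [Equiv.Perm.mul_apply, hσw]⟩
  have step2 : ∀ c d, c ≠ d → ∃ h ∈ M, h z = c ∧ h (g₀ z) = d := by
    intro c d hcd
    obtain ⟨h₁, hh₁, hh₁z⟩ := step1 c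
    have hne : h₁⁻¹ d ≠ z := by
      intro h
      apply hcd
      rw [← hh₁z, ← h]
      simp
    obtain ⟨σ, hσ, hσz, hσw⟩ := hR (g₀ z) (h₁⁻¹ d) hg₀z hne
    refine ⟨h₁ * σ, M.mul_mem hh₁ hσ, ?_, ?_⟩
    · rw [Equiv.Perm.mul_apply, hσz, hh₁z]
    · rw [Equiv.Perm.mul_apply, hσw]
      simp
  rw [MulAction.is_two_pretransitive_iff]
  intro a b c d hab hcd
  obtain ⟨h₁, hh₁, h₁z, h₁w⟩ := step2 a b hab
  obtain ⟨h₂, hh₂, h₂z, h₂w⟩ := step2 c d hcd
  refine ⟨⟨h₂ * h₁⁻¹, M.mul_mem hh₂ (M.inv_mem hh₁)⟩, ?_, ?_⟩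
  · show (h₂ * h₁⁻¹) a = c
    rw [Equiv.Perm.mul_apply, ← h₁z]
    simp [h₂z]
  · show (h₂ * h₁⁻¹) b = d
    rw [Equiv.Perm.mul_apply, ← h₁w]
    simp [h₂w]

theorem sym_overgroup_eq_top {X : Type} [Finite X] [DecidableEq X] {P : Subgroup (Equiv.Perm X)}
    (hP : Full2 P) (k : ℕ) (hX : Nat.card X = 2 ^ k + 1) (z : X)
    (hz : ∀ σ ∈ P, σ z = z) (M : Subgroup (Equiv.Perm X)) (hPM : P ≤ M)
    (hM : ∃ g ∈ M, g z ≠ z) : M = ⊤ := by
  have h2 : MulAction.IsMultiplyPretransitive M X 2 := by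
    apply two_trans_of_fixed M z _ hM
    intro x y hx hy
    obtain ⟨σ, hσ, hσx⟩ := full2_trans_off_fixed hP k hX z hz x y hx hy
    exact ⟨σ, hPM hσ, hz σ hσ, hσx⟩
  have hprim := MulAction.isPreprimitive_of_is_two_pretransitive h2
  have h2X : 2 ≤ Nat.card X := by
    have := Nat.one_le_two_pow (n := k)
    omega
  obtain ⟨a, b, hab, hsw⟩ := full2_swap_mem hP h2X
  exact Equiv.Perm.subgroup_eq_top_of_isPreprimitive_of_isSwap_mem hprim (Equiv.swap a b)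
    ⟨a, b, hab, rfl⟩ (hPM hsw)

/-- for `n = 2 ^ k + 1`, a Sylow 2-subgroup of the symmetric group lies in exactly one
maximal subgroup -/
theorem sym_unique_coatom {α : Type} [Fintype α] [DecidableEq α] (k : ℕ) (hk : 1 ≤ k)
    (hα : Nat.card α = 2 ^ k + 1) (R : Sylow 2 (Equiv.Perm α)) :
    ∃! M : Subgroup (Equiv.Perm α), IsCoatom M ∧ (R : Subgroup (Equiv.Perm α)) ≤ M := by
  have hP := full2_of_sylow R
  have h2k : 2 ∣ 2 ^ k := dvd_pow_self 2 (by omega)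
  have hodd : ¬ 2 ∣ Nat.card α := by
    rw [hα]
    omega
  obtain ⟨z, hz⟩ := two_group_fixed_point hP.1 hodd
  haveI : Nontrivial α := Finite.one_lt_card_iff_nontrivial.mp (by
    have := Nat.one_le_two_pow (n := k)
    omega)
  have hco : IsCoatom (MulAction.stabilizer (Equiv.Perm α) z) :=
    MulAction.IsPreprimitive.isCoatom_stabilizer_of_isPreprimitive _ z
  refine ⟨MulAction.stabilizer (Equiv.Perm α) z, ⟨hco, ?_⟩, ?_⟩
  · intro σ hσ
    rw [MulAction.mem_stabilizer_iff]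
    exact hz σ hσ
  · rintro M ⟨hM, hRM⟩
    by_cases hmv : ∃ g ∈ M, g z ≠ z
    · exact absurd (sym_overgroup_eq_top hP k hα z hz M hRM hmv) hM.1
    · push Not at hmv
      have hle : M ≤ MulAction.stabilizer (Equiv.Perm α) z := fun g hg => by
        rw [MulAction.mem_stabilizer_iff]
        exact hmv g hg
      exact ((hM.le_iff_eq hco.1).mp hle).symm

end Cfsg.Agent.Helper37
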