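import Mathlib
import Cfsg.Agent.Helper37.MaxSyl1

set_option autoImplicit false

namespace Cfsg.Agent.Helper37

open Nat

theorem sgnHom_swap {X : Type} [Finite X] [DecidableEq X] {a b : X} (h : a ≠ b) :
    sgnHom X (Equiv.swap a b) = -1 := by
  haveI : Fintype X := Fintype.ofFinite X
  rw [sgnHom_eq_sign, Equiv.Perm.sign_swap h]

theorem exists_not_mem_list {X : Type} [Finite X] (l : List X) (h : l.length < Nat.card X) :
    ∃ c, c ∉ l := by
  classical
  by_contra hcon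
  push Not at hcon
  haveI : Fintype X := Fintype.ofFinite X
  have h1 : l.toFinset = Finset.univ := by
    ext c
    simp [hcon c]
  have h2 : Nat.card X ≤ l.length := by
    rw [Nat.card_eq_fintype_card, ← Finset.card_univ, ← h1]
    exact List.toFinset_card_le l
  omega

theorem swap_commute {X : Type} [DecidableEq X] {a b c d : X} (h1 : a ≠ c) (h2 : a ≠ d)
    (h3 : b ≠ c) (h4 : b ≠ d) : Commute (Equiv.swap a b) (Equiv.swap c d) := by
  apply Equiv.Perm.Disjoint.commute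
  intro x
  by_cases hxc : x = c
  · left
    rw [hxc]
    exact Equiv.swap_apply_of_ne_of_ne (Ne.symm h1) (Ne.symm h3)
  · by_cases hxd : x = d
    · left
      rw [hxd]
      exact Equiv.swap_apply_of_ne_of_ne (Ne.symm h2) (Ne.symm h4)
    · right
      exact Equiv.swap_apply_of_ne_of_ne hxc hxd

theorem fullA_eq_inf {X : Type} [Finite X] {R P : Subgroup (Equiv.Perm X)} (hR : FullA R)
    (hP : Full2 P) (hRP : R ≤ P) (h2 : 2 ≤ Nat.card X) : R = P ⊓ altS X := by
  apply Subgroup.eq_of_le_of_card_ge (le_inf hRP hR.2.1)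
  obtain ⟨j, hj, hjle⟩ := two_group_card_alt (hP.1.to_le inf_le_left) inf_le_right h2
  have h3 := hR.2.2
  have h4 : 2 ^ (j + 1) ≤ 2 ^ hh (Nat.card X) := Nat.pow_le_pow_right (by norm_num) hjle
  rw [pow_succ] at h4
  rw [hj]
  omega

/-- the structure of a Sylow 2-subgroup of the alternating group on `2 ^ k + 1` points -/
theorem fullA_struct {X : Type} [Finite X] [DecidableEq X] {R : Subgroup (Equiv.Perm X)}
    (hR : FullA R) (k : ℕ) (hk : 2 ≤ k) (hX : Nat.card X = 2 ^ k + 1) :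
    ∃ (z : X) (π : Equiv.Perm X), (∀ σ ∈ R, σ z = z) ∧ π z = z ∧ π * π = 1 ∧
      (∀ y, y ≠ z → π y ≠ y) ∧
      (∀ a b, a ≠ z → b ≠ z → Equiv.swap a (π a) * Equiv.swap b (π b) ∈ R) ∧
      (∀ x y, x ≠ z → y ≠ z → ∃ σ ∈ R, σ x = y) := by
  obtain ⟨P, hP, hRP⟩ := exists_full2_ge R hR.1
  have h4 : 4 ≤ 2 ^ k := by
    calc 4 = 2 ^ 2 := by norm_num
      _ ≤ 2 ^ k := Nat.pow_le_pow_right (by norm_num) hk
  have h2k : 2 ∣ 2 ^ k := dvd_pow_self 2 (by omega)
  have hodd : ¬ 2 ∣ Nat.card X := by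
    rw [hX]
    omega
  obtain ⟨z, hz⟩ := two_group_fixed_point hP.1 hodd
  have htr := full2_trans_off_fixed hP k hX z hz
  obtain ⟨π, hπ2, hπm, hπf, hπc⟩ := full2_partner hP
  have hRe := fullA_eq_inf hR hP hRP (by omega)
  have hmoved : ∀ y, y ≠ z → ∃ σ ∈ P, σ y ≠ y := by
    intro y hy
    obtain ⟨c, hc⟩ := exists_not_mem_list [z, y] (by simp only [List.length_cons, List.length_nil]; omega)
    simp only [List.mem_cons, List.not_mem_nil, or_false, not_or] at hc
    obtain ⟨σ, hσ, hσy⟩ := htr y c hy hc.1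
    exact ⟨σ, hσ, by rw [hσy]; exact hc.2⟩
  have hπz : π z = z := hπf z (by
    rintro ⟨σ, hσ, h⟩
    exact h (hz σ hσ))
  have hππ : ∀ y, π (π y) = y := fun y => by
    have := congrArg (fun f : Equiv.Perm X => f y) hπ2
    simpa using this
  have hsw : ∀ a, a ≠ z → Equiv.swap a (π a) ∈ P ∧ sgnHom X (Equiv.swap a (π a)) = -1 := by
    intro a ha
    obtain ⟨h1, h2⟩ := hπm a (hmoved a ha)
    exact ⟨h2, sgnHom_swap (Ne.symm h1)⟩
  refine ⟨z, π, fun σ hσ => hz σ (hRP hσ), hπz, hπ2, fun y hy => (hπm y (hmoved y hy)).1,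
    ?_, ?_⟩
  · intro a b ha hb
    rw [hRe]
    refine ⟨P.mul_mem (hsw a ha).1 (hsw b hb).1, ?_⟩
    show _ ∈ (sgnHom X).ker
    rw [MonoidHom.mem_ker, map_mul, (hsw a ha).2, (hsw b hb).2]
    norm_num
  · intro x y hx hy
    obtain ⟨σ, hσ, hσx⟩ := htr x y hx hy
    rcases Int.units_eq_one_or (sgnHom X σ) with hs | hs
    · exact ⟨σ, by rw [hRe]; exact ⟨hσ, MonoidHom.mem_ker.mpr hs⟩, hσx⟩
    · obtain ⟨c, hc⟩ := exists_not_mem_list [z, x, π x] (by simp only [List.length_cons, List.length_nil]; omega)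
      simp only [List.mem_cons, List.not_mem_nil, or_false, not_or] at hc
      obtain ⟨hcz, hcx, hcπ⟩ := hc
      have hπc : π c ≠ x := by
        intro h
        apply hcπ
        rw [← h, hππ]
      refine ⟨σ * Equiv.swap c (π c), ?_, ?_⟩
      · rw [hRe]
        refine ⟨P.mul_mem hσ (hsw c hcz).1, ?_⟩
        show _ ∈ (sgnHom X).ker
        rw [MonoidHom.mem_ker, map_mul, hs, (hsw c hcz).2]
        norm_num
      · rw [Equiv.Perm.mul_apply, Equiv.swap_apply_of_ne_of_ne (Ne.symm hcx) (Ne.symm hπc),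
          hσx]

theorem sq_of_commuting {G : Type*} [Group G] (A B C D : G) (hCA : Commute C A)
    (hCB : Commute C B) (hCD : Commute C D) (hDA : Commute D A) (hDB : Commute D B)
    (hC : C * C = 1) (hD : D * D = 1) :
    (A * C * (B * D)) * (A * C * (B * D)) = (A * B) * (A * B) := by
  have h1 : A * C * (B * D) = (A * B) * (C * D) := by
    calc A * C * (B * D) = A * (C * B) * D := by group
      _ = A * (B * C) * D := by rw [hCB.eq]
      _ = A * B * (C * D) := by group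
  have h2 : Commute (C * D) (A * B) := (hCA.mul_right hCB).mul_left (hDA.mul_right hDB)
  have h3 : (C * D) * (C * D) = 1 := by
    calc C * D * (C * D) = C * (D * C) * D := by group
      _ = C * (C * D) * D := by rw [hCD.eq]
      _ = (C * C) * (D * D) := by group
      _ = 1 := by rw [hC, hD, one_mul]
  rw [h1]
  calc A * B * (C * D) * (A * B * (C * D)) = A * B * ((C * D) * (A * B)) * (C * D) := by group
    _ = A * B * ((A * B) * (C * D)) * (C * D) := by rw [h2.eq]
    _ = (A * B) * (A * B) * ((C * D) * (C * D)) := by group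
    _ = (A * B) * (A * B) := by rw [h3, mul_one]

/-- a group containing the double transpositions of a Sylow 2-subgroup of the alternating
group on `2 ^ k + 1 ≥ 9` points and moving its fixed point contains a 3-cycle -/
theorem exists_three_cycle {X : Type} [Fintype X] [DecidableEq X] (h9 : 9 ≤ Nat.card X) (z : X)
    (π : Equiv.Perm X) (hπz : π z = z) (hπ2 : π * π = 1) (hπ : ∀ y, y ≠ z → π y ≠ y)
    (M : Subgroup (Equiv.Perm X))
    (hM : ∀ a b, a ≠ z → b ≠ z → Equiv.swap a (π a) * Equiv.swap b (π b) ∈ M)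
    (g : Equiv.Perm X) (hg : g ∈ M) (hgz : g z ≠ z) : ∃ c ∈ M, c.IsThreeCycle := by
  have hππ : ∀ y, π (π y) = y := fun y => by
    have := congrArg (fun f : Equiv.Perm X => f y) hπ2
    simpa using this
  have hπne : ∀ y, y ≠ z → π y ≠ z := by
    intro y hy h
    apply hy
    rw [← hππ y, h, hπz]
  obtain ⟨a, ha⟩ : ∃ a, a = g⁻¹ z := ⟨_, rfl⟩
  have hga : g a = z := by
    rw [ha]
    simp
  have haz : a ≠ z := by
    intro h
    apply hgz
    calc g z = g a := by rw [h]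
      _ = z := hga
  obtain ⟨x₁, hx₁⟩ : ∃ x₁, x₁ = g (π a) := ⟨_, rfl⟩
  have hx₁z : x₁ ≠ z := by
    intro h
    exact hπ a haz (g.injective ((hx₁.symm.trans h).trans hga.symm))
  obtain ⟨x₂, hx₂⟩ : ∃ x₂, x₂ = π x₁ := ⟨_, rfl⟩
  have hx₂x₁ : x₂ ≠ x₁ := by
    rw [hx₂]
    exact hπ x₁ hx₁z
  have hx₂z : x₂ ≠ z := by
    rw [hx₂]
    exact hπne x₁ hx₁z
  obtain ⟨b, hb⟩ := exists_not_mem_list [z, a, π a, g⁻¹ x₂, π (g⁻¹ x₂)] (by simp only [List.length_cons, List.length_nil]; omega)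
  simp only [List.mem_cons, List.not_mem_nil, or_false, not_or] at hb
  obtain ⟨hbz, hba, hbπa, hbg, hbπg⟩ := hb
  obtain ⟨p, hp⟩ : ∃ p, p = g b := ⟨_, rfl⟩
  obtain ⟨q, hq⟩ : ∃ q, q = g (π b) := ⟨_, rfl⟩
  have hpz : p ≠ z := fun h => hba (g.injective ((hp.symm.trans h).trans hga.symm))
  have hqz : q ≠ z := fun h => by
    have h1 : π b = a := g.injective ((hq.symm.trans h).trans hga.symm)
    apply hbπa
    rw [← h1, hππ]
  have hpx₁ : p ≠ x₁ := fun h => hbπa (g.injective ((hp.symm.trans h).trans hx₁))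
  have hqx₁ : q ≠ x₁ := fun h =>
    hba (π.injective (g.injective ((hq.symm.trans h).trans hx₁)))
  have hpx₂ : p ≠ x₂ := fun h => by
    apply hbg
    rw [← h, hp]
    simp
  have hqx₂ : q ≠ x₂ := fun h => by
    apply hbπg
    rw [← h, hq]
    simp [hππ]
  obtain ⟨c, hc⟩ := exists_not_mem_list [z, x₁, x₂, p, q, π p, π q] (by simp only [List.length_cons, List.length_nil]; omega)
  simp only [List.mem_cons, List.not_mem_nil, or_false, not_or] at hc
  obtain ⟨hcz, hcx₁, hcx₂, hcp, hcq, hcπp, hcπq⟩ := hc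
  have hc'x₁ : π c ≠ x₁ := fun h => by
    apply hcx₂
    rw [hx₂, ← h, hππ]
  have hc'x₂ : π c ≠ x₂ := fun h => hcx₁ (π.injective (h.trans hx₂))
  have hc'p : π c ≠ p := fun h => by
    apply hcπp
    rw [← h, hππ]
  have hc'q : π c ≠ q := fun h => by
    apply hcπq
    rw [← h, hππ]
  have hc'z : π c ≠ z := hπne c hcz
  have hu : Equiv.swap x₁ x₂ * Equiv.swap c (π c) ∈ M := by
    rw [hx₂]
    exact hM x₁ c hx₁z hcz
  have hu' : Equiv.swap x₁ z * Equiv.swap p q ∈ M := by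
    have h1 := M.mul_mem (M.mul_mem hg (hM a b haz hbz)) (M.inv_mem hg)
    have h2 : g * (Equiv.swap a (π a) * Equiv.swap b (π b)) * g⁻¹ =
        Equiv.swap x₁ z * Equiv.swap p q := by
      rw [Equiv.swap_comm x₁ z, hx₁, hp, hq, ← hga, Equiv.swap_apply_apply,
        Equiv.swap_apply_apply]
      group
    rw [h2] at h1
    exact h1
  have h3c : (Equiv.swap x₁ x₂ * Equiv.swap x₁ z).IsThreeCycle :=
    Equiv.Perm.isThreeCycle_swap_mul_swap_same (Ne.symm hx₂x₁) hx₁z hx₂z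
  have hCA : Commute (Equiv.swap c (π c)) (Equiv.swap x₁ x₂) :=
    swap_commute hcx₁ hcx₂ hc'x₁ hc'x₂
  have hCB : Commute (Equiv.swap c (π c)) (Equiv.swap x₁ z) :=
    swap_commute hcx₁ hcz hc'x₁ hc'z
  have hCD : Commute (Equiv.swap c (π c)) (Equiv.swap p q) := swap_commute hcp hcq hc'p hc'q
  have hDA : Commute (Equiv.swap p q) (Equiv.swap x₁ x₂) := swap_commute hpx₁ hpx₂ hqx₁ hqx₂
  have hDB : Commute (Equiv.swap p q) (Equiv.swap x₁ z) := swap_commute hpx₁ hpz hqx₁ hqz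
  refine ⟨_, M.mul_mem (M.mul_mem hu hu') (M.mul_mem hu hu'), ?_⟩
  rw [sq_of_commuting _ _ _ _ hCA hCB hCD hDA hDB (Equiv.swap_mul_self _ _)
    (Equiv.swap_mul_self _ _)]
  exact h3c.isThreeCycle_sq

end Cfsg.Agent.Helper37
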