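import Mathlib
import Cfsg.Agent.Helper37.MaxSyl2

set_option autoImplicit false

namespace Cfsg.Agent.Helper37

open Nat

theorem fullA_of_sylow {α : Type} [Fintype α] [DecidableEq α] (h2 : 2 ≤ Nat.card α)
    (R : Sylow 2 (alternatingGroup α)) :
    FullA ((R : Subgroup (alternatingGroup α)).map (alternatingGroup α).subtype) := by
  haveI : Fact (Nat.Prime 2) := ⟨Nat.prime_two⟩
  haveI : Nontrivial α := Finite.one_lt_card_iff_nontrivial.mp (by omega)
  have hcard : Nat.card (alternatingGroup α) * 2 = (Nat.card α).factorial := by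
    rw [mul_comm, two_mul_nat_card_alternatingGroup, Nat.card_perm]
  refine ⟨R.isPGroup'.map _, ?_, ?_⟩
  · rintro _ ⟨y, -, rfl⟩
    rw [altS_eq]
    exact y.2
  · rw [Subgroup.card_map_of_injective (Subgroup.subtype_injective _),
      Sylow.card_eq_multiplicity]
    have h1 : (Nat.card (alternatingGroup α)).factorization 2 + 1 = hh (Nat.card α) := by
      have h2 := congrArg (fun m : ℕ => m.factorization 2) hcard
      rw [Nat.factorization_mul Nat.card_pos.ne' (by norm_num)] at h2
      simp only [Finsupp.coe_add, Pi.add_apply,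
        Nat.Prime.factorization_self Nat.prime_two] at h2
      rw [h2]
      unfold hh
      exact Nat.factorization_def _ Nat.prime_two
    rw [← pow_succ, h1]

theorem no_index_three {α : Type} [Fintype α] [DecidableEq α] (h5 : Nat.card α = 5)
    (M : Subgroup (alternatingGroup α)) (hM : M ≠ ⊤) (h4 : 4 ∣ Nat.card M)
    (h5' : 5 ∣ Nat.card M) : False := by
  haveI : Nontrivial α := Finite.one_lt_card_iff_nontrivial.mp (by omega)
  have hcard : Nat.card (alternatingGroup α) = 60 := by
    have h1 := two_mul_nat_card_alternatingGroup (α := α)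
    rw [Nat.card_perm, h5] at h1
    have hf : (5 : ℕ).factorial = 120 := by decide
    omega
  have hdvd : Nat.card M ∣ 60 := hcard ▸ Subgroup.card_subgroup_dvd_card M
  have h20 : 20 ∣ Nat.card M :=
    Nat.Coprime.mul_dvd_of_dvd_of_dvd (by norm_num : Nat.Coprime 4 5) h4 h5'
  have hcases : Nat.card M = 20 ∨ Nat.card M = 60 := by
    have key : ∀ i ≤ 60, i ∣ 60 → 20 ∣ i → i = 20 ∨ i = 60 := by decide
    exact key _ (Nat.le_of_dvd (by norm_num) hdvd) hdvd h20
  rcases hcases with h | h
  · have hidx : M.index = 3 := by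
      have h1 := Subgroup.card_mul_index M
      rw [h, hcard] at h1
      omega
    haveI : IsSimpleGroup (alternatingGroup α) := alternatingGroup.isSimpleGroup (by omega)
    have hcore : M.normalCore = ⊥ := by
      rcases (M.normalCore_normal).eq_bot_or_eq_top with h1 | h1
      · exact h1
      · exfalso
        apply hM
        rw [eq_top_iff, ← h1]
        exact Subgroup.normalCore_le M
    have hinj : Function.Injective
        (MulAction.toPermHom (alternatingGroup α) (alternatingGroup α ⧸ M)) := by
      rw [← MonoidHom.ker_eq_bot_iff, ← Subgroup.normalCore_eq_ker]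
      exact hcore
    have hle := Nat.card_le_card_of_injective _ hinj
    have h3 : Nat.card (alternatingGroup α ⧸ M) = 3 := hidx
    rw [hcard, Nat.card_perm, h3] at hle
    norm_num [Nat.factorial] at hle
  · exact hM (Subgroup.eq_top_of_card_eq M (by rw [h, hcard]))

theorem alt_overgroup {α : Type} [Fintype α] [DecidableEq α] {R : Subgroup (Equiv.Perm α)}
    (k : ℕ) (hk : 3 ≤ k) (hα : Nat.card α = 2 ^ k + 1) (z : α) (π : Equiv.Perm α)
    (hRz : ∀ σ ∈ R, σ z = z) (hπz : π z = z) (hπ2 : π * π = 1) (hπ : ∀ y, y ≠ z → π y ≠ y)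
    (hsw : ∀ a b, a ≠ z → b ≠ z → Equiv.swap a (π a) * Equiv.swap b (π b) ∈ R)
    (htr : ∀ x y, x ≠ z → y ≠ z → ∃ σ ∈ R, σ x = y)
    (M : Subgroup (Equiv.Perm α)) (hRM : R ≤ M) (hM : ∃ g ∈ M, g z ≠ z) :
    alternatingGroup α ≤ M := by
  have h2 : MulAction.IsMultiplyPretransitive M α 2 := by
    apply two_trans_of_fixed M z _ hM
    intro x y hx hy
    obtain ⟨σ, hσ, hσx⟩ := htr x y hx hy
    exact ⟨σ, hRM hσ, hRz σ hσ, hσx⟩
  have hprim := MulAction.isPreprimitive_of_is_two_pretransitive h2
  obtain ⟨g, hg, hgz⟩ := hM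
  have h8 : 8 ≤ 2 ^ k := by
    calc 8 = 2 ^ 3 := by norm_num
      _ ≤ 2 ^ k := Nat.pow_le_pow_right (by norm_num) hk
  obtain ⟨c, hc, hc3⟩ := exists_three_cycle (by omega) z π hπz hπ2 hπ M
    (fun a b ha hb => hRM (hsw a b ha hb)) g hg hgz
  exact Equiv.Perm.alternatingGroup_le_of_isPreprimitive_of_isThreeCycle_mem hprim hc3 hc

/-- for `n = 2 ^ k + 1`, `k ≥ 2`, a Sylow 2-subgroup of the alternating group lies in exactly
one maximal subgroup -/
theorem alt_unique_coatom {α : Type} [Fintype α] [DecidableEq α] (k : ℕ) (hk : 2 ≤ k)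
    (hα : Nat.card α = 2 ^ k + 1) (R : Sylow 2 (alternatingGroup α)) :
    ∃! M : Subgroup (alternatingGroup α),
      IsCoatom M ∧ (R : Subgroup (alternatingGroup α)) ≤ M := by
  haveI : Fact (Nat.Prime 2) := ⟨Nat.prime_two⟩
  have h4 : 4 ≤ 2 ^ k := by
    calc 4 = 2 ^ 2 := by norm_num
      _ ≤ 2 ^ k := Nat.pow_le_pow_right (by norm_num) hk
  have hR := fullA_of_sylow (by omega) R
  obtain ⟨z, π, hRz, hπz, hπ2, hπ, hsw, htr⟩ := fullA_struct hR k hk hα
  haveI : Nontrivial α := Finite.one_lt_card_iff_nontrivial.mp (by omega)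
  haveI : MulAction.IsPreprimitive (alternatingGroup α) α :=
    alternatingGroup.isPreprimitive_of_three_le_card α (by omega)
  have hco : IsCoatom (MulAction.stabilizer (alternatingGroup α) z) :=
    MulAction.IsPreprimitive.isCoatom_stabilizer_of_isPreprimitive _ z
  have hmem : ∀ r : alternatingGroup α, r ∈ (R : Subgroup (alternatingGroup α)) →
      r.1 ∈ (R : Subgroup (alternatingGroup α)).map (alternatingGroup α).subtype :=
    fun r hr => ⟨r, hr, rfl⟩
  refine ⟨MulAction.stabilizer (alternatingGroup α) z, ⟨hco, ?_⟩, ?_⟩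
  · intro r hr
    rw [MulAction.mem_stabilizer_iff]
    exact hRz r.1 (hmem r hr)
  · rintro M ⟨hM, hRM⟩
    by_cases hmv : ∃ g ∈ M, (g : Equiv.Perm α) z ≠ z
    · exfalso
      have hRM' : (R : Subgroup (alternatingGroup α)).map (alternatingGroup α).subtype ≤
          M.map (alternatingGroup α).subtype := Subgroup.map_mono hRM
      have hmv' : ∃ g ∈ M.map (alternatingGroup α).subtype, g z ≠ z := by
        obtain ⟨g, hg, hgz⟩ := hmv
        exact ⟨g.1, ⟨g, hg, rfl⟩, hgz⟩
      by_cases hk3 : 3 ≤ k
      · have hle := alt_overgroup k hk3 hα z π hRz hπz hπ2 hπ hsw htr _ hRM' hmv'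
        apply hM.1
        rw [eq_top_iff]
        intro x _
        obtain ⟨y, hy, hyx⟩ := hle x.2
        have hyx' : y = x := Subtype.ext hyx
        rw [← hyx']
        exact hy
      · have hk2 : k = 2 := by omega
        subst hk2
        have h5 : Nat.card α = 5 := by
          rw [hα]
          norm_num
        have h4M : 4 ∣ Nat.card M := by
          have h1 : Nat.card (R : Subgroup (alternatingGroup α)) = 4 := by
            have h2 := hR.2.2
            rw [Subgroup.card_map_of_injective (Subgroup.subtype_injective _), h5,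
              hh_five] at h2
            omega
          rw [← h1]
          exact Subgroup.card_dvd_of_le hRM
        have h5M : 5 ∣ Nat.card M := by
          have h2 : MulAction.IsMultiplyPretransitive
              (M.map (alternatingGroup α).subtype) α 2 := by
            apply two_trans_of_fixed _ z _ hmv'
            intro x y hx hy
            obtain ⟨σ, hσ, hσx⟩ := htr x y hx hy
            exact ⟨σ, hRM' hσ, hRz σ hσ, hσx⟩
          haveI : MulAction.IsPretransitive (M.map (alternatingGroup α).subtype) α :=
            MulAction.isPretransitive_of_is_two_pretransitive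
          have h3 := MulAction.index_stabilizer_of_transitive
            (M.map (alternatingGroup α).subtype) z
          have h6 := Subgroup.index_dvd_card
            (MulAction.stabilizer (M.map (alternatingGroup α).subtype) z)
          rw [h3, h5, Subgroup.card_map_of_injective (Subgroup.subtype_injective _)] at h6
          exact h6
        exact no_index_three h5 M hM.1 h4M h5M
    · push Not at hmv
      have hle : M ≤ MulAction.stabilizer (alternatingGroup α) z := fun g hg => by
        rw [MulAction.mem_stabilizer_iff]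
        exact hmv g hg
      exact ((hM.le_iff_eq hco.1).mp hle).symm

end Cfsg.Agent.Helper37
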