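import Mathlib
import Cfsg.Agent.Helper37.MaxSyl3

set_option autoImplicit false

namespace Cfsg.Agent.Helper37

open Nat
open scoped Pointwise

/-- consequences of lying in a unique maximal subgroup -/
theorem le_of_unique_coatom {G : Type*} [Group G] [Finite G] (R : Subgroup G)
    (h : ∃! M : Subgroup G, IsCoatom M ∧ R ≤ M) :
    ∃ M₀ : Subgroup G, IsCoatom M₀ ∧ R ≤ M₀ ∧ ∀ H : Subgroup G, R ≤ H → H ≠ ⊤ → H ≤ M₀ := by
  obtain ⟨M₀, ⟨hM₀, hR⟩, huniq⟩ := h
  refine ⟨M₀, hM₀, hR, fun H hRH hH => ?_⟩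
  obtain ⟨M, hM, hHM⟩ := (eq_top_or_exists_le_coatom H).resolve_left hH
  have h1 := huniq M ⟨hM, hRH.trans hHM⟩
  rw [← h1]
  exact hHM

theorem orbit_ncard {X : Type} [Finite X] {P : Subgroup (Equiv.Perm X)} (hP : IsPGroup 2 P)
    (x : X) : ∃ j, Set.ncard {w | ∃ σ ∈ P, σ x = w} = 2 ^ j := by
  haveI : Fact (Nat.Prime 2) := ⟨Nat.prime_two⟩
  obtain ⟨j, hj⟩ := hP.card_orbit x
  refine ⟨j, ?_⟩
  rw [← hj, Nat.card_coe_set_eq]
  congr 1
  ext w
  constructor
  · rintro ⟨σ, hσ, rfl⟩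
    exact ⟨⟨σ, hσ⟩, rfl⟩
  · rintro ⟨σ, rfl⟩
    exact ⟨σ.1, σ.2, rfl⟩

theorem orbit_mem_stabilizer {X : Type} (P : Subgroup (Equiv.Perm X)) (x : X) :
    P ≤ MulAction.stabilizer (Equiv.Perm X) {w | ∃ σ ∈ P, σ x = w} := by
  intro g hg
  rw [MulAction.mem_stabilizer_set]
  intro b
  exact orbPred_invariant P x g hg b

theorem exists_mem_not_mem_list {α : Type} [Finite α] (B : Set α) (l : List α)
    (h : l.length < B.ncard) : ∃ w ∈ B, w ∉ l := by
  classical
  by_contra hcon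
  push Not at hcon
  have h1 : B ⊆ (l.toFinset : Set α) := fun w hw => by simpa using hcon w hw
  have h2 := Set.ncard_le_ncard h1 (Finset.finite_toSet _)
  rw [Set.ncard_coe_finset] at h2
  have h3 := List.toFinset_card_le l
  omega

/-- the odd case of the converse for symmetric groups -/
theorem sym_odd_case {α : Type} [Fintype α] [DecidableEq α] (h5 : 5 ≤ Nat.card α)
    (hodd : ¬ 2 ∣ Nat.card α) (R : Sylow 2 (Equiv.Perm α))
    (hun : ∃! M : Subgroup (Equiv.Perm α), IsCoatom M ∧ (R : Subgroup (Equiv.Perm α)) ≤ M) :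
    ∃ k : ℕ, 2 ≤ k ∧ Nat.card α = 2 ^ k + 1 := by
  have hP := full2_of_sylow R
  obtain ⟨z, hz⟩ := two_group_fixed_point hP.1 hodd
  obtain ⟨M₀, hM₀, hRM₀, hle⟩ := le_of_unique_coatom _ hun
  by_cases htr : ∀ x y, x ≠ z → y ≠ z → ∃ σ ∈ (R : Subgroup (Equiv.Perm α)), σ x = y
  · obtain ⟨x, hx⟩ := exists_not_mem_list [z]
      (by simp only [List.length_cons, List.length_nil]; omega)
    simp only [List.mem_cons, List.not_mem_nil, or_false] at hx
    obtain ⟨j, hj⟩ := orbit_ncard hP.1 x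
    have hB : {w | ∃ σ ∈ (R : Subgroup (Equiv.Perm α)), σ x = w} = {w | w ≠ z} := by
      ext w
      constructor
      · rintro ⟨σ, hσ, rfl⟩ h
        exact hx (σ.injective (h.trans (hz σ hσ).symm))
      · intro hw
        exact htr x w hx hw
    rw [hB] at hj
    have hc := card_ne_point z
    have hc2 : Set.ncard {w : α | w ≠ z} = Nat.card {w : α // w ≠ z} :=
      (Nat.card_coe_set_eq _).symm
    have hn : Nat.card α = 2 ^ j + 1 := by omega
    refine ⟨j, ?_, hn⟩
    by_contra hj2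
    have hj01 : j = 0 ∨ j = 1 := by omega
    rcases hj01 with rfl | rfl
    · norm_num at hn
      omega
    · norm_num at hn
      omega
  · exfalso
    push Not at htr
    obtain ⟨x, y, hx, hy, hxy⟩ := htr
    have hxB : x ∈ {w | ∃ σ ∈ (R : Subgroup (Equiv.Perm α)), σ x = w} :=
      ⟨1, Subgroup.one_mem _, rfl⟩
    have hyB : y ∉ {w | ∃ σ ∈ (R : Subgroup (Equiv.Perm α)), σ x = w} :=
      fun ⟨σ, hσ, h⟩ => hxy σ hσ h
    have hco : IsCoatom (MulAction.stabilizer (Equiv.Perm α)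
        {w | ∃ σ ∈ (R : Subgroup (Equiv.Perm α)), σ x = w}) := by
      apply Equiv.Perm.isCoatom_stabilizer ⟨x, hxB⟩ ⟨y, hyB⟩
      intro h
      exact hodd ⟨_, h⟩
    have h1 := hle _ (orbit_mem_stabilizer _ x) hco.1
    have h2 := (hco.le_iff_eq hM₀.1).mp h1
    have h3 : MulAction.stabilizer (Equiv.Perm α) z ≤ M₀ := by
      apply hle
      · intro σ hσ
        rw [MulAction.mem_stabilizer_iff]
        exact hz σ hσ
      · intro h
        have h4 : Equiv.swap z x ∈ MulAction.stabilizer (Equiv.Perm α) z := by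
          rw [h]
          trivial
        rw [MulAction.mem_stabilizer_iff, Equiv.Perm.smul_def, Equiv.swap_apply_left] at h4
        exact hx h4
    have h4 : Equiv.swap x y ∈ M₀ := by
      apply h3
      rw [MulAction.mem_stabilizer_iff]
      exact Equiv.swap_apply_of_ne_of_ne (Ne.symm hx) (Ne.symm hy)
    rw [h2, MulAction.mem_stabilizer_set] at h4
    have h5 := (h4 x).mpr hxB
    rw [Equiv.Perm.smul_def, Equiv.swap_apply_left] at h5
    exact hyB h5

theorem exists_cross_pair {α : Type} [Finite α] (h3 : 3 ≤ Nat.card α) (B : Set α)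
    (π : Equiv.Perm α) (x y : α) (hx : x ∈ B) (hy : y ∉ B) :
    ∃ x' y', x' ∈ B ∧ y' ∉ B ∧ y' ≠ π x' := by
  by_cases h : y = π x
  · obtain ⟨v, hv⟩ := exists_not_mem_list [x, y]
      (by simp only [List.length_cons, List.length_nil]; omega)
    simp only [List.mem_cons, List.not_mem_nil, or_false, not_or] at hv
    by_cases hvB : v ∈ B
    · refine ⟨v, y, hvB, hy, ?_⟩
      rw [h]
      intro h'
      exact hv.1 (π.injective h').symm
    · exact ⟨x, v, hx, hvB, by rw [← h]; exact hv.2⟩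
  · exact ⟨x, y, hx, hy, h⟩

theorem cross_element {α : Type} [DecidableEq α] (π : Equiv.Perm α) (hπ2 : π * π = 1)
    (hπ : ∀ y, π y ≠ y) (x y : α) (hxy : y ≠ π x) :
    ∃ g : Equiv.Perm α, g ∈ Subgroup.centralizer {π} ∧ g x = y ∧
      ∀ w, w ≠ x → w ≠ y → w ≠ π x → w ≠ π y → g w = w := by
  have hππ : ∀ y, π (π y) = y := fun y => by
    have := congrArg (fun f : Equiv.Perm α => f y) hπ2
    simpa using this
  have hπinv : π⁻¹ = π := inv_eq_of_mul_eq_one_left hπ2
  have hxπy : x ≠ π y := by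
    intro h
    apply hxy
    rw [h, hππ]
  have hc : Commute (Equiv.swap x y) (Equiv.swap (π x) (π y)) :=
    swap_commute (Ne.symm (hπ x)) hxπy hxy (Ne.symm (hπ y))
  have e1 : Equiv.swap (π x) (π y) = π * Equiv.swap x y * π := by
    rw [Equiv.swap_apply_apply, hπinv]
  have hπ' : ∀ t : Equiv.Perm α, π * (π * t) = t := fun t => by
    rw [← mul_assoc, hπ2, one_mul]
  refine ⟨Equiv.swap x y * Equiv.swap (π x) (π y), ?_, ?_, ?_⟩
  · rw [Subgroup.mem_centralizer_iff]
    intro h hh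
    rw [Set.mem_singleton_iff] at hh
    rw [hh]
    have hcomm := hc.eq
    rw [e1] at hcomm ⊢
    calc π * (Equiv.swap x y * (π * Equiv.swap x y * π))
        = π * ((π * Equiv.swap x y * π) * Equiv.swap x y) := by rw [hcomm]
      _ = Equiv.swap x y * (π * Equiv.swap x y) := by simp only [mul_assoc, hπ']
      _ = Equiv.swap x y * (π * Equiv.swap x y * π) * π := by
        simp only [mul_assoc, hπ2, mul_one]
  · rw [Equiv.Perm.mul_apply, Equiv.swap_apply_of_ne_of_ne (Ne.symm (hπ x)) hxπy,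
      Equiv.swap_apply_left]
  · intro w h1 h2 h3 h4
    rw [Equiv.Perm.mul_apply, Equiv.swap_apply_of_ne_of_ne h3 h4,
      Equiv.swap_apply_of_ne_of_ne h1 h2]

theorem centralizer_ne_top {α : Type} [Finite α] [DecidableEq α] (π : Equiv.Perm α)
    (hπ : ∀ y, π y ≠ y) (h3 : 3 ≤ Nat.card α) : Subgroup.centralizer {π} ≠ ⊤ := by
  intro h
  obtain ⟨u⟩ : Nonempty α := (Nat.card_pos_iff.mp (by omega)).1
  obtain ⟨w, hw⟩ := exists_not_mem_list [u, π u]
    (by simp only [List.length_cons, List.length_nil]; omega)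
  simp only [List.mem_cons, List.not_mem_nil, or_false, not_or] at hw
  have h1 : Equiv.swap (π u) w ∈ Subgroup.centralizer {π} := by
    rw [h]
    trivial
  rw [Subgroup.mem_centralizer_iff] at h1
  have h2 := h1 π rfl
  have h4 := congrArg (fun f : Equiv.Perm α => f u) h2
  simp only [Equiv.Perm.mul_apply] at h4
  rw [Equiv.swap_apply_of_ne_of_ne (Ne.symm (hπ u)) (Ne.symm hw.1), Equiv.swap_apply_left] at h4
  exact hw.2 h4.symm

/-- the even, non-2-power case of the converse for symmetric groups -/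
theorem sym_even_case {α : Type} [Fintype α] [DecidableEq α] (h5 : 5 ≤ Nat.card α)
    (heven : 2 ∣ Nat.card α) (hnp : ∀ j, Nat.card α ≠ 2 ^ j) (R : Sylow 2 (Equiv.Perm α))
    (hun : ∃! M : Subgroup (Equiv.Perm α), IsCoatom M ∧ (R : Subgroup (Equiv.Perm α)) ≤ M) :
    False := by
  have hP := full2_of_sylow R
  obtain ⟨M₀, hM₀, hRM₀, hle⟩ := le_of_unique_coatom _ hun
  obtain ⟨x⟩ : Nonempty α := (Nat.card_pos_iff.mp (by omega)).1
  have hxB : x ∈ {w | ∃ σ ∈ (R : Subgroup (Equiv.Perm α)), σ x = w} :=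
    ⟨1, Subgroup.one_mem _, rfl⟩
  obtain ⟨j, hj⟩ := orbit_ncard hP.1 x
  have hBne : ∃ y, y ∉ {w | ∃ σ ∈ (R : Subgroup (Equiv.Perm α)), σ x = w} := by
    by_contra hcon
    push Not at hcon
    have h1 : {w | ∃ σ ∈ (R : Subgroup (Equiv.Perm α)), σ x = w} = Set.univ :=
      Set.eq_univ_of_forall hcon
    rw [h1, Set.ncard_univ] at hj
    exact hnp j hj
  obtain ⟨y, hyB⟩ := hBne
  have hco : IsCoatom (MulAction.stabilizer (Equiv.Perm α)
      {w | ∃ σ ∈ (R : Subgroup (Equiv.Perm α)), σ x = w}) := by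
    apply Equiv.Perm.isCoatom_stabilizer ⟨x, hxB⟩ ⟨y, hyB⟩
    intro h
    rw [hj] at h
    exact hnp (j + 1) (by rw [h, pow_succ]; ring)
  have h1 := hle _ (orbit_mem_stabilizer _ x) hco.1
  have h2 := (hco.le_iff_eq hM₀.1).mp h1
  obtain ⟨π, hπ2, hπm, -, hπc⟩ := full2_partner hP
  have hπ : ∀ y, π y ≠ y := fun y =>
    (hπm y (full2_no_fixed hP (even_iff_two_dvd.mpr heven) (by omega) y)).1
  have hcent : Subgroup.centralizer {π} ≤ M₀ := by
    apply hle
    · intro p hp
      rw [Subgroup.mem_centralizer_iff]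
      intro h hh
      rw [Set.mem_singleton_iff] at hh
      rw [hh]
      exact (hπc p hp).symm
    · exact centralizer_ne_top π hπ (by omega)
  obtain ⟨x', y', hx', hy', hne⟩ := exists_cross_pair (by omega) _ π x y hxB hyB
  obtain ⟨g, hg, hgx, -⟩ := cross_element π hπ2 hπ x' y' hne
  have h3 := hcent hg
  rw [h2, MulAction.mem_stabilizer_set] at h3
  have h4 := (h3 x').mpr hx'
  rw [Equiv.Perm.smul_def, hgx] at h4
  exact hy' h4

end Cfsg.Agent.Helper37
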