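import Mathlib
import Cfsg.Agent.Helper37.MaxSyl4

set_option autoImplicit false

namespace Cfsg.Agent.Helper37

open Nat
open scoped Pointwise

/-- a transitive 2-group preserves a bipartition -/
theorem exists_bipartition {X : Type} [Finite X] (P : Subgroup (Equiv.Perm X))
    (hP : IsPGroup 2 P) (htr : ∀ x y : X, ∃ σ ∈ P, σ x = y) (h2 : 2 ≤ Nat.card X) :
    ∃ B : Set X, (∃ p ∈ P, ∀ y, p y ∈ B ↔ y ∉ B) ∧
      ∀ p ∈ P, (∀ y, p y ∈ B ↔ y ∈ B) ∨ (∀ y, p y ∈ B ↔ y ∉ B) := by
  haveI : Fact (Nat.Prime 2) := ⟨Nat.prime_two⟩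
  obtain ⟨x₀⟩ : Nonempty X := (Nat.card_pos_iff.mp (by omega)).1
  haveI : MulAction.IsPretransitive ↥P X := ⟨fun a b => by
    obtain ⟨σ, hσ, h⟩ := htr a b
    exact ⟨⟨σ, hσ⟩, h⟩⟩
  have hidx := MulAction.index_stabilizer_of_transitive ↥P x₀
  obtain ⟨N, hN⟩ := IsPGroup.iff_card.mp hP
  obtain ⟨s, hs⟩ := IsPGroup.iff_card.mp (hP.to_subgroup (MulAction.stabilizer ↥P x₀))
  have hmul := Subgroup.card_mul_index (MulAction.stabilizer ↥P x₀)
  rw [hidx, hs, hN] at hmul
  have hsN : s + 1 ≤ N := by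
    by_contra hcon
    have h1 : N ≤ s := by omega
    have h3 : 2 ^ N ≤ 2 ^ s := Nat.pow_le_pow_right (by norm_num) h1
    have h4 : 0 < 2 ^ s := by positivity
    nlinarith
  obtain ⟨K, hK, hSK⟩ := Sylow.exists_subgroup_card_pow_prime_le 2 (m := N - 1)
    (by rw [hN]; exact pow_dvd_pow 2 (by omega)) (MulAction.stabilizer ↥P x₀) hs (by omega)
  have hKidx : K.index = 2 := by
    have h1 := Subgroup.card_mul_index K
    rw [hK, hN] at h1
    have h3 : 2 ^ N = 2 ^ (N - 1) * 2 := by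
      rw [← pow_succ]
      congr 1
      omega
    rw [h3] at h1
    exact Nat.eq_of_mul_eq_mul_left (by positivity) h1
  let B : Set X := {y | ∃ κ : ↥P, κ ∈ K ∧ κ.1 x₀ = y}
  have key : ∀ q : ↥P, q.1 x₀ ∈ B ↔ q ∈ K := by
    intro q
    constructor
    · rintro ⟨κ, hκ, h⟩
      have h1 : κ⁻¹ * q ∈ MulAction.stabilizer ↥P x₀ := by
        rw [MulAction.mem_stabilizer_iff]
        show (κ⁻¹ * q).1 x₀ = x₀
        simp only [Subgroup.coe_mul, Subgroup.coe_inv, Equiv.Perm.mul_apply]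
        rw [← h]
        simp
      have h2 := K.mul_mem hκ (hSK h1)
      simpa using h2
    · intro hq
      exact ⟨q, hq, rfl⟩
  have main : ∀ p : ↥P, ∀ y, p.1 y ∈ B ↔ ((p ∈ K) ↔ y ∈ B) := by
    intro p y
    obtain ⟨σ, hσ, rfl⟩ := htr x₀ y
    have h1 := key (p * ⟨σ, hσ⟩)
    have h2 := key ⟨σ, hσ⟩
    rw [Subgroup.mul_mem_iff_of_index_two hKidx] at h1
    rw [h2]
    exact h1
  refine ⟨B, ?_, ?_⟩
  · obtain ⟨p, hp⟩ : ∃ p : ↥P, p ∉ K := by
      by_contra hcon
      push Not at hcon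
      have h1 : K = ⊤ := (Subgroup.eq_top_iff' K).mpr hcon
      rw [h1, Subgroup.index_top] at hKidx
      omega
    refine ⟨p.1, p.2, fun y => ?_⟩
    rw [main p y]
    simp [hp]
  · intro p hp
    by_cases hpK : (⟨p, hp⟩ : ↥P) ∈ K
    · left
      intro y
      rw [main ⟨p, hp⟩ y]
      simp [hpK]
    · right
      intro y
      rw [main ⟨p, hp⟩ y]
      simp [hpK]

/-- the stabilizer of the bipartition `{B, Bᶜ}` -/
def bipStab {α : Type} (B : Set α) : Subgroup (Equiv.Perm α) where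
  carrier := {g | ∀ x y, (g x ∈ B ↔ g y ∈ B) ↔ (x ∈ B ↔ y ∈ B)}
  mul_mem' := by
    intro a b ha hb x y
    exact (ha (b x) (b y)).trans (hb x y)
  one_mem' := by
    intro x y
    rfl
  inv_mem' := by
    intro a ha x y
    have h1 := ha (a⁻¹ x) (a⁻¹ y)
    have e : ∀ w, a (a⁻¹ w) = w := fun w => by simp
    rw [e x, e y] at h1
    exact h1.symm

theorem mem_bipStab {α : Type} (B : Set α) (g : Equiv.Perm α) :
    g ∈ bipStab B ↔ ∀ x y, (g x ∈ B ↔ g y ∈ B) ↔ (x ∈ B ↔ y ∈ B) := Iff.rfl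

theorem swap_mem_bipStab {α : Type} [DecidableEq α] (B : Set α) (a b : α)
    (h : a ∈ B ↔ b ∈ B) : Equiv.swap a b ∈ bipStab B := by
  have key : ∀ x, Equiv.swap a b x ∈ B ↔ x ∈ B := by
    intro x
    by_cases hxa : x = a
    · rw [hxa, Equiv.swap_apply_left]
      exact h.symm
    · by_cases hxb : x = b
      · rw [hxb, Equiv.swap_apply_right]
        exact h
      · rw [Equiv.swap_apply_of_ne_of_ne hxa hxb]
  rw [mem_bipStab]
  intro x y
  rw [key x, key y]

/-- the 2-power case of the converse for symmetric groups -/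
theorem sym_pow_case {α : Type} [Fintype α] [DecidableEq α] (k : ℕ) (hk : 3 ≤ k)
    (hα : Nat.card α = 2 ^ k) (R : Sylow 2 (Equiv.Perm α))
    (hun : ∃! M : Subgroup (Equiv.Perm α), IsCoatom M ∧ (R : Subgroup (Equiv.Perm α)) ≤ M) :
    False := by
  have hP := full2_of_sylow R
  have h8 : 8 ≤ 2 ^ k := by
    calc 8 = 2 ^ 3 := by norm_num
      _ ≤ 2 ^ k := Nat.pow_le_pow_right (by norm_num) hk
  obtain ⟨M₀, hM₀, hRM₀, hle⟩ := le_of_unique_coatom _ hun
  have htr := full2_transitive hP k hα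
  obtain ⟨B, ⟨p₀, hp₀, hp₀B⟩, hB⟩ := exists_bipartition _ hP.1 htr (by omega)
  have hBc : B.ncard = Bᶜ.ncard := by
    have h1 : B = p₀ '' Bᶜ := by
      ext w
      constructor
      · intro hw
        refine ⟨p₀⁻¹ w, ?_, by simp⟩
        have h2 := (hp₀B (p₀⁻¹ w)).mp (by simpa using hw)
        exact h2
      · rintro ⟨v, hv, rfl⟩
        exact (hp₀B v).mpr hv
    conv_lhs => rw [h1]
    exact Set.ncard_image_of_injective _ p₀.injective
  have hsum := Set.ncard_add_ncard_compl B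
  have hB4 : 4 ≤ B.ncard := by omega
  obtain ⟨π, hπ2, hπm, -, hπc⟩ := full2_partner hP
  have heven : Even (Nat.card α) := by
    rw [hα]
    exact Nat.even_pow.mpr ⟨even_two, by omega⟩
  have hπ : ∀ y, π y ≠ y := fun y => (hπm y (full2_no_fixed hP heven (by omega) y)).1
  have hcent : Subgroup.centralizer {π} ≤ M₀ := by
    apply hle
    · intro p hp
      rw [Subgroup.mem_centralizer_iff]
      intro h hh
      rw [Set.mem_singleton_iff] at hh
      rw [hh]
      exact (hπc p hp).symm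
    · exact centralizer_ne_top π hπ (by omega)
  obtain ⟨x₀, hx₀, -⟩ := exists_mem_not_mem_list B [] (by simp only [List.length_nil]; omega)
  obtain ⟨y₀, hy₀, -⟩ := exists_mem_not_mem_list Bᶜ [] (by simp only [List.length_nil]; omega)
  have hbip : bipStab B ≤ M₀ := by
    apply hle
    · intro p hp
      rw [mem_bipStab]
      intro x y
      rcases hB p hp with h | h
      · rw [h x, h y]
      · rw [h x, h y, not_iff_not]
    · intro h
      obtain ⟨a₂, ha₂, ha₂'⟩ := exists_mem_not_mem_list B [x₀]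
        (by simp only [List.length_cons, List.length_nil]; omega)
      simp only [List.mem_cons, List.not_mem_nil, or_false] at ha₂'
      have h1 : Equiv.swap a₂ y₀ ∈ bipStab B := by
        rw [h]
        trivial
      rw [mem_bipStab] at h1
      have h2 := (h1 x₀ a₂).mpr (iff_of_true hx₀ ha₂)
      rw [Equiv.swap_apply_left, Equiv.swap_apply_of_ne_of_ne (Ne.symm ha₂')
        (fun h' => hy₀ (by rw [← h']; exact hx₀))] at h2
      exact hy₀ (h2.mp hx₀)
  have hsame : ∀ a b, (a ∈ B ↔ b ∈ B) → Equiv.swap a b ∈ M₀ :=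
    fun a b h => hbip (swap_mem_bipStab B a b h)
  obtain ⟨x', y', hx', hy', hne⟩ := exists_cross_pair (by omega) B π x₀ y₀ hx₀ hy₀
  obtain ⟨g, hg, hgx, hgfix⟩ := cross_element π hπ2 hπ x' y' hne
  obtain ⟨w, hwB, hw⟩ := exists_mem_not_mem_list B [x', π x', π y']
    (by simp only [List.length_cons, List.length_nil]; omega)
  simp only [List.mem_cons, List.not_mem_nil, or_false, not_or] at hw
  have hwy : w ≠ y' := fun h => hy' (h ▸ hwB)
  have hgw : g w = w := hgfix w hw.1 hwy hw.2.1 hw.2.2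
  have hcross₀ : Equiv.swap y' w ∈ M₀ := by
    have h1 := M₀.mul_mem (M₀.mul_mem (hcent hg) (hsame x' w (iff_of_true hx' hwB)))
      (M₀.inv_mem (hcent hg))
    rw [← Equiv.swap_apply_apply, hgx, hgw] at h1
    exact h1
  have hcross : ∀ u v, u ∈ B → v ∉ B → Equiv.swap u v ∈ M₀ := by
    intro u v hu hv
    have hρ : Equiv.swap w u * Equiv.swap y' v ∈ M₀ :=
      M₀.mul_mem (hsame w u (iff_of_true hwB hu)) (hsame y' v (iff_of_false hy' hv))
    have h1 := M₀.mul_mem (M₀.mul_mem hρ hcross₀) (M₀.inv_mem hρ)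
    rw [← Equiv.swap_apply_apply] at h1
    have e1 : (Equiv.swap w u * Equiv.swap y' v) y' = v := by
      rw [Equiv.Perm.mul_apply, Equiv.swap_apply_left,
        Equiv.swap_apply_of_ne_of_ne (fun h' => hv (by rw [h']; exact hwB))
          (fun h' => hv (by rw [h']; exact hu))]
    have e2 : (Equiv.swap w u * Equiv.swap y' v) w = u := by
      rw [Equiv.Perm.mul_apply,
        Equiv.swap_apply_of_ne_of_ne hwy (fun h' => hv (by rw [← h']; exact hwB)),
        Equiv.swap_apply_left]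
    rw [e1, e2, Equiv.swap_comm] at h1
    exact h1
  apply hM₀.1
  rw [eq_top_iff, ← Equiv.Perm.closure_isSwap, Subgroup.closure_le]
  rintro σ ⟨a, b, hab, rfl⟩
  by_cases ha : a ∈ B <;> by_cases hb : b ∈ B
  · exact hsame a b (iff_of_true ha hb)
  · exact hcross a b ha hb
  · rw [Equiv.swap_comm]
    exact hcross b a hb ha
  · exact hsame a b (iff_of_false ha hb)

/-- the converse for symmetric groups -/
theorem sym_converse {α : Type} [Fintype α] [DecidableEq α] (h5 : 5 ≤ Nat.card α)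
    (R : Sylow 2 (Equiv.Perm α))
    (hun : ∃! M : Subgroup (Equiv.Perm α), IsCoatom M ∧ (R : Subgroup (Equiv.Perm α)) ≤ M) :
    ∃ k : ℕ, 2 ≤ k ∧ Nat.card α = 2 ^ k + 1 := by
  by_cases hodd : 2 ∣ Nat.card α
  · exfalso
    by_cases hp : ∃ j, Nat.card α = 2 ^ j
    · obtain ⟨j, hj⟩ := hp
      have hj3 : 3 ≤ j := by
        by_contra hcon
        have h1 : j ≤ 2 := by omega
        have h2 : 2 ^ j ≤ 2 ^ 2 := Nat.pow_le_pow_right (by norm_num) h1
        omega
      exact sym_pow_case j hj3 hj R hun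
    · push Not at hp
      exact sym_even_case h5 hodd hp R hun
  · exact sym_odd_case h5 hodd R hun

end Cfsg.Agent.Helper37
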