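import Mathlib
import Cfsg.Agent.Helper37.MaxSyl5

set_option autoImplicit false

namespace Cfsg.Agent.Helper37

open Nat

/-- at most two fixed points, and moved points with the same stabiliser lie in one cycle -/
def Us2Good {X : Type} (x : Equiv.Perm X) : Prop :=
  (∀ a b c, x a = a → x b = b → x c = c → a = b ∨ a = c ∨ b = c) ∧
  (∀ a b, x a ≠ a → (∀ i : ℤ, (x ^ i) a = a ↔ (x ^ i) b = b) → x.SameCycle a b)

theorem us2_closure_sq {G : Type*} [Group G] (U : Set G)
    (hcomm : ∀ u ∈ U, ∀ v ∈ U, u * v = v * u)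
    (hsq : ∀ u ∈ U, u * u = 1) : IsPGroup 2 (Subgroup.closure U) := by
  have h1 : Subgroup.closure U ≤ Subgroup.centralizer (Subgroup.closure U : Set G) := by
    have h2 : Subgroup.closure U ≤ Subgroup.centralizer U := by
      rw [Subgroup.closure_le]
      intro u hu
      rw [SetLike.mem_coe, Subgroup.mem_centralizer_iff]
      intro v hv
      exact hcomm v hv u hu
    exact (Subgroup.closure_le_centralizer_centralizer U).trans (Subgroup.centralizer_le h2)
  have h3 : ∀ g ∈ Subgroup.closure U, g * g = 1 := by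
    intro g hg
    induction hg using Subgroup.closure_induction with
    | mem u hu => exact hsq u hu
    | one => simp
    | mul a b ha hb iha ihb =>
      have h4 : b * a = a * b := by
        have := h1 ha
        rw [Subgroup.mem_centralizer_iff] at this
        exact this b hb
      calc a * b * (a * b) = a * (b * a) * b := by group
        _ = a * (a * b) * b := by rw [h4]
        _ = (a * a) * (b * b) := by group
        _ = 1 := by rw [iha, ihb, one_mul]
    | inv a ha iha =>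
      calc a⁻¹ * a⁻¹ = (a * a)⁻¹ := by group
        _ = 1 := by rw [iha, inv_one]
  intro g
  refine ⟨1, ?_⟩
  apply Subtype.ext
  have := h3 g.1 g.2
  simp [pow_two, this]

theorem us2_conj_closure {G : Type*} [Group G] (U : Set G) (x : G)
    (h : ∀ u ∈ U, x * u * x⁻¹ ∈ Subgroup.closure U) :
    ∀ g ∈ Subgroup.closure U, x * g * x⁻¹ ∈ Subgroup.closure U := by
  intro g hg
  induction hg using Subgroup.closure_induction with
  | mem u hu => exact h u hu
  | one => simp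
  | mul a b ha hb iha ihb =>
    have : x * (a * b) * x⁻¹ = (x * a * x⁻¹) * (x * b * x⁻¹) := by group
    rw [this]
    exact Subgroup.mul_mem _ iha ihb
  | inv a ha iha =>
    have : x * a⁻¹ * x⁻¹ = (x * a * x⁻¹)⁻¹ := by group
    rw [this]
    exact Subgroup.inv_mem _ iha

/-- if `x` lies in a unique Sylow 2-subgroup, that subgroup contains the transposition of
two points in different cycles with the same stabiliser in `⟨x⟩` -/
theorem us2_swap_mem {X : Type} [Finite X] [DecidableEq X] (x : Equiv.Perm X)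
    (hx : ∃ k : ℕ, orderOf x = 2 ^ k)
    (P : Sylow 2 (Equiv.Perm X)) (hP : ∀ Q : Sylow 2 (Equiv.Perm X), x ∈ Q → Q = P)
    (a b : X) (hab : ¬ x.SameCycle a b) (hst : ∀ i : ℤ, (x ^ i) a = a ↔ (x ^ i) b = b) :
    Equiv.swap a b ∈ P := by
  haveI : Fact (Nat.Prime 2) := ⟨Nat.prime_two⟩
  let U : Set (Equiv.Perm X) := {σ | ∃ i : ℤ, σ = Equiv.swap ((x ^ i) a) ((x ^ i) b)}
  have key : ∀ i j : ℤ, (x ^ i) a = (x ^ j) a ↔ (x ^ i) b = (x ^ j) b := by
    intro i j
    have e : ∀ c : X, (x ^ (-j + i)) c = c ↔ (x ^ i) c = (x ^ j) c := by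
      intro c
      rw [zpow_add, Equiv.Perm.mul_apply, zpow_neg, Equiv.Perm.inv_eq_iff_eq]
    rw [← e a, ← e b]
    exact hst _
  have hU2 : IsPGroup 2 (Subgroup.closure U) := by
    apply us2_closure_sq
    · rintro u ⟨i, rfl⟩ v ⟨j, rfl⟩
      by_cases h : (x ^ i) a = (x ^ j) a
      · rw [h, (key i j).mp h]
      · apply swap_commute h
        · intro h'
          apply hab
          refine ⟨-j + i, ?_⟩
          rw [zpow_add, Equiv.Perm.mul_apply, zpow_neg, Equiv.Perm.inv_eq_iff_eq]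
          exact h'
        · intro h'
          apply hab
          refine ⟨-i + j, ?_⟩
          rw [zpow_add, Equiv.Perm.mul_apply, zpow_neg, Equiv.Perm.inv_eq_iff_eq]
          exact h'.symm
        · intro h'
          exact h ((key i j).mpr h')
    · rintro u ⟨i, rfl⟩
      exact Equiv.swap_mul_self _ _
  have hc1 : ∀ g ∈ Subgroup.closure U, x * g * x⁻¹ ∈ Subgroup.closure U := by
    apply us2_conj_closure
    rintro u ⟨i, rfl⟩
    apply Subgroup.subset_closure
    refine ⟨1 + i, ?_⟩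
    rw [← Equiv.swap_apply_apply, zpow_one_add, Equiv.Perm.mul_apply, Equiv.Perm.mul_apply]
  have hc2 : ∀ g ∈ Subgroup.closure U, x⁻¹ * g * x⁻¹⁻¹ ∈ Subgroup.closure U := by
    apply us2_conj_closure
    rintro u ⟨i, rfl⟩
    apply Subgroup.subset_closure
    refine ⟨-1 + i, ?_⟩
    rw [← Equiv.swap_apply_apply, zpow_add, zpow_neg_one, Equiv.Perm.mul_apply,
      Equiv.Perm.mul_apply]
  have hnorm : x ∈ Subgroup.normalizer (Subgroup.closure U : Set (Equiv.Perm X)) := by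
    rw [Subgroup.mem_normalizer_iff]
    intro h
    constructor
    · exact hc1 h
    · intro hh'
      have := hc2 _ hh'
      have e : x⁻¹ * (x * h * x⁻¹) * x⁻¹⁻¹ = h := by group
      rw [e] at this
      exact this
  have hz : IsPGroup 2 (Subgroup.zpowers x) := by
    obtain ⟨k, hk⟩ := hx
    apply IsPGroup.of_card (n := k)
    rw [Nat.card_zpowers, hk]
  have hQ : IsPGroup 2 (Subgroup.closure U ⊔ Subgroup.zpowers x : Subgroup (Equiv.Perm X)) :=
    IsPGroup.to_sup_of_normal_left' hU2 hz (by rw [Subgroup.zpowers_le]; exact hnorm)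
  obtain ⟨Q, hQ'⟩ := hQ.exists_le_sylow
  have hxQ : x ∈ Q := hQ' (Subgroup.mem_sup_right (Subgroup.mem_zpowers x))
  rw [← hP Q hxQ]
  apply hQ'
  apply Subgroup.mem_sup_left
  apply Subgroup.subset_closure
  exact ⟨0, by simp⟩

/-- a permutation of 2-power order in a unique Sylow 2-subgroup is good -/
theorem us2_good_of_unique {X : Type} [Finite X] [DecidableEq X] (x : Equiv.Perm X)
    (hx : ∃ k : ℕ, orderOf x = 2 ^ k)
    (P : Sylow 2 (Equiv.Perm X)) (hP : ∀ Q : Sylow 2 (Equiv.Perm X), x ∈ Q → Q = P) :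
    Us2Good x := by
  constructor
  · intro a b c ha hb hc
    by_contra hcon
    push Not at hcon
    obtain ⟨hab, hac, hbc⟩ := hcon
    have hfix : ∀ u : X, x u = u → ∀ i : ℤ, (x ^ i) u = u := fun u hu i =>
      Equiv.Perm.zpow_apply_eq_self_of_apply_eq_self hu i
    have hns : ∀ u v : X, x u = u → u ≠ v → ¬ x.SameCycle u v := by
      rintro u v hu huv ⟨i, hi⟩
      rw [hfix u hu i] at hi
      exact huv hi
    have h1 := us2_swap_mem x hx P hP a b (hns a b ha hab)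
      (fun i => ⟨fun _ => hfix b hb i, fun _ => hfix a ha i⟩)
    have h2 := us2_swap_mem x hx P hP a c (hns a c ha hac)
      (fun i => ⟨fun _ => hfix c hc i, fun _ => hfix a ha i⟩)
    exact hbc (swap_partner_unique P.isPGroup' (Ne.symm hab) (Ne.symm hac) h1 h2)
  · intro a b ha hst
    by_contra hab
    have hb : x b ≠ b := by
      intro hb
      apply ha
      have := (hst 1).mpr (by simpa using hb)
      simpa using this
    have hcomm : ∀ (i : ℤ) (c : X), (x ^ i) (x c) = x ((x ^ i) c) := by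
      intro i c
      rw [← Equiv.Perm.mul_apply, ← Equiv.Perm.mul_apply, (Commute.zpow_self x i).eq]
    have h1 := us2_swap_mem x hx P hP a b hab hst
    have h2 := us2_swap_mem x hx P hP a (x b)
      (fun h => hab (Equiv.Perm.sameCycle_apply_right.mp h))
      (fun i => by
        rw [hst i, hcomm i b]
        exact ⟨fun h => by rw [h], fun h => x.injective h⟩)
    have hne : b ≠ a := fun h => hab (h ▸ Equiv.Perm.SameCycle.refl x a)
    have hne2 : x b ≠ a := fun h => hab ⟨-1, by rw [zpow_neg_one, Equiv.Perm.inv_eq_iff_eq]; exact h.symm⟩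
    exact hb (swap_partner_unique P.isPGroup' hne hne2 h1 h2).symm

theorem us2_good_restrict {X : Type} {x : Equiv.Perm X} (hx : Us2Good x) (p : X → Prop)
    (hp : ∀ y, p (x y) ↔ p y) : Us2Good (x.subtypePerm hp) := by
  have hz : ∀ (i : ℤ) (c : {y // p y}), ((x.subtypePerm hp ^ i) c).1 = (x ^ i) c.1 := by
    intro i c
    rw [Equiv.Perm.subtypePerm_zpow]
    rfl
  constructor
  · intro a b c ha hb hc
    have ha' : x a.1 = a.1 := congrArg Subtype.val ha
    have hb' : x b.1 = b.1 := congrArg Subtype.val hb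
    have hc' : x c.1 = c.1 := congrArg Subtype.val hc
    rcases hx.1 a.1 b.1 c.1 ha' hb' hc' with h | h | h
    · exact Or.inl (Subtype.ext h)
    · exact Or.inr (Or.inl (Subtype.ext h))
    · exact Or.inr (Or.inr (Subtype.ext h))
  · intro a b ha hst
    have h1 : x.SameCycle a.1 b.1 := by
      apply hx.2 a.1 b.1
      · intro h
        exact ha (Subtype.ext h)
      · intro i
        rw [← hz i a, ← hz i b]
        constructor
        · intro h
          exact congrArg Subtype.val ((hst i).mp (Subtype.ext h))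
        · intro h
          exact congrArg Subtype.val ((hst i).mpr (Subtype.ext h))
    obtain ⟨i, hi⟩ := h1
    exact ⟨i, Subtype.ext (by rw [hz i a]; exact hi)⟩

theorem us2_good_iff {X : Type} [Fintype X] [DecidableEq X] (x : Equiv.Perm X) :
    Us2Good x ↔ (Fintype.card X ≤ x.support.card + 2 ∧ x.cycleType.Nodup) := by
  have hstab : ∀ a : X, x a ≠ a → ∀ i : ℤ,
      (x ^ i) a = a ↔ (((x.cycleOf a).support.card : ℕ) : ℤ) ∣ i := by
    intro a ha i
    apply (Equiv.Perm.isCycleOn_support_cycleOf x a).zpow_apply_eq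
    rw [Equiv.Perm.mem_support_cycleOf_iff' ha]
  have hcc := Finset.card_compl x.support
  have hle : x.support.card ≤ Fintype.card X := Finset.card_le_univ _
  constructor
  · intro hx
    constructor
    · by_contra hcon
      have h3 : 2 < (x.supportᶜ).card := by omega
      obtain ⟨a, b, c, ha, hb, hc, hab, hac, hbc⟩ := Finset.two_lt_card_iff.mp h3
      rw [Finset.mem_compl, Equiv.Perm.notMem_support] at ha hb hc
      rcases hx.1 a b c ha hb hc with h | h | h
      · exact hab h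
      · exact hac h
      · exact hbc h
    · rw [Equiv.Perm.cycleType_def]
      apply Multiset.Nodup.map_on _ x.cycleFactorsFinset.nodup
      intro c hc c' hc' heq
      rw [Finset.mem_val] at hc hc'
      obtain ⟨a, ha⟩ := (Equiv.Perm.mem_cycleFactorsFinset_iff.mp hc).1.nonempty_support
      obtain ⟨b, hb⟩ := (Equiv.Perm.mem_cycleFactorsFinset_iff.mp hc').1.nonempty_support
      have e1 := Equiv.Perm.cycle_is_cycleOf ha hc
      have e2 := Equiv.Perm.cycle_is_cycleOf hb hc'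
      have ha' : x a ≠ a :=
        Equiv.Perm.mem_support.mp (Equiv.Perm.mem_cycleFactorsFinset_support_le hc ha)
      have hb' : x b ≠ b :=
        Equiv.Perm.mem_support.mp (Equiv.Perm.mem_cycleFactorsFinset_support_le hc' hb)
      have heq' : (x.cycleOf a).support.card = (x.cycleOf b).support.card := by
        rw [← e1, ← e2]
        exact heq
      have h1 : x.SameCycle a b := by
        apply hx.2 a b ha'
        intro i
        rw [hstab a ha' i, hstab b hb' i, heq']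
      rw [e1, e2]
      exact h1.cycleOf_eq
  · rintro ⟨hcard, hnd⟩
    constructor
    · intro a b c ha hb hc
      by_contra hcon
      push Not at hcon
      obtain ⟨hab, hac, hbc⟩ := hcon
      have h3 : 2 < (x.supportᶜ).card := by
        apply Finset.two_lt_card_iff.mpr
        refine ⟨a, b, c, ?_, ?_, ?_, hab, hac, hbc⟩ <;>
          rw [Finset.mem_compl, Equiv.Perm.notMem_support] <;> assumption
      omega
    · intro a b ha hst
      have hb : x b ≠ b := by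
        intro hb
        apply ha
        have := (hst 1).mpr (by simpa using hb)
        simpa using this
      have h1 : ((x.cycleOf a).support.card : ℤ) ∣ ((x.cycleOf b).support.card : ℤ) := by
        rw [← hstab a ha, hst, hstab b hb]
      have h2 : ((x.cycleOf b).support.card : ℤ) ∣ ((x.cycleOf a).support.card : ℤ) := by
        rw [← hstab b hb, ← hst, hstab a ha]
      have h3 : (x.cycleOf a).support.card = (x.cycleOf b).support.card :=
        Nat.dvd_antisymm (Int.natCast_dvd_natCast.mp h1) (Int.natCast_dvd_natCast.mp h2)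
      have hma : x.cycleOf a ∈ x.cycleFactorsFinset.val :=
        Finset.mem_val.mpr (Equiv.Perm.cycleOf_mem_cycleFactorsFinset_iff.mpr
          (Equiv.Perm.mem_support.mpr ha))
      have hmb : x.cycleOf b ∈ x.cycleFactorsFinset.val :=
        Finset.mem_val.mpr (Equiv.Perm.cycleOf_mem_cycleFactorsFinset_iff.mpr
          (Equiv.Perm.mem_support.mpr hb))
      rw [Equiv.Perm.cycleType_def] at hnd
      have h4 := Multiset.inj_on_of_nodup_map hnd _ hma _ hmb h3
      have h5 : b ∈ (x.cycleOf b).support := by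
        rw [Equiv.Perm.mem_support_cycleOf_iff' hb]
      rw [← h4, Equiv.Perm.mem_support_cycleOf_iff' ha] at h5
      exact h5

theorem us2_sum_Icc (b : ℕ) : ∑ j ∈ Finset.Icc 1 b, 2 ^ j + 2 = 2 ^ (b + 1) := by
  induction b with
  | zero => simp
  | succ b ih =>
    rw [Finset.sum_Icc_succ_top (by omega), add_right_comm, ih]
    ring

theorem us2_sum_le (T : Finset ℕ) (b : ℕ) (hT : ∀ l ∈ T, ∃ j, 1 ≤ j ∧ j ≤ b ∧ l = 2 ^ j) :
    ∑ l ∈ T, l + 2 ≤ 2 ^ (b + 1) := by
  have h1 : T ⊆ (Finset.Icc 1 b).image (fun j => 2 ^ j) := by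
    intro l hl
    obtain ⟨j, h1, h2, rfl⟩ := hT l hl
    exact Finset.mem_image.mpr ⟨j, Finset.mem_Icc.mpr ⟨h1, h2⟩, rfl⟩
  have h2 : ∑ l ∈ T, l ≤ ∑ l ∈ (Finset.Icc 1 b).image (fun j => 2 ^ j), l :=
    Finset.sum_le_sum_of_subset h1
  rw [Finset.sum_image (fun i _ j _ h => Nat.pow_right_injective (le_refl 2) h)] at h2
  have h3 := us2_sum_Icc b
  omega

theorem us2_support_bound {X : Type} [Fintype X] [DecidableEq X] (x : Equiv.Perm X)
    (k : ℕ) (hk : orderOf x = 2 ^ k) (hnd : x.cycleType.Nodup) (b : ℕ)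
    (hmax : ∀ l ∈ x.cycleType, l ≤ 2 ^ b) : x.support.card + 2 ≤ 2 ^ (b + 1) := by
  rw [← Equiv.Perm.sum_cycleType]
  have h1 : x.cycleType.sum = ∑ l ∈ x.cycleType.toFinset, l := by
    rw [Finset.sum_eq_multiset_sum, Multiset.toFinset_val, Multiset.Nodup.dedup hnd,
      Multiset.map_id']
  rw [h1]
  apply us2_sum_le
  intro l hl
  rw [Multiset.mem_toFinset] at hl
  have h2 : l ∣ 2 ^ k := hk ▸ Equiv.Perm.dvd_of_mem_cycleType hl
  obtain ⟨j, hj, rfl⟩ := (Nat.dvd_prime_pow Nat.prime_two).mp h2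
  have h3 := Equiv.Perm.two_le_of_mem_cycleType hl
  have h4 := hmax _ hl
  refine ⟨j, ?_, ?_, rfl⟩
  · by_contra hj0
    have : j = 0 := by omega
    subst this
    simp at h3
  · exact (Nat.pow_le_pow_iff_right (by norm_num)).mp h4

theorem us2_small {X : Type} [Finite X] (h : Nat.card X ≤ 2) {P : Subgroup (Equiv.Perm X)}
    (hP : Full2 P) : P = ⊤ := by
  apply Subgroup.eq_top_of_card_eq
  rw [hP.2, Nat.card_perm]
  have h0 := hh_zero
  have h1 := hh_one
  have h2 := hh_rec 2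
  norm_num [h1] at h2
  generalize Nat.card X = n at h ⊢
  interval_cases n
  · rw [h0]; rfl
  · rw [h1]; rfl
  · rw [h2]; rfl

theorem us2_decomp {X : Type} (p : X → Prop) (g : Equiv.Perm X) (h : ∀ y, p (g y) ↔ p y)
    (h' : ∀ y, ¬ p (g y) ↔ ¬ p y) :
    g = extP p (g.subtypePerm h) * extP (fun y => ¬ p y) (g.subtypePerm h') := by
  apply Equiv.ext
  intro y
  rw [Equiv.Perm.mul_apply]
  by_cases hy : p y
  · rw [extP_apply_not (fun y => ¬ p y) _ (not_not.mpr hy), extP_apply_mem p _ hy]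
    rfl
  · have h2 : ¬ p (g y) := (h' y).mpr hy
    rw [extP_apply_mem (fun y => ¬ p y) _ hy]
    have e : ((g.subtypePerm h' ⟨y, hy⟩ : {y // ¬ p y}) : X) = g y := rfl
    rw [e, extP_apply_not p _ h2]

theorem us2_split {X : Type} [Finite X] (M : Subgroup (Equiv.Perm X)) (hM : IsPGroup 2 M)
    (p : X → Prop) (hp : ∀ g ∈ M, ∀ y, p (g y) ↔ p y)
    (hcard : 2 ^ (hh (Nat.card {y // p y}) + hh (Nat.card {y // ¬ p y})) ≤ Nat.card M) :
    Full2 (fixSub M (fun y => ¬ p y)) ∧ Full2 (restrHom M p hp).range := by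
  have hr : IsPGroup 2 (restrHom M p hp).range :=
    IsPGroup.of_surjective hM (restrHom M p hp).rangeRestrict
      (restrHom M p hp).rangeRestrict_surjective
  have hf := fixSub_isPGroup hM (fun y => ¬ p y)
  obtain ⟨k1, hk1, hk1'⟩ := two_group_card hr
  obtain ⟨k2, hk2, hk2'⟩ := two_group_card hf
  have h1 := card_decomp M p hp
  rw [hk1, hk2, ← pow_add] at h1
  rw [h1] at hcard
  have h2 : hh (Nat.card {y // p y}) + hh (Nat.card {y // ¬ p y}) ≤ k1 + k2 :=
    (Nat.pow_le_pow_iff_right (by norm_num)).mp hcard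
  refine ⟨⟨hf, ?_⟩, ⟨hr, ?_⟩⟩
  · rw [hk2]
    congr 1
    omega
  · rw [hk1]
    congr 1
    omega

theorem us2_fixSub_le_range {X : Type} (M : Subgroup (Equiv.Perm X))
    (p : X → Prop) (hp : ∀ g ∈ M, ∀ y, p (g y) ↔ p y) :
    fixSub M p ≤ (restrHom M p hp).range := by
  intro σ hσ
  rw [mem_fixSub] at hσ
  refine ⟨⟨extP p σ, hσ⟩, ?_⟩
  apply Equiv.ext
  intro y
  apply Subtype.ext
  rw [restrHom_apply]
  exact extP_apply_mem p σ y.2

theorem us2_split_mem {X : Type} [Finite X] (M : Subgroup (Equiv.Perm X)) (hM : IsPGroup 2 M)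
    (p : X → Prop) (hp : ∀ g ∈ M, ∀ y, p (g y) ↔ p y)
    (hp' : ∀ g ∈ M, ∀ y, (¬ p (g y)) ↔ ¬ p y)
    (hcard : 2 ^ (hh (Nat.card {y // p y}) + hh (Nat.card {y // ¬ p y})) ≤ Nat.card M) :
    Full2 (fixSub M p) ∧ (∀ g (hg : g ∈ M), g.subtypePerm (hp g hg) ∈ fixSub M p) ∧
    Full2 (fixSub M (fun y => ¬ p y)) ∧
      (∀ g (hg : g ∈ M), g.subtypePerm (hp' g hg) ∈ fixSub M (fun y => ¬ p y)) := by
  have e : (fun y => ¬ ¬ p y) = p := funext (fun y => propext not_not)
  have hcard' : 2 ^ (hh (Nat.card {y // ¬ p y}) + hh (Nat.card {y // ¬ ¬ p y}))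
      ≤ Nat.card M := by
    have : Nat.card {y // ¬ ¬ p y} = Nat.card {y // p y} := by rw [e]
    rw [this, add_comm]
    exact hcard
  obtain ⟨A1, A2⟩ := us2_split M hM p hp hcard
  obtain ⟨B1, B2⟩ := us2_split M hM (fun y => ¬ p y) hp' hcard'
  rw [e] at B1
  have heq1 : fixSub M p = (restrHom M p hp).range := by
    apply Subgroup.eq_of_le_of_card_ge (us2_fixSub_le_range M p hp)
    rw [B1.2, A2.2]
  have heq2 : fixSub M (fun y => ¬ p y) = (restrHom M (fun y => ¬ p y) hp').range := by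
    apply Subgroup.eq_of_le_of_card_ge (us2_fixSub_le_range M _ hp')
    rw [A1.2, B2.2]
  refine ⟨B1, fun g hg => ?_, A1, fun g hg => ?_⟩
  · rw [heq1]
    exact ⟨⟨g, hg⟩, rfl⟩
  · rw [heq2]
    exact ⟨⟨g, hg⟩, rfl⟩

theorem us2_split_le {X : Type} [Finite X] (M M' : Subgroup (Equiv.Perm X)) (hM : IsPGroup 2 M)
    (p : X → Prop) (hp : ∀ g ∈ M, ∀ y, p (g y) ↔ p y)
    (hcard : 2 ^ (hh (Nat.card {y // p y}) + hh (Nat.card {y // ¬ p y})) ≤ Nat.card M)
    (h1 : fixSub M p ≤ fixSub M' p)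
    (h2 : fixSub M (fun y => ¬ p y) ≤ fixSub M' (fun y => ¬ p y)) : M ≤ M' := by
  have hp' : ∀ g ∈ M, ∀ y, (¬ p (g y)) ↔ ¬ p y := fun g hg y => not_congr (hp g hg y)
  obtain ⟨-, a2, -, a4⟩ := us2_split_mem M hM p hp hp' hcard
  intro g hg
  rw [us2_decomp p g (hp g hg) (hp' g hg)]
  exact M'.mul_mem (h1 (a2 g hg)) (h2 (a4 g hg))

theorem us2_orbit_case {X : Type} [Finite X] (P P' : Subgroup (Equiv.Perm X)) (hP : Full2 P)
    (hP' : Full2 P') (p : X → Prop) (hp : ∀ g ∈ P, ∀ y, p (g y) ↔ p y)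
    (hp' : ∀ g ∈ P', ∀ y, p (g y) ↔ p y) (x : Equiv.Perm X) (hx : x ∈ P) (hx' : x ∈ P')
    (hxp : ∀ y, p (x y) ↔ p y) (hxn : ∀ y, ¬ p (x y) ↔ ¬ p y)
    (ih1 : ∀ F F' : Subgroup (Equiv.Perm {y // p y}), Full2 F → Full2 F' →
      x.subtypePerm hxp ∈ F → x.subtypePerm hxp ∈ F' → F = F')
    (ih2 : ∀ F F' : Subgroup (Equiv.Perm {y // ¬ p y}), Full2 F → Full2 F' →
      x.subtypePerm hxn ∈ F → x.subtypePerm hxn ∈ F' → F = F') : P = P' := by
  have c1 : 2 ^ (hh (Nat.card {y // p y}) + hh (Nat.card {y // ¬ p y})) ≤ Nat.card P := by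
    rw [hP.2, (full2_decomp hP p hp).2.2]
  have c2 : 2 ^ (hh (Nat.card {y // p y}) + hh (Nat.card {y // ¬ p y})) ≤ Nat.card P' := by
    rw [hP'.2, (full2_decomp hP' p hp').2.2]
  have hn : ∀ g ∈ P, ∀ y, (¬ p (g y)) ↔ ¬ p y := fun g hg y => not_congr (hp g hg y)
  have hn' : ∀ g ∈ P', ∀ y, (¬ p (g y)) ↔ ¬ p y := fun g hg y => not_congr (hp' g hg y)
  obtain ⟨a1, a2, a3, a4⟩ := us2_split_mem P hP.1 p hp hn c1
  obtain ⟨b1, b2, b3, b4⟩ := us2_split_mem P' hP'.1 p hp' hn' c2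
  have e1 := ih1 _ _ a1 b1 (a2 x hx) (b2 x hx')
  have e2 := ih2 _ _ a3 b3 (a4 x hx) (b4 x hx')
  apply Subgroup.eq_of_le_of_card_ge (us2_split_le P P' hP.1 p hp c1 e1.le e2.le)
  rw [hP.2, hP'.2]

/-- the permutations preserving a predicate -/
def us2Stab {X : Type} (p : X → Prop) : Subgroup (Equiv.Perm X) where
  carrier := {g | ∀ y, p (g y) ↔ p y}
  mul_mem' := fun {a b} ha hb y => (ha (b y)).trans (hb y)
  one_mem' := fun y => Iff.rfl
  inv_mem' := by
    intro g hg y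
    have h := hg (g⁻¹ y)
    have e : g (g⁻¹ y) = y := by simp
    rw [e] at h
    exact h.symm

theorem us2_sw_inv {X : Type} (p : X → Prop) (s : Equiv.Perm X) (hs : ∀ y, p (s y) ↔ ¬ p y) :
    ∀ y, p (s⁻¹ y) ↔ ¬ p y := by
  intro y
  have h := hs (s⁻¹ y)
  have e : s (s⁻¹ y) = y := by simp
  rw [e] at h
  tauto

theorem us2_sw_sw {X : Type} (p : X → Prop) (s t : Equiv.Perm X) (hs : ∀ y, p (s y) ↔ ¬ p y)
    (ht : ∀ y, p (t y) ↔ ¬ p y) : ∀ y, p ((s * t) y) ↔ p y := by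
  intro y
  rw [Equiv.Perm.mul_apply, hs, ht, not_not]

theorem us2_sw_pr {X : Type} (p : X → Prop) (s t : Equiv.Perm X) (hs : ∀ y, p (s y) ↔ ¬ p y)
    (ht : ∀ y, p (t y) ↔ p y) : ∀ y, p ((s * t) y) ↔ ¬ p y := by
  intro y
  rw [Equiv.Perm.mul_apply, hs, ht]

theorem us2_bip_case {X : Type} [Finite X] (P P' : Subgroup (Equiv.Perm X)) (hP : Full2 P)
    (hP' : Full2 P') (p : X → Prop)
    (hd : ∀ g ∈ P, (∀ y, p (g y) ↔ p y) ∨ (∀ y, p (g y) ↔ ¬ p y))
    (hd' : ∀ g ∈ P', (∀ y, p (g y) ↔ p y) ∨ (∀ y, p (g y) ↔ ¬ p y))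
    (s : Equiv.Perm X) (hs : s ∈ P) (hsp : ∀ y, p (s y) ↔ ¬ p y)
    (s' : Equiv.Perm X) (hs' : s' ∈ P') (hsp' : ∀ y, p (s' y) ↔ ¬ p y)
    (x : Equiv.Perm X) (hx : x ∈ P) (hx' : x ∈ P')
    (hxp : ∀ y, p (x y) ↔ p y) (hxn : ∀ y, ¬ p (x y) ↔ ¬ p y)
    (ih1 : ∀ F F' : Subgroup (Equiv.Perm {y // p y}), Full2 F → Full2 F' →
      x.subtypePerm hxp ∈ F → x.subtypePerm hxp ∈ F' → F = F')
    (ih2 : ∀ F F' : Subgroup (Equiv.Perm {y // ¬ p y}), Full2 F → Full2 F' →
      x.subtypePerm hxn ∈ F → x.subtypePerm hxn ∈ F' → F = F') : P = P' := by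
  -- the two halves have the same size
  have hk1 : Nat.card {y // ¬ p y} ≤ Nat.card {y // p y} :=
    Nat.card_le_card_of_injective (fun y => (⟨s y.1, (hsp y.1).mpr y.2⟩ : {y // p y}))
      (fun a b h => Subtype.ext (s.injective (congrArg Subtype.val h)))
  have hk2 : Nat.card {y // p y} ≤ Nat.card {y // ¬ p y} :=
    Nat.card_le_card_of_injective
      (fun y => (⟨s y.1, fun h => ((hsp y.1).mp h) y.2⟩ : {y // ¬ p y}))
      (fun a b h => Subtype.ext (s.injective (congrArg Subtype.val h)))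
  have hk : Nat.card {y // ¬ p y} = Nat.card {y // p y} := le_antisymm hk1 hk2
  have hX := card_subtype_add p
  by_cases hk0 : Nat.card {y // p y} = 0
  · rw [us2_small (by omega) hP, us2_small (by omega) hP']
  have hrec := hh_rec (Nat.card X)
  have hlt := hh_lt hk0
  have hXk : Nat.card X / 2 = Nat.card {y // p y} := by omega
  rw [hXk] at hrec
  -- counting the stabiliser of the halves
  have hcount : ∀ (Q : Subgroup (Equiv.Perm X)), Full2 Q →
      (∀ g ∈ Q, (∀ y, p (g y) ↔ p y) ∨ (∀ y, p (g y) ↔ ¬ p y)) →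
      ∀ t ∈ Q, (∀ y, p (t y) ↔ ¬ p y) →
      2 ^ (hh (Nat.card {y // p y}) + hh (Nat.card {y // ¬ p y}))
        ≤ Nat.card ↥(Q ⊓ us2Stab p) := by
    intro Q hQ hdQ t ht htp
    have hsub : (Q : Set (Equiv.Perm X)) ⊆
        ((Q ⊓ us2Stab p : Subgroup (Equiv.Perm X)) : Set (Equiv.Perm X)) ∪
          (fun g => t * g) '' ((Q ⊓ us2Stab p : Subgroup (Equiv.Perm X)) : Set (Equiv.Perm X)) := by
      intro g hg
      rcases hdQ g hg with h | h
      · left
        exact ⟨hg, h⟩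
      · right
        refine ⟨t⁻¹ * g, ⟨Q.mul_mem (Q.inv_mem ht) hg,
          us2_sw_sw p t⁻¹ g (us2_sw_inv p t htp) h⟩, ?_⟩
        simp
    have h1 := Set.ncard_le_ncard hsub (Set.toFinite _)
    have h2 := Set.ncard_union_le ((Q ⊓ us2Stab p : Subgroup (Equiv.Perm X)) : Set (Equiv.Perm X))
      ((fun g => t * g) '' ((Q ⊓ us2Stab p : Subgroup (Equiv.Perm X)) : Set (Equiv.Perm X)))
    have h3 := Set.ncard_image_le (f := fun g => t * g)
      (Set.toFinite ((Q ⊓ us2Stab p : Subgroup (Equiv.Perm X)) : Set (Equiv.Perm X)))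
    have e1 : Nat.card Q = (Q : Set (Equiv.Perm X)).ncard := rfl
    have e2 : Nat.card ↥(Q ⊓ us2Stab p) =
      ((Q ⊓ us2Stab p : Subgroup (Equiv.Perm X)) : Set (Equiv.Perm X)).ncard := rfl
    have h4 : 2 ^ hh (Nat.card X) ≤ 2 * Nat.card ↥(Q ⊓ us2Stab p) := by
      rw [← hQ.2]
      omega
    rw [hk]
    have h5 : hh (Nat.card X) = (hh (Nat.card {y // p y}) + hh (Nat.card {y // p y})) +
        (Nat.card {y // p y} - hh (Nat.card {y // p y}) - 1) + 1 := by omega
    rw [h5, pow_succ, pow_add] at h4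
    have h6 : 1 ≤ 2 ^ (Nat.card {y // p y} - hh (Nat.card {y // p y}) - 1) := Nat.one_le_two_pow
    nlinarith
  have c1 := hcount P hP hd s hs hsp
  have c2 := hcount P' hP' hd' s' hs' hsp'
  have hM : IsPGroup 2 ↥(P ⊓ us2Stab p) := hP.1.to_le inf_le_left
  have hM' : IsPGroup 2 ↥(P' ⊓ us2Stab p) := hP'.1.to_le inf_le_left
  have hp : ∀ g ∈ P ⊓ us2Stab p, ∀ y, p (g y) ↔ p y := fun g hg => hg.2
  have hp' : ∀ g ∈ P' ⊓ us2Stab p, ∀ y, p (g y) ↔ p y := fun g hg => hg.2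
  have hn : ∀ g ∈ P ⊓ us2Stab p, ∀ y, (¬ p (g y)) ↔ ¬ p y :=
    fun g hg y => not_congr (hp g hg y)
  have hn' : ∀ g ∈ P' ⊓ us2Stab p, ∀ y, (¬ p (g y)) ↔ ¬ p y :=
    fun g hg y => not_congr (hp' g hg y)
  obtain ⟨a1, a2, a3, a4⟩ := us2_split_mem _ hM p hp hn c1
  obtain ⟨b1, b2, b3, b4⟩ := us2_split_mem _ hM' p hp' hn' c2
  have e1 := ih1 _ _ a1 b1 (a2 x ⟨hx, hxp⟩) (b2 x ⟨hx', hxp⟩)
  have e2 := ih2 _ _ a3 b3 (a4 x ⟨hx, hxp⟩) (b4 x ⟨hx', hxp⟩)
  have hMM : P ⊓ us2Stab p = P' ⊓ us2Stab p :=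
    le_antisymm (us2_split_le _ _ hM p hp c1 e1.le e2.le)
      (us2_split_le _ _ hM' p hp' c2 e1.ge e2.ge)
  have hgp : ∀ y, p ((s⁻¹ * s') y) ↔ p y := us2_sw_sw p s⁻¹ s' (us2_sw_inv p s hsp) hsp'
  have hgn : ∀ y, ¬ p ((s⁻¹ * s') y) ↔ ¬ p y := fun y => not_congr (hgp y)
  have hgnorm : ∀ h ∈ P ⊓ us2Stab p, (s⁻¹ * s') * h * (s⁻¹ * s')⁻¹ ∈ P ⊓ us2Stab p := by
    intro h hh'
    have hh2 : h ∈ P' ⊓ us2Stab p := hMM.le hh'
    have h1 : s' * h * s'⁻¹ ∈ P' ⊓ us2Stab p :=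
      ⟨P'.mul_mem (P'.mul_mem hs' hh2.1) (P'.inv_mem hs'),
        us2_sw_sw p (s' * h) s'⁻¹ (us2_sw_pr p s' h hsp' hh2.2) (us2_sw_inv p s' hsp')⟩
    have h1' : s' * h * s'⁻¹ ∈ P ⊓ us2Stab p := hMM.ge h1
    have h2 : s⁻¹ * (s' * h * s'⁻¹) * s ∈ P ⊓ us2Stab p :=
      ⟨P.mul_mem (P.mul_mem (P.inv_mem hs) h1'.1) hs,
        us2_sw_sw p (s⁻¹ * (s' * h * s'⁻¹)) s
          (us2_sw_pr p s⁻¹ _ (us2_sw_inv p s hsp) h1'.2) hsp⟩
    have e : (s⁻¹ * s') * h * (s⁻¹ * s')⁻¹ = s⁻¹ * (s' * h * s'⁻¹) * s := by group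
    rw [e]
    exact h2
  have m1 : (s⁻¹ * s').subtypePerm hgp ∈ fixSub (P ⊓ us2Stab p) p :=
    full_norm _ {y // p y} rfl _ a1 _ (nz_fixSub _ p (s⁻¹ * s') hgp hgnorm)
  have m2 : (s⁻¹ * s').subtypePerm hgn ∈ fixSub (P ⊓ us2Stab p) (fun y => ¬ p y) :=
    full_norm _ {y // ¬ p y} rfl _ a3 _ (nz_fixSub _ (fun y => ¬ p y) (s⁻¹ * s') hgn hgnorm)
  have hgM : s⁻¹ * s' ∈ P ⊓ us2Stab p := by
    rw [us2_decomp p (s⁻¹ * s') hgp hgn]
    exact Subgroup.mul_mem _ m1 m2
  have hs'P : s' ∈ P := by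
    have : s' = s * (s⁻¹ * s') := by group
    rw [this]
    exact P.mul_mem hs hgM.1
  have hle : P' ≤ P := by
    intro h hh'
    rcases hd' h hh' with c | c
    · exact (hMM.ge ⟨hh', c⟩).1
    · have h1 : s'⁻¹ * h ∈ P' ⊓ us2Stab p :=
        ⟨P'.mul_mem (P'.inv_mem hs') hh', us2_sw_sw p s'⁻¹ h (us2_sw_inv p s' hsp') c⟩
      have h3 := (hMM.ge h1).1
      have : h = s' * (s'⁻¹ * h) := by group
      rw [this]
      exact P.mul_mem hs'P h3
  exact (Subgroup.eq_of_le_of_card_ge hle (by rw [hP.2, hP'.2])).symm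

end Cfsg.Agent.Helper37
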