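import Mathlib
import Cfsg.Agent.Helper37.UniqSyl

set_option autoImplicit false

namespace Cfsg.Agent.Helper37

open Nat

theorem us2_parity {X : Type} (p : X → Prop) (x : Equiv.Perm X) (hx : ∀ y, p (x y) ↔ ¬ p y)
    (a : X) : ∀ i : ℕ, p ((x ^ i) a) ↔ (Even i ↔ p a) := by
  intro i
  induction i with
  | zero => simp
  | succ i ih =>
    rw [_root_.pow_succ', Equiv.Perm.mul_apply, hx, ih, Nat.even_add_one]
    tauto

/-- a bipartition preserved by a permutation group, the two halves being swapped -/
def Us2Bip {X : Type} (P : Subgroup (Equiv.Perm X)) (p : X → Prop) : Prop :=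
  (∃ s ∈ P, ∀ y, p (s y) ↔ ¬ p y) ∧
    ∀ g ∈ P, (∀ y, p (g y) ↔ p y) ∨ (∀ y, p (g y) ↔ ¬ p y)

theorem us2_bip_not {X : Type} {P : Subgroup (Equiv.Perm X)} {p : X → Prop} (h : Us2Bip P p) :
    Us2Bip P (fun y => ¬ p y) := by
  obtain ⟨⟨s, hs, hsp⟩, hd⟩ := h
  refine ⟨⟨s, hs, fun y => not_congr (hsp y)⟩, fun g hg => ?_⟩
  rcases hd g hg with h | h
  · exact Or.inl (fun y => not_congr (h y))
  · exact Or.inr (fun y => not_congr (h y))

theorem us2_bip_congr {X : Type} {P : Subgroup (Equiv.Perm X)} {p q : X → Prop}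
    (h : Us2Bip P p) (hpq : ∀ y, p y ↔ q y) : Us2Bip P q := by
  have : p = q := funext (fun y => propext (hpq y))
  rw [← this]
  exact h

theorem us2_exists_bip {X : Type} [Finite X] (P : Subgroup (Equiv.Perm X))
    (hP : IsPGroup 2 P) (htr : ∀ x y : X, ∃ σ ∈ P, σ x = y) (h2 : 2 ≤ Nat.card X) (a : X) :
    ∃ p : X → Prop, p a ∧ Us2Bip P p := by
  obtain ⟨B, h1, h2⟩ := exists_bipartition P hP htr h2
  by_cases ha : a ∈ B
  · exact ⟨fun y => y ∈ B, ha, h1, h2⟩
  · exact ⟨fun y => y ∉ B, ha, us2_bip_not ⟨h1, h2⟩⟩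

/-- a transitive permutation lies in at most one full 2-subgroup -/
theorem us2_cyc : ∀ (n : ℕ) (X : Type) [Finite X], Nat.card X = n →
    ∀ (P P' : Subgroup (Equiv.Perm X)), Full2 P → Full2 P' →
    ∀ x : Equiv.Perm X, x ∈ P → x ∈ P' →
    (∀ a b : X, ∃ i : ℕ, (x ^ i) a = b) → P = P' := by
  intro n
  induction n using Nat.strong_induction_on with
  | _ n IH =>
    intro X _ hX P P' hP hP' x hx hx' hxt
    by_cases hn : n ≤ 2
    · rw [us2_small (by omega) hP, us2_small (by omega) hP']
    have htr : ∀ a b : X, ∃ σ ∈ P, σ a = b := fun a b => by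
      obtain ⟨i, hi⟩ := hxt a b
      exact ⟨x ^ i, P.pow_mem hx i, hi⟩
    have htr' : ∀ a b : X, ∃ σ ∈ P', σ a = b := fun a b => by
      obtain ⟨i, hi⟩ := hxt a b
      exact ⟨x ^ i, P'.pow_mem hx' i, hi⟩
    obtain ⟨a₀⟩ : Nonempty X := (Nat.card_pos_iff.mp (by omega)).1
    obtain ⟨p, hpa, hb⟩ := us2_exists_bip P hP.1 htr (by omega) a₀
    obtain ⟨q, hqa, hb'⟩ := us2_exists_bip P' hP'.1 htr' (by omega) a₀
    have hsw : ∀ (r : X → Prop) (Q : Subgroup (Equiv.Perm X)), Us2Bip Q r → x ∈ Q → r a₀ →
        ∀ y, r (x y) ↔ ¬ r y := by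
      intro r Q hr hxQ hra
      rcases hr.2 x hxQ with h | h
      · exfalso
        have hall : ∀ y, r y := by
          intro y
          obtain ⟨i, hi⟩ := hxt a₀ y
          rw [← hi]
          have : ∀ j : ℕ, r ((x ^ j) a₀) := by
            intro j
            induction j with
            | zero => simpa using hra
            | succ j ih =>
              rw [_root_.pow_succ', Equiv.Perm.mul_apply, h]
              exact ih
          exact this i
        obtain ⟨s, -, hs⟩ := hr.1
        exact ((hs a₀).mp (hall _)) hra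
      · exact h
    have hxp := hsw p P hb hx hpa
    have hxq := hsw q P' hb' hx' hqa
    have hpq : ∀ y, q y ↔ p y := by
      intro y
      obtain ⟨i, hi⟩ := hxt a₀ y
      rw [← hi, us2_parity p x hxp a₀ i, us2_parity q x hxq a₀ i]
      simp [hpa, hqa]
    have hb'' : Us2Bip P' p := us2_bip_congr hb' hpq
    obtain ⟨⟨s, hs, hsp⟩, hd⟩ := hb
    obtain ⟨⟨s', hs', hsp'⟩, hd'⟩ := hb''
    have hx2p : ∀ y, p ((x * x) y) ↔ p y := us2_sw_sw p x x hxp hxp
    have hx2n : ∀ y, ¬ p ((x * x) y) ↔ ¬ p y := fun y => not_congr (hx2p y)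
    have hcard := card_subtype_add p
    have hpos1 : 1 ≤ Nat.card {y // p y} := by
      haveI : Nonempty {y // p y} := ⟨⟨a₀, hpa⟩⟩
      exact Nat.card_pos
    have hpos2 : 1 ≤ Nat.card {y // ¬ p y} := by
      haveI : Nonempty {y // ¬ p y} := ⟨⟨x a₀, fun h => ((hxp a₀).mp h) hpa⟩⟩
      exact Nat.card_pos
    have epow : ∀ j : ℕ, (x * x) ^ j = x ^ (j + j) := by
      intro j
      rw [← pow_two, ← pow_mul, two_mul]
    apply us2_bip_case P P' hP hP' p hd hd' s hs hsp s' hs' hsp' (x * x) (P.mul_mem hx hx)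
      (P'.mul_mem hx' hx') hx2p hx2n
    · intro F F' hF hF' h1 h2
      apply IH (Nat.card {y // p y}) (by omega) {y // p y} rfl F F' hF hF' _ h1 h2
      intro a b
      obtain ⟨i, hi⟩ := hxt a.1 b.1
      have hev : Even i := by
        have := us2_parity p x hxp a.1 i
        rw [hi] at this
        exact (this.mp b.2).mpr a.2
      obtain ⟨j, hj⟩ := hev
      refine ⟨j, Subtype.ext ?_⟩
      rw [Equiv.Perm.subtypePerm_pow]
      show ((x * x) ^ j) a.1 = b.1
      rw [epow, ← hj, hi]
    · intro F F' hF hF' h1 h2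
      apply IH (Nat.card {y // ¬ p y}) (by omega) {y // ¬ p y} rfl F F' hF hF' _ h1 h2
      intro a b
      obtain ⟨i, hi⟩ := hxt a.1 b.1
      have hev : Even i := by
        have := us2_parity p x hxp a.1 i
        rw [hi] at this
        by_contra hne
        exact b.2 (this.mpr ⟨fun h => absurd h hne, fun h => absurd h a.2⟩)
      obtain ⟨j, hj⟩ := hev
      refine ⟨j, Subtype.ext ?_⟩
      rw [Equiv.Perm.subtypePerm_pow]
      show ((x * x) ^ j) a.1 = b.1
      rw [epow, ← hj, hi]

/-- a good permutation lies in at most one full 2-subgroup -/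
theorem us2_main : ∀ (n : ℕ) (X : Type) [Finite X], Nat.card X = n →
    ∀ (P P' : Subgroup (Equiv.Perm X)), Full2 P → Full2 P' →
    ∀ x : Equiv.Perm X, x ∈ P → x ∈ P' → Us2Good x → P = P' := by
  intro n
  induction n using Nat.strong_induction_on with
  | _ n IH =>
    intro X _ hX P P' hP hP' x hx hx' hgood
    by_cases hn : n ≤ 2
    · rw [us2_small (by omega) hP, us2_small (by omega) hP']
    classical
    haveI : Fintype X := Fintype.ofFinite X
    have hcardX : Fintype.card X = n := by rw [← hX, Nat.card_eq_fintype_card]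
    obtain ⟨hfix, hnd⟩ := (us2_good_iff x).mp hgood
    obtain ⟨k, hk⟩ : ∃ k, orderOf x = 2 ^ k := by
      haveI : Fact (Nat.Prime 2) := ⟨Nat.prime_two⟩
      obtain ⟨k, hk⟩ := (IsPGroup.iff_orderOf.mp hP.1) ⟨x, hx⟩
      exact ⟨k, by rw [← hk]; exact (Subgroup.orderOf_coe (⟨x, hx⟩ : P))⟩
    have hne : x.cycleType.toFinset.Nonempty := by
      have h0 : 0 < x.support.card := by omega
      rw [← Equiv.Perm.sum_cycleType] at h0
      by_contra hcon
      rw [Finset.not_nonempty_iff_eq_empty, Multiset.toFinset_eq_empty] at hcon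
      rw [hcon] at h0
      simp at h0
    obtain ⟨m, hm, hmmax⟩ := Finset.exists_max_image x.cycleType.toFinset id hne
    rw [Multiset.mem_toFinset] at hm
    have hmdvd : m ∣ 2 ^ k := hk ▸ Equiv.Perm.dvd_of_mem_cycleType hm
    obtain ⟨b, -, rfl⟩ := (Nat.dvd_prime_pow Nat.prime_two).mp hmdvd
    have hbound := us2_support_bound x k hk hnd b
      (fun l hl => hmmax l (Multiset.mem_toFinset.mpr hl))
    rw [Equiv.Perm.cycleType_def, Multiset.mem_map] at hm
    obtain ⟨c, hc, hcm⟩ := hm
    rw [Finset.mem_val] at hc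
    obtain ⟨a, ha⟩ := (Equiv.Perm.mem_cycleFactorsFinset_iff.mp hc).1.nonempty_support
    have e1 := Equiv.Perm.cycle_is_cycleOf ha hc
    have ha' : x a ≠ a :=
      Equiv.Perm.mem_support.mp (Equiv.Perm.mem_cycleFactorsFinset_support_le hc ha)
    have hpx : ∀ y, x.SameCycle a (x y) ↔ x.SameCycle a y :=
      fun y => Equiv.Perm.sameCycle_apply_right
    have hpn : ∀ y, ¬ x.SameCycle a (x y) ↔ ¬ x.SameCycle a y := fun y => not_congr (hpx y)
    have hcardp : Nat.card {y // x.SameCycle a y} = 2 ^ b := by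
      rw [Nat.subtype_card _ (fun y => Equiv.Perm.mem_support_cycleOf_iff' ha'), ← e1]
      exact hcm
    have hsplit := card_subtype_add (fun y => x.SameCycle a y)
    by_cases hall : ∀ y, x.SameCycle a y
    · apply us2_cyc n X hX P P' hP hP' x hx hx'
      intro a' b'
      exact ((hall a').symm.trans (hall b')).exists_nat_pow_eq
    · push Not at hall
      obtain ⟨y₁, hy₁⟩ := hall
      have hpos2 : 1 ≤ Nat.card {y // ¬ x.SameCycle a y} := by
        haveI : Nonempty {y // ¬ x.SameCycle a y} := ⟨⟨y₁, hy₁⟩⟩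
        exact Nat.card_pos
      have hpos1 : 1 ≤ 2 ^ b := Nat.one_le_two_pow
      have ih1 : ∀ F F' : Subgroup (Equiv.Perm {y // x.SameCycle a y}), Full2 F → Full2 F' →
          x.subtypePerm hpx ∈ F → x.subtypePerm hpx ∈ F' → F = F' :=
        fun F F' hF hF' h1 h2 =>
          IH _ (by omega) _ rfl F F' hF hF' _ h1 h2 (us2_good_restrict hgood _ hpx)
      have ih2 : ∀ F F' : Subgroup (Equiv.Perm {y // ¬ x.SameCycle a y}), Full2 F → Full2 F' →
          x.subtypePerm hpn ∈ F → x.subtypePerm hpn ∈ F' → F = F' :=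
        fun F F' hF hF' h1 h2 =>
          IH _ (by omega) _ rfl F F' hF hF' _ h1 h2 (us2_good_restrict hgood _ hpn)
      have hn2 : n ≤ 2 ^ (b + 1) := by omega
      have hc1 : ({y | x.SameCycle a y} : Set X).ncard = 2 ^ b := by
        rw [← hcardp]
        rfl
      by_cases hlt : n < 2 ^ (b + 1)
      · have horb : ∀ (Q : Subgroup (Equiv.Perm X)), Full2 Q → x ∈ Q →
            ∀ g ∈ Q, ∀ y, x.SameCycle a (g y) ↔ x.SameCycle a y := by
          intro Q hQ hxQ
          obtain ⟨j, hj⟩ := orbit_ncard hQ.1 a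
          have hsub : {y | x.SameCycle a y} ⊆ {w | ∃ σ ∈ Q, σ a = w} := by
            rintro y ⟨i, hi⟩
            exact ⟨x ^ i, Q.zpow_mem hxQ i, hi⟩
          have hc2 : ({w | ∃ σ ∈ Q, σ a = w} : Set X).ncard ≤ n := by
            rw [← hX]
            exact Set.ncard_le_card _
          have hle := Set.ncard_le_ncard hsub (Set.toFinite _)
          rw [hc1, hj] at hle
          rw [hj] at hc2
          have hjb : j = b := by
            have h1 : b ≤ j := (Nat.pow_le_pow_iff_right (by norm_num)).mp hle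
            have h2 : j < b + 1 :=
              (Nat.pow_lt_pow_iff_right (by norm_num)).mp (lt_of_le_of_lt hc2 hlt)
            omega
          have heq : {y | x.SameCycle a y} = {w | ∃ σ ∈ Q, σ a = w} :=
            Set.eq_of_subset_of_ncard_le hsub (by rw [hc1, hj, hjb]) (Set.toFinite _)
          have e : ∀ z, x.SameCycle a z ↔ ∃ σ ∈ Q, σ a = z := fun z =>
            (congrArg (fun S : Set X => z ∈ S) heq).to_iff
          intro g hg y
          rw [e, e]
          exact orbPred_invariant Q a g hg y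
        exact us2_orbit_case P P' hP hP' _ (horb P hP hx) (horb P' hP' hx') x hx hx' hpx hpn
          ih1 ih2
      · have hn3 : n = 2 ^ (b + 1) := by omega
        have hbip : ∀ (Q : Subgroup (Equiv.Perm X)), Full2 Q → x ∈ Q →
            Us2Bip Q (fun y => x.SameCycle a y) := by
          intro Q hQ hxQ
          have htr := full2_transitive hQ (b + 1) (by rw [hX, hn3])
          obtain ⟨p, hpa, hb⟩ := us2_exists_bip Q hQ.1 htr (by omega) a
          have hxp : ∀ y, p (x y) ↔ p y := by
            rcases hb.2 x hxQ with h | h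
            · exact h
            · exfalso
              have hs : x.support = Finset.univ := by
                ext y
                simp only [Equiv.Perm.mem_support, Finset.mem_univ, iff_true]
                intro hy
                have := h y
                rw [hy] at this
                tauto
              rw [hs, Finset.card_univ] at hbound
              omega
          have hsub : ∀ y, x.SameCycle a y → p y := by
            rintro y ⟨i, hi⟩
            rw [← hi]
            have h3 : ∀ y, p ((x ^ i) y) ↔ p y := (us2Stab p).zpow_mem hxp i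
            exact (h3 a).mpr hpa
          obtain ⟨s, hs, hsp⟩ := hb.1
          have hk1 : Nat.card {y // ¬ p y} ≤ Nat.card {y // p y} :=
            Nat.card_le_card_of_injective (fun y => (⟨s y.1, (hsp y.1).mpr y.2⟩ : {y // p y}))
              (fun a b h => Subtype.ext (s.injective (congrArg Subtype.val h)))
          have hk2 : Nat.card {y // p y} ≤ Nat.card {y // ¬ p y} :=
            Nat.card_le_card_of_injective
              (fun y => (⟨s y.1, fun h => ((hsp y.1).mp h) y.2⟩ : {y // ¬ p y}))
              (fun a b h => Subtype.ext (s.injective (congrArg Subtype.val h)))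
          have hXp := card_subtype_add p
          have hpc : Nat.card {y // p y} = 2 ^ b := by
            rw [hX, hn3, pow_succ] at hXp
            omega
          have heq : ∀ y, p y ↔ x.SameCycle a y := by
            have hss : {y | x.SameCycle a y} ⊆ {y | p y} := fun y hy => hsub y hy
            have e1 : ({y | p y} : Set X).ncard = Nat.card {y // p y} := rfl
            have h4 := Set.eq_of_subset_of_ncard_le hss (by rw [e1, hc1, hpc]) (Set.toFinite _)
            intro y
            exact (congrArg (fun S : Set X => y ∈ S) h4).to_iff.symm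
          exact us2_bip_congr hb heq
        obtain ⟨⟨s, hs, hsp⟩, hd⟩ := hbip P hP hx
        obtain ⟨⟨s', hs', hsp'⟩, hd'⟩ := hbip P' hP' hx'
        exact us2_bip_case P P' hP hP' _ hd hd' s hs hsp s' hs' hsp' x hx hx' hpx hpn ih1 ih2

theorem us2_final (n : ℕ) (x : Equiv.Perm (Fin n)) (hx : ∃ k : ℕ, orderOf x = 2 ^ k) :
    (∃! P : Sylow 2 (Equiv.Perm (Fin n)), x ∈ P) ↔
      (n ≤ x.support.card + 2 ∧ x.cycleType.Nodup) := by
  haveI : Fact (Nat.Prime 2) := ⟨Nat.prime_two⟩
  have hiff := us2_good_iff x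
  rw [Fintype.card_fin] at hiff
  rw [← hiff]
  constructor
  · rintro ⟨P, hP, huniq⟩
    exact us2_good_of_unique x hx P (fun Q hQ => huniq Q hQ)
  · intro hgood
    have hz : IsPGroup 2 (Subgroup.zpowers x) := by
      obtain ⟨k, hk⟩ := hx
      apply IsPGroup.of_card (n := k)
      rw [Nat.card_zpowers, hk]
    obtain ⟨P, hP⟩ := hz.exists_le_sylow
    refine ⟨P, hP (Subgroup.mem_zpowers x), fun Q hQ => ?_⟩
    apply Sylow.ext
    exact us2_main n (Fin n) (by simp) Q P (full2_of_sylow Q) (full2_of_sylow P) x hQ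
      (hP (Subgroup.mem_zpowers x)) hgood

end Cfsg.Agent.Helper37
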