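import Mathlib
import Cfsg.Agent.Helper37.UniqSyl2

set_option autoImplicit false

namespace Cfsg.Agent.Helper37

open scoped commutatorElement

universe u

/-- a `p`-subgroup of the symmetric group of the largest possible order -/
def FullP {X : Type} (p : ℕ) (P : Subgroup (Equiv.Perm X)) : Prop :=
  IsPGroup p P ∧ Nat.card P = p ^ padicValNat p (Nat.card X).factorial

theorem eas_full2 {X : Type} {P : Subgroup (Equiv.Perm X)} (h : Full2 P) : FullP 2 P := h

theorem eas_vv_add (p : ℕ) [Fact p.Prime] (a b : ℕ) :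
    padicValNat p a.factorial + padicValNat p b.factorial ≤ padicValNat p (a + b).factorial := by
  rw [← padicValNat.mul (Nat.factorial_ne_zero a) (Nat.factorial_ne_zero b)]
  rw [← padicValNat_dvd_iff_le (Nat.factorial_ne_zero (a + b))]
  exact (pow_padicValNat_dvd).trans (Nat.factorial_mul_factorial_dvd_factorial_add a b)

theorem eas_group_card {X : Type} [Finite X] (p : ℕ) [Fact p.Prime]
    {S : Subgroup (Equiv.Perm X)} (hS : IsPGroup p S) :
    ∃ k, Nat.card S = p ^ k ∧ k ≤ padicValNat p (Nat.card X).factorial := by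
  obtain ⟨k, hk⟩ := IsPGroup.iff_card.mp hS
  refine ⟨k, hk, ?_⟩
  have h1 : Nat.card S ∣ Nat.card (Equiv.Perm X) := Subgroup.card_subgroup_dvd_card S
  rw [hk, Nat.card_perm] at h1
  exact (padicValNat_dvd_iff_le (Nat.factorial_ne_zero _)).mp h1

theorem eas_split {X : Type} [Finite X] (p : ℕ) [Fact p.Prime] (M : Subgroup (Equiv.Perm X))
    (hM : IsPGroup p M) (q : X → Prop) (hq : ∀ g ∈ M, ∀ y, q (g y) ↔ q y)
    (hcard : p ^ (padicValNat p (Nat.card {y // q y}).factorial +
      padicValNat p (Nat.card {y // ¬ q y}).factorial) ≤ Nat.card M) :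
    FullP p (fixSub M (fun y => ¬ q y)) ∧ FullP p (restrHom M q hq).range := by
  have hp : p.Prime := Fact.out
  have hr : IsPGroup p (restrHom M q hq).range :=
    IsPGroup.of_surjective hM (restrHom M q hq).rangeRestrict
      (restrHom M q hq).rangeRestrict_surjective
  have hf : IsPGroup p (fixSub M (fun y => ¬ q y)) :=
    hM.comap_of_injective (extP _) (extP_injective _)
  obtain ⟨k1, hk1, hk1'⟩ := eas_group_card p hr
  obtain ⟨k2, hk2, hk2'⟩ := eas_group_card p hf
  have h1 := card_decomp M q hq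
  rw [hk1, hk2, ← pow_add] at h1
  rw [h1] at hcard
  have h2 := (Nat.pow_le_pow_iff_right hp.one_lt).mp hcard
  refine ⟨⟨hf, ?_⟩, ⟨hr, ?_⟩⟩
  · rw [hk2]
    congr 1
    omega
  · rw [hk1]
    congr 1
    omega

theorem eas_split_mem {X : Type} [Finite X] (p : ℕ) [Fact p.Prime]
    (M : Subgroup (Equiv.Perm X)) (hM : IsPGroup p M)
    (q : X → Prop) (hq : ∀ g ∈ M, ∀ y, q (g y) ↔ q y)
    (hq' : ∀ g ∈ M, ∀ y, (¬ q (g y)) ↔ ¬ q y)
    (hcard : p ^ (padicValNat p (Nat.card {y // q y}).factorial +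
      padicValNat p (Nat.card {y // ¬ q y}).factorial) ≤ Nat.card M) :
    FullP p (fixSub M q) ∧ (∀ g (hg : g ∈ M), g.subtypePerm (hq g hg) ∈ fixSub M q) ∧
    FullP p (fixSub M (fun y => ¬ q y)) ∧
      (∀ g (hg : g ∈ M), g.subtypePerm (hq' g hg) ∈ fixSub M (fun y => ¬ q y)) := by
  have e : (fun y => ¬ ¬ q y) = q := funext (fun y => propext not_not)
  have hcard' : p ^ (padicValNat p (Nat.card {y // ¬ q y}).factorial +
      padicValNat p (Nat.card {y // ¬ ¬ q y}).factorial) ≤ Nat.card M := by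
    have : Nat.card {y // ¬ ¬ q y} = Nat.card {y // q y} := by rw [e]
    rw [this, add_comm]
    exact hcard
  obtain ⟨A1, A2⟩ := eas_split p M hM q hq hcard
  obtain ⟨B1, B2⟩ := eas_split p M hM (fun y => ¬ q y) hq' hcard'
  rw [e] at B1
  have heq1 : fixSub M q = (restrHom M q hq).range := by
    apply Subgroup.eq_of_le_of_card_ge (us2_fixSub_le_range M q hq)
    rw [B1.2, A2.2]
  have heq2 : fixSub M (fun y => ¬ q y) = (restrHom M (fun y => ¬ q y) hq').range := by
    apply Subgroup.eq_of_le_of_card_ge (us2_fixSub_le_range M _ hq')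
    rw [A1.2, B2.2]
  refine ⟨B1, fun g hg => ?_, A1, fun g hg => ?_⟩
  · rw [heq1]
    exact ⟨⟨g, hg⟩, rfl⟩
  · rw [heq2]
    exact ⟨⟨g, hg⟩, rfl⟩

/-- in an abelian quotient powers are multiplicative -/
theorem eas_mul_pow_mem {G : Type*} [Group G] (H : Subgroup G) (a b : G) (ha : a ∈ H)
    (hb : b ∈ H) (n : ℕ) (han : a ^ n ∈ ⁅H, H⁆) (hbn : b ^ n ∈ ⁅H, H⁆) :
    (a * b) ^ n ∈ ⁅H, H⁆ := by
  rw [← H.map_subtype_commutator, Subgroup.mem_map] at han hbn ⊢
  obtain ⟨a', ha', hae⟩ := han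
  obtain ⟨b', hb', hbe⟩ := hbn
  have ha'' : a' = (⟨a, ha⟩ : H) ^ n := Subtype.ext (hae.trans rfl)
  have hb'' : b' = (⟨b, hb⟩ : H) ^ n := Subtype.ext (hbe.trans rfl)
  refine ⟨((⟨a, ha⟩ : H) * ⟨b, hb⟩) ^ n, ?_, rfl⟩
  rw [← Abelianization.ker_of, MonoidHom.mem_ker] at ha' hb' ⊢
  rw [map_pow, map_mul, mul_pow, ← map_pow, ← map_pow, ← ha'', ← hb'', ha', hb', one_mul]

/-- the base group of a regular wreath product -/
def easBase (D Q : Type*) [Group D] [Group Q] : (Q → D) →* D ≀ᵣ Q where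
  toFun f := ⟨f, 1⟩
  map_one' := rfl
  map_mul' f g := by
    rw [RegularWreathProduct.mul_def]
    simp

theorem eas_wreath {D Q : Type*} [Group D] [Group Q] [Finite Q] (p : ℕ)
    (hD : ∀ d : D, d ^ p ∈ commutator D) (hQ : ∀ q : Q, q ^ p ∈ commutator Q) :
    ∀ w : D ≀ᵣ Q, w ^ p ∈ commutator (D ≀ᵣ Q) := by
  intro w
  have hw : w = easBase D Q w.left * RegularWreathProduct.inl w.right := by
    rw [RegularWreathProduct.mul_def]
    cases w
    simp [easBase]
    rfl
  rw [← Abelianization.ker_of, MonoidHom.mem_ker, hw, map_pow, map_mul, mul_pow]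
  have h1 : Abelianization.of (easBase D Q w.left) ^ p = 1 := by
    rw [← map_pow, ← map_pow]
    have h2 : w.left ^ p ∈ commutator (Q → D) := by
      rw [commutator_def, ← Subgroup.pi_top Set.univ, Subgroup.commutator_pi_pi_of_finite,
        Subgroup.mem_pi]
      intro x _
      exact hD (w.left x)
    exact (Abelianization.commutator_subset_ker
      ((Abelianization.of).comp (easBase D Q))) h2
  have h2 : Abelianization.of (RegularWreathProduct.inl w.right : D ≀ᵣ Q) ^ p = 1 := by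
    rw [← map_pow, ← map_pow]
    exact (Abelianization.commutator_subset_ker
      ((Abelianization.of).comp (RegularWreathProduct.inl : Q →* D ≀ᵣ Q))) (hQ w.right)
  rw [h1, h2, one_mul]

theorem eas_iterated (G : Type u) [Group G] [Finite G] (p : ℕ)
    (hG : ∀ g : G, g ^ p ∈ commutator G) :
    ∀ n : ℕ, ∀ w : IteratedWreathProduct G n, w ^ p ∈ commutator (IteratedWreathProduct G n) := by
  intro n
  induction n with
  | zero =>
    intro w
    have : w ^ p = 1 := Subsingleton.elim (α := PUnit) _ _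
    rw [this]
    exact Subgroup.one_mem _
  | succ n ih =>
    exact eas_wreath (D := IteratedWreathProduct G n) (Q := G) p ih hG

end Cfsg.Agent.Helper37
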