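import Mathlib
import Cfsg.Agent.Helper90.HTDefs
import Cfsg.Agent.Helper44.UnitaryCount
import Cfsg.Agent.Helper37.HTHONB

set_option autoImplicit false

namespace Cfsg.Agent.Helper37.HT5953

open Module Polynomial Cfsg.Agent.Helper90.HT

/-- fibre sum: the values of `N` are `q`-fixed and the fibres over nonzero fixed values have `U`
elements -/
theorem htiso_fibre {F : Type*} [Field F] [Fintype F] [DecidableEq F] (q : ℕ) {X : Type*}
    [Fintype X] (N : X → F) (hN : ∀ x, (N x) ^ q = N x) (U : ℕ)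
    (hU : ∀ c : F, c ≠ 0 → c ^ q = c → Nat.card {x : X // N x = c} = U) :
    Fintype.card X = Nat.card {x : X // N x = 0} +
      (Finset.univ.filter (fun c : F => c ≠ 0 ∧ c ^ q = c)).card * U := by
  classical
  have h1 : Fintype.card X = ∑ c : F, Nat.card {x : X // N x = c} := by
    rw [← Nat.card_eq_fintype_card, ← Nat.card_congr (Equiv.sigmaFiberEquiv N), Nat.card_sigma]
  rw [h1]
  have h2 : ∀ c : F, Nat.card {x : X // N x = c} =
      (if c = 0 then Nat.card {x : X // N x = 0} else 0) +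
        (if c ≠ 0 ∧ c ^ q = c then U else 0) := by
    intro c
    by_cases hc0 : c = 0
    · subst hc0; simp
    · by_cases hcq : c ^ q = c
      · rw [if_neg hc0, if_pos ⟨hc0, hcq⟩, zero_add]; exact hU c hc0 hcq
      · rw [if_neg hc0, if_neg (fun h => hcq h.2), add_zero]
        haveI : IsEmpty {x : X // N x = c} := ⟨fun x => hcq (by rw [← x.2]; exact hN x.1)⟩
        exact Nat.card_of_isEmpty
  rw [Finset.sum_congr rfl (fun c _ => h2 c), Finset.sum_add_distrib, Finset.sum_ite_eq' Finset.univ (0 : F)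
    (fun _ => Nat.card {x : X // N x = 0}), if_pos (Finset.mem_univ _), ← Finset.sum_filter,
    Finset.sum_const, smul_eq_mul]

/-- ISOV: the number of isotropic vectors of a nondegenerate Hermitian `k`-space. -/
theorem ht_isocount {F : Type*} [Field F] [Fintype F] {V : Type*} [AddCommGroup V] [Module F V]
    [FiniteDimensional F V] (σ : F →+* F) (h : V → V → F) (q : ℕ)
    (hq : Fintype.card F = q ^ 2) (hσ : ∀ a, σ a = a ^ q) (hh : IsHerm σ h)
    (hnd : ∀ v, (∀ w, h v w = 0) → v = 0) (k : ℕ) (hk : finrank F V = k) :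
    (Nat.card {v : V // h v v = 0} : ℤ) =
      (q : ℤ) ^ (2 * k - 1) + (-1) ^ k * ((q : ℤ) ^ k - (q : ℤ) ^ (k - 1)) := by
  classical
  obtain ⟨Φ, hΦ⟩ := ht_onb σ h q hq hσ hh hnd k hk
  have hq2 : 2 ≤ q := Cfsg.Agent.Helper44.two_le_of_card_sq hq
  have hσ2 : ∀ x, σ (σ x) = x := hh.invol
  have e1 : Nat.card {v : V // h v v = 0} =
      Nat.card {x : Fin k → F // Cfsg.Agent.Helper44.hfg σ x x = 0} := by
    apply Nat.card_congr
    refine Equiv.subtypeEquiv Φ.toEquiv ?_
    intro v
    show h v v = 0 ↔ Cfsg.Agent.Helper44.hfg σ (Φ v) (Φ v) = 0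
    rw [Cfsg.Agent.Helper44.hfg_eq_hermForm σ hσ, hΦ]
  obtain ⟨f, hf⟩ : ∃ f, f = (Finset.univ.filter (fun c : F => c ≠ 0 ∧ c ^ q = c)).card :=
    ⟨_, rfl⟩
  have hf1 : f = q - 1 := by
    have h1 := htiso_fibre q (fun x : F => x * x ^ q) (by
      intro x
      rw [mul_pow, Cfsg.Agent.Helper44.conj_conj hq, mul_comm]) (q + 1)
      (fun c hc0 hc => Cfsg.Agent.Helper44.card_norm_eq_of_ne hq c hc hc0)
    rw [hq, Cfsg.Agent.Helper44.card_norm_eq_zero hq, ← hf] at h1
    have h2 : q ^ 2 = (q - 1) * (q + 1) + 1 := by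
      obtain ⟨t, rfl⟩ : ∃ t, q = t + 1 := ⟨q - 1, by omega⟩
      simp only [Nat.add_sub_cancel]; ring
    have h3 : f * (q + 1) = (q - 1) * (q + 1) := by omega
    exact Nat.eq_of_mul_eq_mul_right (by omega : 0 < q + 1) h3
  have hmain := htiso_fibre q (fun x : Fin k → F => Cfsg.Agent.Helper44.hfg σ x x) (by
      intro x
      show (Cfsg.Agent.Helper44.hfg σ x x) ^ q = Cfsg.Agent.Helper44.hfg σ x x
      rw [← hσ, Cfsg.Agent.Helper44.hfg_symm σ hσ2])
    (Nat.card {x : Fin k → F // Cfsg.Agent.Helper44.hfg σ x x = 1}) (by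
      intro c hc0 hc
      obtain ⟨t, ht⟩ := Cfsg.Agent.Helper44.exists_norm hq c hc
      have ht0 : t ≠ 0 := by rintro rfl; rw [zero_mul] at ht; exact hc0 ht.symm
      have htq0 : t ^ q ≠ 0 := pow_ne_zero _ ht0
      apply Nat.card_congr
      exact
        { toFun := fun x => ⟨t⁻¹ • x.1, by
            have hx := x.2
            rw [Cfsg.Agent.Helper44.hfg_smul_left, Cfsg.Agent.Helper44.hfg_smul_right, hx, hσ,
              ← ht, inv_pow]
            field_simp⟩
          invFun := fun y => ⟨t • y.1, by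
            have hy := y.2
            show Cfsg.Agent.Helper44.hfg σ (t • y.1) (t • y.1) = c
            rw [Cfsg.Agent.Helper44.hfg_smul_left, Cfsg.Agent.Helper44.hfg_smul_right, hy, hσ,
              mul_one, ht]⟩
          left_inv := fun x => by
            apply Subtype.ext
            show t • t⁻¹ • x.1 = x.1
            rw [smul_smul, mul_inv_cancel₀ ht0, one_smul]
          right_inv := fun y => by
            apply Subtype.ext
            show t⁻¹ • t • y.1 = y.1
            rw [smul_smul, inv_mul_cancel₀ ht0, one_smul] })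
  rw [Fintype.card_fun, Fintype.card_fin, hq, ← hf, hf1] at hmain
  have hU := Cfsg.Agent.Helper44.card_normOne hq σ hσ k (Fin k) (Fintype.card_fin k)
  rw [e1]
  have hZ : (Nat.card {x : Fin k → F // Cfsg.Agent.Helper44.hfg σ x x = 0} : ℤ) =
      (q : ℤ) ^ (2 * k) - ((q : ℤ) - 1) * Cfsg.Agent.Helper44.unitVal q k := by
    have h5 := congrArg (fun n : ℕ => (n : ℤ)) hmain
    push_cast [Nat.cast_sub (by omega : 1 ≤ q)] at h5
    rw [hU] at h5
    rw [pow_mul]; linarith
  rw [hZ]
  clear hZ hU hmain e1 hΦ Φ hk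
  cases k with
  | zero => simp [Cfsg.Agent.Helper44.unitVal]
  | succ j =>
    simp only [Cfsg.Agent.Helper44.unitVal]
    have e2 : 2 * (j + 1) - 1 = 2 * j + 1 := by omega
    have e3 : j + 1 - 1 = j := by omega
    rw [e2, e3]
    ring

end Cfsg.Agent.Helper37.HT5953
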