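import Mathlib

set_option autoImplicit false

/-!
# CALL LM (helper21, row S4067) piece X2 (double, helper37)
-/

namespace Cfsg.Agent.Helper37.LM

open scoped commutatorElement

/-- squares commute with everything when the commutator is central of square one. -/
theorem lmx2_sq_comm {G : Type*} [Group G] (g h w : G) (hwc : ∀ y : G, y * w = w * y)
    (hww : w * w = 1) (e1 : g * h = w * (h * g)) : g ^ 2 * h = h * g ^ 2 := by
  have e2 : g ^ 2 * h = w * w * (h * g ^ 2) := by
    calc g ^ 2 * h = g * (g * h) := by rw [pow_two, mul_assoc]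
      _ = g * (w * (h * g)) := by rw [e1]
      _ = w * ((g * h) * g) := by rw [← mul_assoc g w, hwc g, mul_assoc, mul_assoc]
      _ = w * ((w * (h * g)) * g) := by rw [e1]
      _ = w * w * (h * g ^ 2) := by rw [pow_two]; simp only [mul_assoc]
  rw [e2, hww, one_mul]

/-- the square of a product. -/
theorem lmx2_mul_sq {G : Type*} [Group G] (a b z : G) (hzc : ∀ y : G, y * z = z * y)
    (hzz : z * z = 1) (hab : a * b = z * (b * a)) :
    (a * b) ^ 2 * z = a ^ 2 * z * (b ^ 2 * z) := by
  have hba : b * a = z * (a * b) := by rw [hab, ← mul_assoc, hzz, one_mul]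
  have h1 : (a * b) ^ 2 = z * (a ^ 2 * b ^ 2) := by
    calc (a * b) ^ 2 = a * (b * a) * b := by rw [pow_two]; simp only [mul_assoc]
      _ = a * (z * (a * b)) * b := by rw [hba]
      _ = z * (a ^ 2 * b ^ 2) := by
        rw [← mul_assoc a z, hzc a, pow_two, pow_two]; simp only [mul_assoc]
  have h2 : a ^ 2 * z * (b ^ 2 * z) = z * (a ^ 2 * b ^ 2) * z := by
    rw [hzc (a ^ 2)]; simp only [mul_assoc]
  rw [h1, h2]

/-- the final adjustment. -/
theorem lmx2_adjust {G : Type*} [Group G] (g c z : G) (hcc : ∀ y : G, y * c = c * y)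
    (hzc : ∀ y : G, y * z = z * y) (hzz : z * z = 1) (hc : c ^ 2 = g ^ 2 * z) :
    (g * c⁻¹) ^ 2 = z := by
  have hcomm : Commute g c⁻¹ := Commute.inv_right (show Commute g c from hcc g)
  have hzinv : z⁻¹ = z := inv_eq_of_mul_eq_one_right hzz
  rw [hcomm.mul_pow, inv_pow, hc, mul_inv_rev, hzinv, ← hzc ((g ^ 2)⁻¹), mul_inv_cancel_left]

/-- X2: `p = 2`: a central involution outside `G'`, or a non-central `x` with `x² ≠ 1`, `x² ∈ G'`. -/
theorem lm_x2 {G : Type*} [Group G] [Finite G] (hZ : commutator G ≤ Subgroup.center G)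
    (hc : Nat.card (commutator G) = 2) :
    (∃ c : G, c ∈ Subgroup.center G ∧ orderOf c = 2 ∧ c ∉ commutator G) ∨
      (∃ x : G, x ∉ Subgroup.center G ∧ x ^ 2 ∈ commutator G ∧ x ^ 2 ≠ 1) := by
  classical
  by_cases hex : ∃ c : G, c ∈ Subgroup.center G ∧ orderOf c = 2 ∧ c ∉ commutator G
  · exact Or.inl hex
  right
  push Not at hex
  -- a nontrivial commutator
  obtain ⟨a, b, hab⟩ : ∃ a b : G, ⁅a, b⁆ ≠ 1 := by
    by_contra hcon
    push Not at hcon
    have hbot : commutator G = ⊥ := by
      rw [commutator_def, eq_bot_iff, Subgroup.commutator_le]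
      intro g₁ _ g₂ _
      rw [Subgroup.mem_bot]
      exact hcon g₁ g₂
    rw [hbot, Subgroup.card_bot] at hc
    omega
  have hcomm_mem : ∀ g h : G, ⁅g, h⁆ ∈ commutator G := by
    intro g h
    rw [commutator_def]
    exact Subgroup.commutator_mem_commutator (Subgroup.mem_top g) (Subgroup.mem_top h)
  obtain ⟨z, hzdef⟩ : ∃ z : G, z = ⁅a, b⁆ := ⟨_, rfl⟩
  have hz1 : z ≠ 1 := by rw [hzdef]; exact hab
  have hzG : z ∈ commutator G := by rw [hzdef]; exact hcomm_mem a b
  have hzZ : z ∈ Subgroup.center G := hZ hzG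
  have hzc : ∀ y : G, y * z = z * y := fun y => Subgroup.mem_center_iff.mp hzZ y
  -- elements of `G'` are `1` or `z`
  have hG' : ∀ y ∈ commutator G, y = 1 ∨ y = z := by
    intro y hy
    obtain ⟨u, hu, huniq⟩ := (Nat.card_eq_two_iff' (1 : commutator G)).mp hc
    by_cases hy1 : y = 1
    · exact Or.inl hy1
    · right
      have e1 : (⟨y, hy⟩ : commutator G) = u := huniq _ (fun h => hy1 (congrArg Subtype.val h))
      have e2 : (⟨z, hzG⟩ : commutator G) = u := huniq _ (fun h => hz1 (congrArg Subtype.val h))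
      exact congrArg Subtype.val (e1.trans e2.symm)
  have hzz : z * z = 1 := by
    have h := pow_card_eq_one' (G := commutator G) (x := ⟨z, hzG⟩)
    rw [hc] at h
    have h' := congrArg Subtype.val h
    simpa [pow_two] using h'
  have hsq1 : ∀ y ∈ commutator G, y * y = 1 := by
    intro y hy
    rcases hG' y hy with rfl | rfl
    · simp
    · exact hzz
  -- squares are central
  have hF1 : ∀ g : G, g ^ 2 ∈ Subgroup.center G := by
    intro g
    rw [Subgroup.mem_center_iff]
    intro h
    have hw := hcomm_mem g h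
    have e1 : g * h = ⁅g, h⁆ * (h * g) := by rw [commutatorElement_def]; group
    exact (lmx2_sq_comm g h ⁅g, h⁆ (fun y => Subgroup.mem_center_iff.mp (hZ hw) y)
      (hsq1 _ hw) e1).symm
  have e1 : a * b = z * (b * a) := by rw [hzdef, commutatorElement_def]; group
  -- the squaring map of the centre
  obtain ⟨φ, hφ⟩ : ∃ φ : Subgroup.center G →* Subgroup.center G, ∀ c, φ c = c ^ 2 :=
by
    refine ⟨{ toFun := fun c => c ^ 2, map_one' := one_pow 2, map_mul' := ?_ }, ?_⟩
    · intro c d
      apply Subtype.ext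
      show ((c : G) * (d : G)) ^ 2 = (c : G) ^ 2 * (d : G) ^ 2
      exact Commute.mul_pow (show Commute (c : G) (d : G) from Subgroup.mem_center_iff.mp d.2 c) 2
    · intro c
      rfl
  have hker : Nat.card φ.ker = 2 := by
    rw [Nat.card_eq_two_iff' (1 : φ.ker)]
    have hzk : (⟨z, hzZ⟩ : Subgroup.center G) ∈ φ.ker := by
      rw [MonoidHom.mem_ker, hφ]
      apply Subtype.ext
      show z ^ 2 = 1
      rw [pow_two]; exact hzz
    refine ⟨⟨⟨z, hzZ⟩, hzk⟩, ?_, ?_⟩
    · intro h
      exact hz1 (congrArg (fun x : φ.ker => ((x : Subgroup.center G) : G)) h)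
    · rintro ⟨c, hck⟩ hne
      have hc2 : (c : G) ^ 2 = 1 := by
        rw [MonoidHom.mem_ker, hφ] at hck
        exact congrArg Subtype.val hck
      have hc1 : (c : G) ≠ 1 := by
        intro h
        apply hne
        apply Subtype.ext
        apply Subtype.ext
        exact h
      have ho : orderOf (c : G) = 2 := orderOf_eq_prime hc2 hc1
      have hcG := hex (c : G) c.2 ho
      rcases hG' _ hcG with h | h
      · exact absurd h hc1
      · apply Subtype.ext
        apply Subtype.ext
        exact h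
  have hidx : φ.range.index = 2 := by
    have h1 := Subgroup.card_mul_index φ.range
    have h2 := Subgroup.card_mul_index φ.ker
    rw [Subgroup.index_ker, hker] at h2
    have hpos : 0 < Nat.card φ.range := Nat.card_pos
    have h3 : Nat.card φ.range * φ.range.index = Nat.card φ.range * 2 := by
      rw [h1, ← h2, mul_comm]
    exact Nat.eq_of_mul_eq_mul_left hpos h3
  -- the three candidates
  have hSmem : ∀ g : G, g ^ 2 * z ∈ Subgroup.center G := fun g =>
    Subgroup.mul_mem _ (hF1 g) hzZ
  have hS : (⟨(a * b) ^ 2 * z, hSmem (a * b)⟩ : Subgroup.center G) =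
      ⟨a ^ 2 * z, hSmem a⟩ * ⟨b ^ 2 * z, hSmem b⟩ := by
    apply Subtype.ext
    exact lmx2_mul_sq a b z hzc hzz e1
  have hfin : ∀ g : G, g ∉ Subgroup.center G →
      (⟨g ^ 2 * z, hSmem g⟩ : Subgroup.center G) ∈ φ.range →
      ∃ x : G, x ∉ Subgroup.center G ∧ x ^ 2 ∈ commutator G ∧ x ^ 2 ≠ 1 := by
    rintro g hg ⟨c, hcg⟩
    have hc' : (c : G) ^ 2 = g ^ 2 * z := by
      rw [hφ] at hcg
      exact congrArg Subtype.val hcg
    have hx2 : (g * (c : G)⁻¹) ^ 2 = z :=
      lmx2_adjust g (c : G) z (fun y => Subgroup.mem_center_iff.mp c.2 y) hzc hzz hc'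
    refine ⟨g * (c : G)⁻¹, ?_, ?_, ?_⟩
    · intro hx
      apply hg
      have := Subgroup.mul_mem _ hx c.2
      simpa using this
    · rw [hx2]; exact hzG
    · rw [hx2]; exact hz1
  have hne : ⁅a, b⁆ ≠ 1 := hab
  have ha : a ∉ Subgroup.center G := by
    intro h
    apply hne
    rw [commutatorElement_eq_one_iff_commute]
    exact (Subgroup.mem_center_iff.mp h b).symm
  have hb : b ∉ Subgroup.center G := by
    intro h
    apply hne
    rw [commutatorElement_eq_one_iff_commute]
    exact (Subgroup.mem_center_iff.mp h a)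
  have hab' : a * b ∉ Subgroup.center G := by
    intro h
    apply hne
    rw [commutatorElement_eq_one_iff_commute]
    have h1 := Subgroup.mem_center_iff.mp h a
    -- a * (a * b) = a * b * a
    show a * b = b * a
    have h2 : a * (a * b) = a * (b * a) := by rw [h1, mul_assoc]
    exact mul_left_cancel h2
  by_cases h1 : (⟨a ^ 2 * z, hSmem a⟩ : Subgroup.center G) ∈ φ.range
  · exact hfin a ha h1
  by_cases h2 : (⟨b ^ 2 * z, hSmem b⟩ : Subgroup.center G) ∈ φ.range
  · exact hfin b hb h2
  apply hfin (a * b) hab'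
  rw [hS, Subgroup.mul_mem_iff_of_index_two hidx]
  exact iff_of_false h1 h2

end Cfsg.Agent.Helper37.LM
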