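import Mathlib
import Cfsg.Agent.Lead.LWDefs
import Cfsg.Agent.Helper37.LWC4m
import Cfsg.Agent.Helper28.LWC5
import Cfsg.Agent.Helper28.LWC6

set_option autoImplicit false

namespace Cfsg.Agent.Helper37.LWC7

open Cfsg.Agent.Lead.LW
open Cfsg.Agent.Helper37.LWC4m
open Cfsg.Agent.Helper28.LWC5
open Cfsg.Agent.Helper28.LWC6

variable {α : Type*} [Fintype α] [DecidableEq α]

-- PIECE C7  (assembly: C4m C5 C6 + maximality)
theorem swap_of_maxQ (G : Subgroup (Equiv.Perm α)) (k : ℕ) (Q : Subgroup (Equiv.Perm α))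
    (hQ : MaxQ G k Q) (Θ : Finset α) (a b : α) (hΘ : Θ ⊆ fixF Q) (ha : a ∈ fixF Q)
    (hb : b ∈ fixF Q) (haΘ : a ∉ Θ) (hbΘ : b ∉ Θ) (hab : a ≠ b) (hΘc : Θ.card + 1 = k)
    (x₁ x₂ : Equiv.Perm α) (h₁ : x₁ ∈ nrm G Q) (h₂ : x₂ ∈ nrm G Q)
    (hx₁ : x₁ * x₁ ∈ Q) (hx₂ : x₂ * x₂ ∈ Q)
    (hf₁ : ∀ c ∈ insert a Θ, x₁ c = c) (hm₁ : ∀ c ∈ fixF Q, c ∉ insert a Θ → x₁ c ≠ c)
    (hf₂ : ∀ c ∈ insert b Θ, x₂ c = c) (hm₂ : ∀ c ∈ fixF Q, c ∉ insert b Θ → x₂ c ≠ c) :
    ∃ g ∈ G, g a = b ∧ g b = a ∧ ∀ c ∈ Θ, g c = c := by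
  obtain ⟨hQ2, ⟨Δ₀, hΔ₀c, hQΔ₀⟩, hQmax⟩ := hQ
  have hQG : Q ≤ G := fun q hq => (hQΔ₀ hq).1
  -- `N` preserves `Φ = fixF Q`
  have hNΦ : ∀ n ∈ nrm G Q, ∀ c ∈ fixF Q, n c ∈ fixF Q := by
    intro n hn c hc
    rw [mem_fixF] at hc ⊢
    intro q hq
    have h1 : n⁻¹ * q * n ∈ Q := by
      rw [(mem_nrm.mp hn).2]
      have : n * (n⁻¹ * q * n) * n⁻¹ = q := by group
      rw [this]
      exact hq
    have h2 := hc _ h1
    rw [Equiv.Perm.mul_apply, Equiv.Perm.mul_apply, Equiv.Perm.inv_eq_iff_eq] at h2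
    exact h2
  -- `T` and its properties
  have hnormT : ∀ n ∈ nrm G Q, ∀ t ∈ pstab (nrm G Q) (fixF Q), n * t * n⁻¹ ∈ pstab (nrm G Q) (fixF Q) := by
    intro n hn t ht
    refine ⟨Subgroup.mul_mem _ (Subgroup.mul_mem _ hn ht.1) (Subgroup.inv_mem _ hn), fun c hc => ?_⟩
    have h1 : n⁻¹ c ∈ fixF Q := hNΦ _ (Subgroup.inv_mem _ hn) c hc
    rw [Equiv.Perm.mul_apply, Equiv.Perm.mul_apply, ht.2 _ h1]
    simp
  have hQT : Q ≤ pstab (nrm G Q) (fixF Q) := by
    intro q hq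
    refine ⟨mem_nrm.mpr ⟨hQG hq, fun h => ?_⟩, fun c hc => (mem_fixF.mp hc) q hq⟩
    constructor
    · intro hh
      exact Q.mul_mem (Q.mul_mem hq hh) (Q.inv_mem hq)
    · intro hh
      have : h = q⁻¹ * (q * h * q⁻¹) * q := by group
      rw [this]
      exact Q.mul_mem (Q.mul_mem (Q.inv_mem hq) hh) hq
  have hTN : pstab (nrm G Q) (fixF Q) ≤ nrm G Q := fun t ht => ht.1
  -- the closure lies in `N` and fixes `Θ` pointwise
  have hcl : Subgroup.closure ({x₁, x₂} : Set (Equiv.Perm α)) ≤ pstab (nrm G Q) Θ := by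
    rw [Subgroup.closure_le]
    rintro x (rfl | rfl)
    · exact ⟨h₁, fun c hc => hf₁ c (Finset.mem_insert_of_mem hc)⟩
    · exact ⟨h₂, fun c hc => hf₂ c (Finset.mem_insert_of_mem hc)⟩
  -- an element of `N` fixing `Θ` pointwise does not map `a` (or `b`) into `Θ`
  have hnotΘ : ∀ s ∈ pstab (nrm G Q) Θ, ∀ e : α, e ∉ Θ → s e ∉ Θ := by
    intro s hs e he hse
    have h1 := hs.2 _ hse
    exact he (s.injective h1 ▸ hse)
  -- the key computation: if `s x s⁻¹ y⁻¹ ∈ T` and `x e = e` then `y (s e) = s e`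
  have hkey : ∀ s ∈ nrm G Q, ∀ x y : Equiv.Perm α, y ∈ nrm G Q →
      s * x * s⁻¹ * y⁻¹ ∈ pstab (nrm G Q) (fixF Q) → ∀ e ∈ fixF Q, x e = e → y (s e) = s e := by
    intro s hs x y hy ht e he hxe
    have hse : s e ∈ fixF Q := hNΦ s hs e he
    have hyse : y (s e) ∈ fixF Q := hNΦ y hy _ hse
    have h1 := ht.2 _ hyse
    rw [Equiv.Perm.mul_apply, Equiv.Perm.mul_apply, Equiv.Perm.mul_apply] at h1
    have h2 : y⁻¹ (y (s e)) = s e := by simp
    have h3 : s⁻¹ (s e) = e := by simp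
    rw [h2, h3, hxe] at h1
    exact h1.symm
  rcases dihedral_mod (nrm G Q) (pstab (nrm G Q) (fixF Q)) hTN hnormT x₁ x₂ h₁ h₂ (hQT hx₁) (hQT hx₂)
    with ⟨s, hs, hss, hsx⟩ | ⟨z, hz, hzT, hzz, hzx₁, hzx₂⟩
  · -- odd branch
    have hsN : s ∈ nrm G Q := (hcl hs).1
    have hsa : s a ∈ fixF Q := hNΦ s hsN a ha
    have h1 : x₂ (s a) = s a :=
      hkey s hsN x₁ x₂ h₂ hsx a ha (hf₁ a (Finset.mem_insert_self a Θ))
    have h2 : s a ∈ insert b Θ := by
      by_contra hcon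
      exact hm₂ _ hsa hcon h1
    have h3 : s a = b := by
      rcases Finset.mem_insert.mp h2 with h | h
      · exact h
      · exact absurd h (hnotΘ s (hcl hs) a haΘ)
    refine ⟨s, (mem_nrm.mp hsN).1, h3, ?_, fun c hc => (hcl hs).2 c hc⟩
    rw [← h3]
    have := hss.2 a ha
    rwa [Equiv.Perm.mul_apply] at this
  · -- even branch: contradiction with maximality
    exfalso
    have hzN : z ∈ nrm G Q := (hcl hz).1
    have hza : z a = a := by
      have hza' : z a ∈ fixF Q := hNΦ z hzN a ha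
      have h1 : x₁ (z a) = z a :=
        hkey z hzN x₁ x₁ h₁ hzx₁ a ha (hf₁ a (Finset.mem_insert_self a Θ))
      have h2 : z a ∈ insert a Θ := by
        by_contra hcon
        exact hm₁ _ hza' hcon h1
      rcases Finset.mem_insert.mp h2 with h | h
      · exact h
      · exact absurd h (hnotΘ z (hcl hz) a haΘ)
    have hzb : z b = b := by
      have hzb' : z b ∈ fixF Q := hNΦ z hzN b hb
      have h1 : x₂ (z b) = z b :=
        hkey z hzN x₂ x₂ h₂ hzx₂ b hb (hf₂ b (Finset.mem_insert_self b Θ))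
      have h2 : z b ∈ insert b Θ := by
        by_contra hcon
        exact hm₂ _ hzb' hcon h1
      rcases Finset.mem_insert.mp h2 with h | h
      · exact h
      · exact absurd h (hnotΘ z (hcl hz) b hbΘ)
    -- the `(k+1)`-set
    have hΔc : (insert a (insert b Θ)).card = k + 1 := by
      rw [Finset.card_insert_of_notMem (by simp [hab, haΘ]), Finset.card_insert_of_notMem hbΘ]
      omega
    have hzΔ : z ∈ pstab G (insert a (insert b Θ)) := by
      refine ⟨(mem_nrm.mp hzN).1, fun c hc => ?_⟩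
      rcases Finset.mem_insert.mp hc with rfl | hc
      · exact hza
      · rcases Finset.mem_insert.mp hc with rfl | hc
        · exact hzb
        · exact (hcl hz).2 c hc
    have hQΔ : Q ≤ pstab G (insert a (insert b Θ)) := by
      intro q hq
      refine ⟨hQG hq, fun c hc => ?_⟩
      rcases Finset.mem_insert.mp hc with rfl | hc
      · exact (mem_fixF.mp ha) q hq
      · rcases Finset.mem_insert.mp hc with rfl | hc
        · exact (mem_fixF.mp hb) q hq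
        · exact (mem_fixF.mp (hΘ hc)) q hq
    obtain ⟨c, hc, e, hce⟩ := exists_odd_pow z
    -- `w = z ^ c ∉ T`
    have hwT : z ^ c ∉ pstab (nrm G Q) (fixF Q) := by
      intro hw
      obtain ⟨j, rfl⟩ := hc
      apply hzT
      have h1 : z = z ^ (2 * j + 1) * ((z * z) ^ j)⁻¹ := by
        rw [pow_succ', pow_mul, pow_two, mul_inv_cancel_right]
      rw [h1]
      exact Subgroup.mul_mem _ hw (Subgroup.inv_mem _ (Subgroup.pow_mem _ hzz j))
    have hwQ : z ^ c ∉ Q := fun h => hwT (hQT h)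
    have hwN : z ^ c ∈ nrm G Q := Subgroup.pow_mem _ hzN c
    have h2grp : IsPGroup 2 ↥(Q ⊔ Subgroup.zpowers (z ^ c)) :=
      isPGroup_sup_zpowers Q hQ2 (z ^ c) (mem_nrm.mp hwN).2 e hce
    have hle : Q ⊔ Subgroup.zpowers (z ^ c) ≤ pstab G (insert a (insert b Θ)) :=
      sup_le hQΔ ((Subgroup.zpowers_le).mpr (Subgroup.pow_mem _ hzΔ c))
    have hcard := hQmax _ _ hΔc hle h2grp
    have heq : Q = Q ⊔ Subgroup.zpowers (z ^ c) := Subgroup.eq_of_le_of_card_ge le_sup_left hcard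
    apply hwQ
    rw [heq]
    exact (le_sup_right : Subgroup.zpowers (z ^ c) ≤ Q ⊔ Subgroup.zpowers (z ^ c))
      (Subgroup.mem_zpowers _)

end Cfsg.Agent.Helper37.LWC7
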