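import Mathlib
import Cfsg.Agent.Lead.LWDefs

set_option autoImplicit false

namespace Cfsg.Agent.Helper37.LWG5

open Cfsg.Agent.Lead.LW
open scoped Pointwise

variable {α : Type*} [Fintype α] [DecidableEq α]

-- PIECE G5  (Sylow conjugacy, by cardinality):  `P = h P' h⁻¹` with `h ∈ L`
theorem sylow_conj_of_card {M : Type*} [Group M] [Finite M] (L P P' : Subgroup M)
    (hP : P ≤ L) (hP' : P' ≤ L) (hc : Nat.card P = 2 ^ (Nat.card L).factorization 2)
    (hc' : Nat.card P' = 2 ^ (Nat.card L).factorization 2) :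
    ∃ h ∈ L, ∀ g, g ∈ P ↔ h⁻¹ * g * h ∈ P' := by
  haveI : Fact (Nat.Prime 2) := ⟨Nat.prime_two⟩
  have hcS : Nat.card (P.subgroupOf L) = 2 ^ (Nat.card L).factorization 2 := by
    rw [Nat.card_congr (Subgroup.subgroupOfEquivOfLe hP).toEquiv, hc]
  have hcS' : Nat.card (P'.subgroupOf L) = 2 ^ (Nat.card L).factorization 2 := by
    rw [Nat.card_congr (Subgroup.subgroupOfEquivOfLe hP').toEquiv, hc']
  obtain ⟨h, hh⟩ := MulAction.exists_smul_eq ↥L (Sylow.ofCard (P'.subgroupOf L) hcS')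
    (Sylow.ofCard (P.subgroupOf L) hcS)
  have hh' : ∀ x : ↥L, x ∈ P.subgroupOf L ↔ h⁻¹ * x * h ∈ P'.subgroupOf L := by
    intro x
    have h1 : (P.subgroupOf L) = MulAut.conj h • (P'.subgroupOf L) := by
      have h2 := congrArg (fun S : Sylow 2 ↥L => (S : Subgroup ↥L)) hh
      have h3 : ((h • Sylow.ofCard (P'.subgroupOf L) hcS' : Sylow 2 ↥L) : Subgroup ↥L)
          = MulAut.conj h • (P'.subgroupOf L) := Sylow.pointwise_smul_def
      rw [← h3]
      exact h2.symm
    rw [h1, Subgroup.mem_pointwise_smul_iff_inv_smul_mem]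
    simp [MulAut.smul_def]
  refine ⟨(h : M), h.2, fun g => ?_⟩
  constructor
  · intro hg
    have := (hh' ⟨g, hP hg⟩).mp (Subgroup.mem_subgroupOf.mpr hg)
    exact Subgroup.mem_subgroupOf.mp this
  · intro hg
    have hgL : g ∈ L := by
      have h1 : (h : M)⁻¹ * g * h ∈ L := hP' hg
      have h2 : g = (h : M) * ((h : M)⁻¹ * g * h) * (h : M)⁻¹ := by group
      rw [h2]
      exact L.mul_mem (L.mul_mem h.2 h1) (L.inv_mem h.2)
    have := (hh' ⟨g, hgL⟩).mpr (Subgroup.mem_subgroupOf.mpr hg)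
    exact Subgroup.mem_subgroupOf.mp this

end Cfsg.Agent.Helper37.LWG5
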