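-- helper37 library: piece SCT (double) of helper48's CALL S0420.
import Mathlib
import Cfsg.Agent.Helper48.M11UGeo
import Cfsg.Agent.Helper48.M11UTri

set_option autoImplicit false
open scoped Pointwise

namespace Cfsg.Agent.Helper37

open Cfsg.Agent.Helper48.M11U

universe u
variable {G : Type u} [Group G] [Finite G]

theorem m11u_star_count (h : M11Gr G)
    (hcard : ∀ R S : Sylow 3 G, Adj R S → (star R S).ncard = 10)
    (htwo : ∀ (z : G) (R S T : Sylow 3 G), orderOf z = 2 → Inv z R → Inv z S → Inv z T →
      R ≠ S → R ≠ T → S ≠ T →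
      star R S ≠ star R T ∧ ∀ P P' : Sylow 3 G, Adj P P' → R ∈ star P P' →
        star P P' = star R S ∨ star P P' = star R T) :
    Nat.card {C : Set (Sylow 3 G) // ∃ R S : Sylow 3 G, Adj R S ∧ C = star R S} = 11 := by
  classical
  haveI : Fintype (Sylow 3 G) := Fintype.ofFinite _
  haveI : Fintype {C : Set (Sylow 3 G) // ∃ R S : Sylow 3 G, Adj R S ∧ C = star R S} :=
    Fintype.ofFinite _
  -- each star has 10 members
  have h10 : ∀ C : {C : Set (Sylow 3 G) // ∃ R S : Sylow 3 G, Adj R S ∧ C = star R S},
      (Finset.univ.filter (fun R : Sylow 3 G => R ∈ C.1)).card = 10 := by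
    intro C
    obtain ⟨R, S, hRS, hC⟩ := C.2
    have h1 : ((Finset.univ.filter (fun R : Sylow 3 G => R ∈ C.1) : Finset (Sylow 3 G)) :
        Set (Sylow 3 G)) = C.1 := by
      ext P
      simp
    rw [← Set.ncard_coe_finset, h1, hC]
    exact hcard R S hRS
  -- each Sylow 3-subgroup lies in exactly two stars
  have h2 : ∀ R : Sylow 3 G,
      (Finset.univ.filter (fun C : {C : Set (Sylow 3 G) //
        ∃ R S : Sylow 3 G, Adj R S ∧ C = star R S} => R ∈ C.1)).card = 2 := by
    intro R
    obtain ⟨z, S, T, hz, hR, hS, hT, hRS, hRT, hST, -⟩ := tri_exists' h.geo.l1 R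
    obtain ⟨hne, hall⟩ := htwo z R S T hz hR hS hT hRS hRT hST
    have hadjS : Adj R S := adj_of_tri hz hR hS hRS
    have hadjT : Adj R T := adj_of_tri hz hR hT hRT
    have hfil : Finset.univ.filter (fun C : {C : Set (Sylow 3 G) //
        ∃ R S : Sylow 3 G, Adj R S ∧ C = star R S} => R ∈ C.1)
        = {⟨star R S, R, S, hadjS, rfl⟩, ⟨star R T, R, T, hadjT, rfl⟩} := by
      ext C
      simp only [Finset.mem_filter, Finset.mem_univ, true_and, Finset.mem_insert,
        Finset.mem_singleton]
      constructor
      · intro hRC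
        obtain ⟨P, P', hPP', hC⟩ := C.2
        rw [hC] at hRC
        rcases hall P P' hPP' hRC with h3 | h3
        · left
          apply Subtype.ext
          rw [hC, h3]
        · right
          apply Subtype.ext
          rw [hC, h3]
      · rintro (rfl | rfl)
        · exact self_mem_star R S
        · exact self_mem_star R T
    rw [hfil]
    apply Finset.card_pair
    intro heq
    exact hne (congrArg Subtype.val heq)
  -- double counting
  have hdc : ∑ C : {C : Set (Sylow 3 G) // ∃ R S : Sylow 3 G, Adj R S ∧ C = star R S},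
      (Finset.univ.filter (fun R : Sylow 3 G => R ∈ C.1)).card
      = ∑ R : Sylow 3 G, (Finset.univ.filter (fun C : {C : Set (Sylow 3 G) //
        ∃ R S : Sylow 3 G, Adj R S ∧ C = star R S} => R ∈ C.1)).card := by
    simp only [Finset.card_filter]
    exact Finset.sum_comm
  simp only [h10, h2, Finset.sum_const, Finset.card_univ, smul_eq_mul] at hdc
  have h55 : Fintype.card (Sylow 3 G) = 55 := by
    rw [← Nat.card_eq_fintype_card]
    exact h.geo.l1.raw.num3
  rw [h55] at hdc
  rw [Nat.card_eq_fintype_card]
  omega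

end Cfsg.Agent.Helper37
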