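import Mathlib
import Cfsg.Agent.Helper60.NCDefs
import Cfsg.Agent.Helper10.NCSYLCENT
import Cfsg.Agent.Helper10.NCSYLN
import Cfsg.Agent.Helper47.NCSYLCONJ
import Cfsg.Agent.Helper5.NCUNION

set_option autoImplicit false
open Subgroup

namespace Cfsg.Agent.Helper37.NCCASEI
open Cfsg.Agent.Helper60.NC

variable {G : Type*} [Group G] [Finite G] {r : ℕ} [Fact r.Prime] {N : Subgroup G} {m : ℕ}

/-- CASEI (level 2: uses SYLCENT SYLN UNION SYLCONJ) -/
theorem case_i (hc : Ctx G r N m) (R : Sylow r G) (hRN : (R : Subgroup G) ≤ N)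
    (hR : ¬ (R : Subgroup G) ≤ center G) (hrm : ¬ r ∣ m) : Group.IsNilpotent N := by
  have hr : r.Prime := Fact.out
  haveI hNn : N.Normal := hc.nN
  -- step 1
  have h1 : ∀ v ∈ N, ¬ r ∣ (centralizer ({v} : Set G)).index := by
    intro v hv
    rcases hc.h v hv with h | h
    · rw [h]; exact hr.one_lt.ne' ∘ Nat.dvd_one.mp
    · rw [h]; exact hrm
  -- step 2, 3: N centralizes R
  have h3 : N ≤ centralizer ((R : Subgroup G) : Set G) ⊓ N := by
    apply Cfsg.Agent.Helper5.NCUNION.union_conj _ N inf_le_right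
    intro v hv
    obtain ⟨a, ha⟩ := Cfsg.Agent.Helper10.NCSYLCENT.syl_cent R (centralizer ({v} : Set G)) (h1 v hv)
    obtain ⟨n, hn, hn2⟩ := Cfsg.Agent.Helper10.NCSYLN.syl_n R N hRN a
    refine ⟨n, hn, Subgroup.mem_inf.2 ⟨?_, hNn.conj_mem v hv n⟩⟩
    rw [mem_centralizer_iff]
    intro g hg
    obtain ⟨g', hg', hgg⟩ := hn2 g hg
    have h2 : n⁻¹ * g * n ∈ centralizer ({v} : Set G) := by rw [hgg]; exact ha g' hg'
    rw [mem_centralizer_singleton_iff] at h2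
    calc g * (n * v * n⁻¹) = n * ((n⁻¹ * g * n) * v) * n⁻¹ := by group
      _ = n * (v * (n⁻¹ * g * n)) * n⁻¹ := by rw [h2]
      _ = n * v * n⁻¹ * g := by group
  have hNR : ∀ v ∈ N, ∀ g ∈ (R : Subgroup G), g * v = v * g := by
    intro v hv g hg
    have := (Subgroup.mem_inf.1 (h3 hv)).1
    rw [mem_centralizer_iff] at this
    exact this g hg
  -- step 4
  obtain ⟨x₀, hx₀R, hx₀Z⟩ := SetLike.not_le_iff_exists.1 hR
  have hx₀N : x₀ ∈ N := hRN hx₀R
  have hx₀r : ∃ k : ℕ, x₀ ^ r ^ k = 1 := by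
    obtain ⟨k, hk⟩ := R.isPGroup' ⟨x₀, hx₀R⟩
    exact ⟨k, congrArg Subtype.val hk⟩
  -- r-elements commute with N
  have hrel : ∀ s : G, (∃ k : ℕ, s ^ r ^ k = 1) → ∀ v ∈ N, s * v = v * s := by
    intro s hs v hv
    have hT : IsPGroup r (zpowers s) := by
      obtain ⟨k, hk⟩ := hs
      intro ⟨x, hx⟩
      refine ⟨k, ?_⟩
      obtain ⟨i, rfl⟩ := mem_zpowers_iff.1 hx
      apply Subtype.ext
      show (s ^ i) ^ r ^ k = 1
      rw [← zpow_natCast, ← zpow_mul, mul_comm, zpow_mul, zpow_natCast, hk, one_zpow]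
    obtain ⟨c, hcc⟩ := Cfsg.Agent.Helper47.NCSYLCONJ.syl_conj R (zpowers s) hT
    have hsR : c⁻¹ * s * c ∈ (R : Subgroup G) := hcc s (mem_zpowers s)
    have hvN : c⁻¹ * v * c ∈ N := by
      have := hNn.conj_mem v hv c⁻¹
      rwa [inv_inv] at this
    have h5 := hNR _ hvN _ hsR
    -- (c⁻¹ s c) (c⁻¹ v c) = (c⁻¹ v c) (c⁻¹ s c)
    calc s * v = c * ((c⁻¹ * s * c) * (c⁻¹ * v * c)) * c⁻¹ := by group
      _ = c * ((c⁻¹ * v * c) * (c⁻¹ * s * c)) * c⁻¹ := by rw [h5]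
      _ = v * s := by group
  -- r'-elements of N commute with N
  have hrel' : ∀ u ∈ N, (orderOf u).Coprime r → ∀ v ∈ N, u * v = v * u := by
    intro u hu hur v hv
    have hcomm : Commute x₀ u := hNR u hu x₀ hx₀R
    have hcop : (orderOf x₀).Coprime (orderOf u) := orderOf_coprime_of_pow hr hx₀r hur
    have h6 := hc.cop hx₀N hx₀Z hu hcomm hcop
    have h7 : v ∈ centralizer ({x₀} : Set G) := by
      rw [mem_centralizer_singleton_iff]; exact (hNR v hv x₀ hx₀R).symm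
    have h8 := h6 h7
    rw [mem_centralizer_singleton_iff] at h8
    exact h8.symm
  have hab : ∀ a ∈ N, ∀ b ∈ N, a * b = b * a := by
    intro a ha b hb
    obtain ⟨a₁, a₂, ha₁, ha₂, haa, ha₁r, ha₂r⟩ := split_r r a
    have hzle : zpowers a ≤ N := zpowers_le.2 ha
    have e1 := hrel a₁ ha₁r b hb
    have e2 := hrel' a₂ (hzle ha₂) ha₂r b hb
    rw [← haa, mul_assoc, e2, ← mul_assoc, e1, mul_assoc]
  letI cg : CommGroup N :=
    { (inferInstance : Group N) with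
      mul_comm := fun a b => Subtype.ext (hab a a.2 b b.2) }
  exact @CommGroup.isNilpotent N cg

end Cfsg.Agent.Helper37.NCCASEI
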