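import Mathlib
import Cfsg.Agent.Helper60.NCDefs
import Cfsg.Agent.Helper60.NCINDEXR

set_option autoImplicit false
open Subgroup

namespace Cfsg.Agent.Helper37.NCS2CASE
open Cfsg.Agent.Helper60.NC

variable {G : Type*} [Group G] [Finite G] {r : ℕ} [Fact r.Prime] {N : Subgroup G} {m : ℕ}

omit [Fact r.Prime] in
theorem s2case_relIndex_mul_card {H K : Subgroup G} (h : H ≤ K) :
    H.relIndex K * Nat.card H = Nat.card K := by
  have h1 := (H.subgroupOf K).index_mul_card
  rwa [Nat.card_congr (Subgroup.subgroupOfEquivOfLe h).toEquiv] at h1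

/-- S2CASE (level 2: uses INDEXR) -/
theorem s2_case (hc : Ctx G r N m) {y w : G} (hM : Mix G r N y w) (R' : Sylow r G)
    (hw : w ∈ (R' : Subgroup G))
    (hS2 : ¬ (R' : Subgroup G) ≤ normalizer (centralizer ({y} : Set G) : Set G)) :
    Nat.card ↥((R' : Subgroup G) ⊓ centralizer ({y} : Set G)) ≤
      r * Nat.card ↥((R' : Subgroup G) ⊓ center G) := by
  classical
  have hr : r.Prime := Fact.out
  have hCn : centralizer ({y} : Set G) ≤ normalizer (centralizer ({y} : Set G) : Set G) :=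
    le_normalizer
  have hnot : ¬ (R' : Subgroup G) ≤ centralizer ({y} : Set G) := fun h => hS2 (h.trans hCn)
  obtain ⟨g, hgR, hgn, hgC, hgr, hcos⟩ := Cfsg.Agent.Helper60.NCINDEXR.index_r hc hM R' hw hnot
  have hRr : ∀ t ∈ (R' : Subgroup G), ∃ k : ℕ, t ^ r ^ k = 1 := by
    intro t ht
    obtain ⟨k, hk⟩ := R'.isPGroup' ⟨t, ht⟩
    exact ⟨k, congrArg Subtype.val hk⟩
  obtain ⟨RK, hRK⟩ : ∃ RK : Subgroup G, RK = (R' : Subgroup G) ⊓ centralizer ({y} : Set G) :=
    ⟨_, rfl⟩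
  obtain ⟨R2, hR2⟩ : ∃ R2 : Subgroup G,
      R2 = (R' : Subgroup G) ⊓ normalizer (centralizer ({y} : Set G) : Set G) := ⟨_, rfl⟩
  have hRK2 : RK ≤ R2 := by rw [hRK, hR2]; exact inf_le_inf_left _ hCn
  have hRKmem : ∀ x, x ∈ RK ↔ x ∈ (R' : Subgroup G) ∧ x ∈ centralizer ({y} : Set G) := by
    intro x; rw [hRK]; exact Subgroup.mem_inf
  have hR2mem : ∀ x, x ∈ R2 ↔ x ∈ (R' : Subgroup G) ∧
      x ∈ normalizer (centralizer ({y} : Set G) : Set G) := by
    intro x; rw [hR2]; exact Subgroup.mem_inf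
  -- (1) card R2 ≤ r * card RK
  have hcard1 : Nat.card R2 ≤ r * Nat.card RK := by
    have key : ∀ t : R2, ∃ i : Fin r, ∃ c : RK, (t : G) = (c : G) * g ^ (i : ℕ) := by
      intro t
      have ht := (hR2mem t.1).1 t.2
      obtain ⟨i, hi, c, hcC, htc⟩ := hcos t.1 ht.1 ht.2
      have hcR : c ∈ (R' : Subgroup G) := by
        have h1 : c = (t : G) * (g ^ i)⁻¹ := by rw [htc, mul_inv_cancel_right]
        rw [h1]; exact mul_mem ht.1 (inv_mem (pow_mem hgR i))
      exact ⟨⟨i, hi⟩, ⟨c, (hRKmem c).2 ⟨hcR, hcC⟩⟩, htc⟩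
    choose fi fc hf using key
    have hinj : Function.Injective (fun t : R2 => (fi t, fc t)) := by
      intro t₁ t₂ h
      simp only [Prod.mk.injEq] at h
      apply Subtype.ext
      rw [hf t₁, hf t₂, h.1, h.2]
    have h1 := Nat.card_le_card_of_injective _ hinj
    rwa [Nat.card_prod, Nat.card_eq_fintype_card (α := Fin r), Fintype.card_fin] at h1
  -- (2) normalizer growth
  obtain ⟨t, htR, htR2, htn⟩ : ∃ t ∈ (R' : Subgroup G), t ∉ R2 ∧ ∀ h ∈ R2, t * h * t⁻¹ ∈ R2 := by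
    haveI : Group.IsNilpotent (R' : Subgroup G) := R'.isPGroup'.isNilpotent
    have hlt : R2.subgroupOf (R' : Subgroup G) < ⊤ := by
      rw [lt_top_iff_ne_top, Ne, subgroupOf_eq_top]
      intro h
      exact hS2 (fun x hx => ((hR2mem x).1 (h hx)).2)
    have hnc := Group.normalizerCondition_of_isNilpotent (G := (R' : Subgroup G)) _ hlt
    obtain ⟨x, hxn, hxH⟩ := SetLike.exists_of_lt hnc
    refine ⟨x, x.2, ?_, ?_⟩
    · intro hx; exact hxH (mem_subgroupOf.2 hx)
    · intro h hh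
      have h1 := (mem_normalizer_iff.1 hxn ⟨h, ((hR2mem h).1 hh).1⟩).1 (mem_subgroupOf.2 hh)
      exact mem_subgroupOf.1 h1
  -- (3) the conjugate
  obtain ⟨K', hK'⟩ : ∃ K' : Subgroup G, K' = RK.map (MulAut.conj t).toMonoidHom := ⟨_, rfl⟩
  have hK'mem : ∀ x, x ∈ K' ↔ ∃ c ∈ RK, t * c * t⁻¹ = x := by
    intro x
    rw [hK', Subgroup.mem_map]
    rfl
  have hK'R2 : K' ≤ R2 := by
    intro x hx
    obtain ⟨c, hcc, rfl⟩ := (hK'mem x).1 hx
    exact htn c (hRK2 hcc)
  have hK'card : Nat.card K' = Nat.card RK := by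
    rw [hK']
    exact Subgroup.card_map_of_injective (MulAut.conj t).injective
  -- (4) the intersection is central
  have hZ : RK ⊓ K' ≤ (R' : Subgroup G) ⊓ center G := by
    intro v hv
    obtain ⟨hvRK, hvK'⟩ := Subgroup.mem_inf.1 hv
    obtain ⟨c, hcRK, hcv⟩ := (hK'mem v).1 hvK'
    have hvRK' := (hRKmem v).1 hvRK
    have hcRK' := (hRKmem c).1 hcRK
    refine Subgroup.mem_inf.2 ⟨hvRK'.1, ?_⟩
    by_contra hvZ
    apply htR2
    refine (hR2mem t).2 ⟨htR, ?_⟩
    have hvN : v ∈ N := hc.hr v (hRr v hvRK'.1)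
    have hcN : c ∈ N := hc.hr c (hRr c hcRK'.1)
    have hcZ : c ∉ center G := by
      intro hcz
      apply hvZ
      rw [← hcv]
      have h1 : t * c * t⁻¹ = c := by rw [mem_center_iff.1 hcz t, mul_inv_cancel_right]
      rw [h1]; exact hcz
    have e1 : centralizer ({v} : Set G) = centralizer ({y} : Set G) :=
      hM.cen hc hvN hvRK'.2 hvZ
    have e2 : centralizer ({c} : Set G) = centralizer ({y} : Set G) :=
      hM.cen hc hcN hcRK'.2 hcZ
    rw [mem_normalizer_iff]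
    intro h
    have h3 : h ∈ centralizer ({c} : Set G) ↔ t * h * t⁻¹ ∈ centralizer ({v} : Set G) := by
      rw [mem_centralizer_singleton_iff, mem_centralizer_singleton_iff, ← hcv]
      constructor
      · intro hh
        calc t * h * t⁻¹ * (t * c * t⁻¹) = t * (h * c) * t⁻¹ := by group
          _ = t * (c * h) * t⁻¹ := by rw [hh]
          _ = t * c * t⁻¹ * (t * h * t⁻¹) := by group
      · intro hh
        have h4 : t * (h * c) * t⁻¹ = t * (c * h) * t⁻¹ := by
          calc t * (h * c) * t⁻¹ = t * h * t⁻¹ * (t * c * t⁻¹) := by group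
            _ = t * c * t⁻¹ * (t * h * t⁻¹) := hh
            _ = t * (c * h) * t⁻¹ := by group
        exact mul_left_cancel (mul_right_cancel h4)
    rw [e2, e1] at h3
    exact h3
  -- (5) counting
  have hRKpos : 0 < Nat.card RK := Nat.card_pos
  have a1 := s2case_relIndex_mul_card (inf_le_left : RK ⊓ K' ≤ RK)
  have a2 : (RK ⊓ K').relIndex RK = K'.relIndex RK := inf_relIndex_left RK K'
  have hne : K'.relIndex R2 ≠ 0 := by
    have := Nat.card_pos (α := R2)
    have h4 := s2case_relIndex_mul_card hK'R2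
    intro h0
    rw [h0, zero_mul] at h4
    omega
  have a3 : K'.relIndex RK ≤ K'.relIndex R2 := relIndex_le_of_le_right hRK2 hne
  have a4 := s2case_relIndex_mul_card hK'R2
  have a5 : K'.relIndex R2 ≤ r := by
    rw [hK'card] at a4
    have h6 : K'.relIndex R2 * Nat.card RK ≤ r * Nat.card RK := by rw [a4]; exact hcard1
    exact Nat.le_of_mul_le_mul_right h6 hRKpos
  have h5 : Nat.card RK ≤ r * Nat.card ↥(RK ⊓ K') := by
    rw [← a1, a2]
    exact Nat.mul_le_mul_right _ (a3.trans a5)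
  have h7 : Nat.card ↥(RK ⊓ K') ≤ Nat.card ↥((R' : Subgroup G) ⊓ center G) :=
    Subgroup.card_le_of_le hZ
  rw [← hRK]
  exact h5.trans (Nat.mul_le_mul_left _ h7)

end Cfsg.Agent.Helper37.NCS2CASE
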