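import Mathlib

set_option autoImplicit false
set_option linter.unusedVariables false

/-!
# CALL NP (helper13, row S5989), piece ARITH8 (helper37; double)
-/

namespace Cfsg.Agent.Helper37.NP5989

universe u

/-- ARITH8 [S-M, pure Nat]: `q` odd: `q^(d-1)` is odd, `q² ≡ 1 (mod 8)`, so `q^d ≡ 1` or `q (mod 8)`. -/
theorem np_arith8 (q d : ℕ) (hq : Odd q) (hd : 1 ≤ d) :
    (8 ∣ q ^ (d - 1) * (q ^ d - 1)) ↔ (Even d ∨ q % 8 = 1) := by
  have hcop : Nat.Coprime 8 (q ^ (d - 1)) := by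
    apply Nat.Coprime.pow_right
    have h2 : Nat.Coprime (2 ^ 3) q := Nat.Coprime.pow_left 3 (Nat.coprime_two_left.mpr hq)
    exact h2
  rw [Nat.Coprime.dvd_mul_left hcop]
  have hq8 : q % 8 = 1 ∨ q % 8 = 3 ∨ q % 8 = 5 ∨ q % 8 = 7 := by
    obtain ⟨k, hk⟩ := hq
    omega
  have hsq : q ^ 2 % 8 = 1 := by
    rw [Nat.pow_mod]
    rcases hq8 with h | h | h | h <;> rw [h]
  have hpos : 1 ≤ q ^ d := Nat.one_le_pow _ _ (by obtain ⟨k, hk⟩ := hq; omega)
  have hdvd : 8 ∣ q ^ d - 1 ↔ q ^ d % 8 = 1 := by omega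
  rw [hdvd]
  rcases Nat.even_or_odd d with ⟨k, hk⟩ | ⟨k, hk⟩
  · have h1 : q ^ d % 8 = 1 := by
      rw [hk, ← two_mul, pow_mul, Nat.pow_mod, hsq, one_pow]
      rfl
    constructor
    · intro _
      exact Or.inl ⟨k, hk⟩
    · intro _
      exact h1
  · have h1 : q ^ d % 8 = q % 8 := by
      rw [hk, pow_succ, pow_mul, Nat.mul_mod, Nat.pow_mod, hsq, one_pow]
      omega
    rw [h1]
    constructor
    · intro h
      exact Or.inr h
    · rintro (⟨j, hj⟩ | h)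
      · omega
      · exact h

end Cfsg.Agent.Helper37.NP5989
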