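import Mathlib

/-! `A_n` (`n ≥ 5`) and `S_n` (`n ≥ 4`) have no minimal cover by nilpotent subgroups (S3892). -/

namespace Cfsg.Agent.Helper37

open Equiv Equiv.Perm
open scoped Pointwise


/-- if two elements lie in no common nilpotent subgroup and every nilpotent subgroup containing one
of them lies in a fixed proper subgroup `K`, there is no minimal cover by nilpotent subgroups -/
theorem nilcov_two {G : Type*} [Group G] (K : Subgroup G) (hK : K ≠ ⊤) (c₁ c₂ : G)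
    (h1 : ∀ A : Subgroup G, Group.IsNilpotent A → (c₁ ∈ A ∨ c₂ ∈ A) → A ≤ K)
    (h2 : ∀ A : Subgroup G, Group.IsNilpotent A → c₁ ∈ A → c₂ ∈ A → False) :
    ¬ ∃ 𝓐 : Finset (Subgroup G), ((∀ A ∈ 𝓐, A ≠ ⊤) ∧ (∀ g : G, ∃ A ∈ 𝓐, g ∈ A)) ∧
      (∀ 𝓑 : Finset (Subgroup G), (∀ A ∈ 𝓑, A ≠ ⊤) ∧ (∀ g : G, ∃ A ∈ 𝓑, g ∈ A) →
        𝓐.card ≤ 𝓑.card) ∧ (∀ A ∈ 𝓐, Group.IsNilpotent ↥A) := by
  classical
  rintro ⟨𝓐, ⟨hprop, hcov⟩, hmin, hnil⟩
  obtain ⟨A₁, hA₁, hc₁⟩ := hcov c₁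
  obtain ⟨A₂, hA₂, hc₂⟩ := hcov c₂
  have hne : A₁ ≠ A₂ := by
    rintro rfl
    exact h2 A₁ (hnil A₁ hA₁) hc₁ hc₂
  have hA₁K : A₁ ≤ K := h1 A₁ (hnil A₁ hA₁) (Or.inl hc₁)
  have hA₂K : A₂ ≤ K := h1 A₂ (hnil A₂ hA₂) (Or.inr hc₂)
  set 𝓑 : Finset (Subgroup G) := insert K ((𝓐.erase A₁).erase A₂) with h𝓑
  have hB := hmin 𝓑 ⟨?_, ?_⟩
  · have hc1 : ((𝓐.erase A₁).erase A₂).card + 2 = 𝓐.card := by
      have e1 : A₂ ∈ 𝓐.erase A₁ := Finset.mem_erase.mpr ⟨hne.symm, hA₂⟩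
      have := Finset.card_erase_add_one e1
      have := Finset.card_erase_add_one hA₁
      omega
    have hc2 : 𝓑.card ≤ ((𝓐.erase A₁).erase A₂).card + 1 := Finset.card_insert_le _ _
    omega
  · intro A hA
    rw [h𝓑, Finset.mem_insert] at hA
    rcases hA with rfl | hA
    · exact hK
    · exact hprop A (Finset.mem_of_mem_erase (Finset.mem_of_mem_erase hA))
  · intro g
    obtain ⟨A, hA, hg⟩ := hcov g
    by_cases e1 : A = A₁
    · exact ⟨K, Finset.mem_insert_self _ _, hA₁K (e1 ▸ hg)⟩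
    · by_cases e2 : A = A₂
      · exact ⟨K, Finset.mem_insert_self _ _, hA₂K (e2 ▸ hg)⟩
      · refine ⟨A, ?_, hg⟩
        rw [h𝓑]
        exact Finset.mem_insert_of_mem
          (Finset.mem_erase.mpr ⟨e2, Finset.mem_erase.mpr ⟨e1, hA⟩⟩)

/-- in a nilpotent subgroup `A` of a finite group of order not divisible by `p²`, the Sylow
`p`-subgroup of `A` is generated by any element of order `p` -/
theorem nilcov_sylow_eq {G : Type*} [Group G] [Finite G] (A : Subgroup G) [Group.IsNilpotent A]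
    (p : ℕ) [Fact p.Prime] (hp2 : ¬ p ^ 2 ∣ Nat.card G) (c : G) (hc : c ∈ A)
    (hco : orderOf c = p) (P : Sylow p A) :
    (P : Subgroup A) = Subgroup.zpowers (⟨c, hc⟩ : A) := by
  have hpp : p.Prime := Fact.out
  have hco' : orderOf (⟨c, hc⟩ : A) = p := by rw [Subgroup.orderOf_mk]; exact hco
  have hcP : IsPGroup p (Subgroup.zpowers (⟨c, hc⟩ : A)) :=
    IsPGroup.of_card (n := 1) (by rw [Nat.card_zpowers, hco', pow_one])
  obtain ⟨Q, hQ⟩ := hcP.exists_le_sylow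
  obtain ⟨g, hg⟩ := MulAction.exists_smul_eq A Q P
  rw [Sylow.smul_eq_of_normal] at hg
  subst hg
  symm
  apply Subgroup.eq_of_le_of_card_ge hQ
  rw [Nat.card_zpowers, hco']
  obtain ⟨k, hk⟩ := IsPGroup.iff_card.mp Q.isPGroup'
  have hk' : Nat.card (Q : Subgroup A) = p ^ k := hk
  rw [hk']
  have hdvd : p ^ k ∣ Nat.card G := by
    rw [← hk']
    exact ((Q : Subgroup A).card_subgroup_dvd_card).trans (A.card_subgroup_dvd_card)
  have hk1 : k ≤ 1 := by
    by_contra hk2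
    exact hp2 ((pow_dvd_pow p (by omega)).trans hdvd)
  calc p ^ k ≤ p ^ 1 := Nat.pow_le_pow_right hpp.pos hk1
    _ = p := pow_one p

theorem nilcov_order_p_mem {G : Type*} [Group G] [Finite G] (A : Subgroup G)
    [Group.IsNilpotent A] (p : ℕ) [Fact p.Prime] (hp2 : ¬ p ^ 2 ∣ Nat.card G) (c d : G)
    (hc : c ∈ A) (hd : d ∈ A) (hco : orderOf c = p) (hdo : orderOf d = p) :
    d ∈ Subgroup.zpowers c := by
  let P : Sylow p A := default
  have h1 := nilcov_sylow_eq A p hp2 c hc hco P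
  have h2 := nilcov_sylow_eq A p hp2 d hd hdo P
  have h3 : (⟨d, hd⟩ : A) ∈ Subgroup.zpowers (⟨c, hc⟩ : A) := by
    rw [← h1, h2]; exact Subgroup.mem_zpowers _
  obtain ⟨i, hi⟩ := Subgroup.mem_zpowers_iff.mp h3
  refine Subgroup.mem_zpowers_iff.mpr ⟨i, ?_⟩
  have := congrArg Subtype.val hi
  simpa using this

/-- a nilpotent subgroup containing a self-centralizing element of order `p` is cyclic -/
theorem nilcov_le_zpowers {G : Type*} [Group G] [Finite G] (A : Subgroup G)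
    [Group.IsNilpotent A] (p : ℕ) [Fact p.Prime] (hp2 : ¬ p ^ 2 ∣ Nat.card G) (c : G)
    (hc : c ∈ A) (hco : orderOf c = p)
    (hcent : ∀ b ∈ A, b * c = c * b → b ∈ Subgroup.zpowers c) : A ≤ Subgroup.zpowers c := by
  have hpp : p.Prime := Fact.out
  let P : Sylow p A := default
  have hP := nilcov_sylow_eq A p hp2 c hc hco P
  have hcopP : (Nat.card (P : Subgroup A)).Coprime (P : Subgroup A).index := P.card_coprime_index
  obtain ⟨H, hH⟩ := Subgroup.exists_right_complement'_of_coprime hcopP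
  have hHcard : (P : Subgroup A).index = Nat.card H := hH.symm.index_eq_card
  let C : Subgroup A := Subgroup.centralizer ((P : Subgroup A) : Set A)
  have hHC : H ≤ C := by
    rw [← Subgroup.relIndex_eq_one]
    by_contra hd
    obtain ⟨q, hq, hqd⟩ := Nat.exists_prime_and_dvd hd
    haveI : Fact q.Prime := ⟨hq⟩
    have hqH : q ∣ Nat.card H := hqd.trans (Subgroup.relIndex_dvd_card C H)
    have hqC : q ∣ C.index := hqd.trans (Subgroup.relIndex_dvd_index_of_normal C H)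
    have hqp : q ≠ p := by
      rintro rfl
      rw [← hHcard] at hqH
      exact P.not_dvd_index hqH
    let Q : Sylow q A := default
    have hdis : Disjoint (Q : Subgroup A) (P : Subgroup A) :=
      IsPGroup.disjoint_of_ne q p hqp _ _ Q.isPGroup' P.isPGroup'
    have hQC : (Q : Subgroup A) ≤ C := by
      intro y hy
      rw [Subgroup.mem_centralizer_iff]
      intro u hu
      exact (Subgroup.commute_of_normal_of_disjoint _ _ inferInstance inferInstance hdis y u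
        hy hu).eq.symm
    have h3 : q ∣ (Q : Subgroup A).index := hqC.trans (Subgroup.index_dvd_of_le hQC)
    exact Q.not_dvd_index h3
  intro g hg
  obtain ⟨⟨a, b⟩, hab⟩ := hH.2 (⟨g, hg⟩ : A)
  have hab' : (a : A) * (b : A) = ⟨g, hg⟩ := hab
  have ha : (a : A) ∈ Subgroup.zpowers (⟨c, hc⟩ : A) := by rw [← hP]; exact a.2
  have hcP : (⟨c, hc⟩ : A) ∈ (P : Subgroup A) := by rw [hP]; exact Subgroup.mem_zpowers _
  have hbc : (b : A) * ⟨c, hc⟩ = ⟨c, hc⟩ * (b : A) :=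
    ((Subgroup.mem_centralizer_iff.mp (hHC b.2)) _ hcP).symm
  have hbc' : ((b : A) : G) * c = c * ((b : A) : G) := congrArg Subtype.val hbc
  have hb := hcent _ (b : A).2 hbc'
  obtain ⟨i, hi⟩ := Subgroup.mem_zpowers_iff.mp ha
  have hg' : g = c ^ i * ((b : A) : G) := by
    have := congrArg Subtype.val hab'
    rw [← hi] at this
    simpa using this.symm
  rw [hg']
  exact mul_mem (Subgroup.zpow_mem_zpowers c i) hb







theorem nilcov_not_sq_dvd (n p : ℕ) (hp : p.Prime) (hpn : p ≤ n) (hn2p : n < 2 * p) :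
    ¬ p ^ 2 ∣ n.factorial := by
  have hlog : Nat.log p n < 2 := by
    apply Nat.log_lt_of_lt_pow (by have := hp.pos; omega)
    have := hp.two_le
    nlinarith
  rw [hp.pow_dvd_factorial_iff hlog]
  have hdiv : n / p = 1 := Nat.div_eq_of_lt_le (by omega) (by omega)
  simp [hdiv]

theorem nilcov_generic {G : Type*} [Group G] (n p : ℕ) [Fact p.Prime] (hp5 : 5 ≤ p)
    (hpn : p < n) (hn2p : n < 2 * p) (ι : G →* Perm (Fin n)) (hι : Function.Injective ι)
    (hrange : ∀ σ ∈ alternatingGroup (Fin n), σ ∈ ι.range) :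
    ¬ ∃ 𝓐 : Finset (Subgroup G), ((∀ A ∈ 𝓐, A ≠ ⊤) ∧ (∀ g : G, ∃ A ∈ 𝓐, g ∈ A)) ∧
      (∀ 𝓑 : Finset (Subgroup G), (∀ A ∈ 𝓑, A ≠ ⊤) ∧ (∀ g : G, ∃ A ∈ 𝓑, g ∈ A) →
        𝓐.card ≤ 𝓑.card) ∧ (∀ A ∈ 𝓐, Group.IsNilpotent ↥A) := by
  have hpp : p.Prime := Fact.out
  haveI : Finite G := Finite.of_injective ι hι
  obtain ⟨m, rfl⟩ : ∃ m, n = m + 1 := ⟨n - 1, by omega⟩
  set a0 : Fin (m + 1) := ⟨0, by omega⟩ with ha0
  set a1 : Fin (m + 1) := ⟨1, by omega⟩ with ha1
  set a2 : Fin (m + 1) := ⟨2, by omega⟩ with ha2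
  set z : Fin (m + 1) := ⟨m, by omega⟩ with hz
  have h01 : a0 ≠ a1 := by simp [ha0, ha1, Fin.ext_iff]
  have h02 : a0 ≠ a2 := by simp [ha0, ha2, Fin.ext_iff]
  have h12 : a1 ≠ a2 := by simp [ha1, ha2, Fin.ext_iff]
  have h0z : a0 ≠ z := by simp [ha0, hz, Fin.ext_iff]; omega
  have h1z : a1 ≠ z := by simp [ha1, hz, Fin.ext_iff]; omega
  set i : Fin (m + 1) := ⟨p - 1, by omega⟩ with hi
  have hi0 : i ≠ 0 := by
    intro h0
    have := congrArg Fin.val h0
    simp [hi] at this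
    omega
  set σ₁ := Fin.cycleRange i with hσ₁
  have hct : σ₁.cycleType = {p} := by
    rw [hσ₁, Fin.cycleType_cycleRange hi0]
    congr 1
    simp [hi]; omega
  have hσ₁ord : orderOf σ₁ = p := by
    rw [← lcm_cycleType, hct]; simp
  have hσ₁A : σ₁ ∈ alternatingGroup (Fin (m + 1)) := by
    rw [mem_alternatingGroup, hσ₁, Fin.sign_cycleRange]
    have : Even (i : ℕ) := by
      have hodd : Odd p := hpp.odd_of_ne_two (by omega)
      simp only [hi]
      obtain ⟨t, ht⟩ := hodd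
      exact ⟨t, by omega⟩
    exact this.neg_one_pow
  have hσ₁z : σ₁ z = z := by
    rw [hσ₁]
    apply Fin.cycleRange_of_gt
    rw [Fin.lt_def]; simp [hi, hz]; omega
  have hσ₁0 : σ₁ a0 = a1 := by
    apply Fin.ext
    rw [hσ₁, Fin.coe_cycleRange_of_lt (by rw [Fin.lt_def]; simp [hi, ha0]; omega)]
  have hσ₁1 : σ₁ a1 = a2 := by
    apply Fin.ext
    rw [hσ₁, Fin.coe_cycleRange_of_lt (by rw [Fin.lt_def]; simp [hi, ha1]; omega)]
  set s := swap a0 a1 with hs
  have hss : s⁻¹ = s := swap_inv a0 a1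
  set σ₂ := s * σ₁ * s⁻¹ with hσ₂
  have hσ₂A : σ₂ ∈ alternatingGroup (Fin (m + 1)) := by
    rw [mem_alternatingGroup, hσ₂, map_mul, map_mul, map_inv, mul_right_comm, mul_inv_cancel,
      one_mul]
    exact hσ₁A
  have hσ₂ord : orderOf σ₂ = p := by
    have e : s * σ₁ * s⁻¹ = MulAut.conj s σ₁ := by rw [MulAut.conj_apply]
    rw [hσ₂, e, MulEquiv.orderOf_eq]; exact hσ₁ord
  have hprod : σ₂ * σ₁⁻¹ = swap a1 a0 * swap a1 a2 := by
    rw [hσ₂, hss, mul_assoc s σ₁ s, Equiv.mul_swap_eq_swap_mul σ₁ a0 a1, hσ₁0, hσ₁1, ← mul_assoc,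
      mul_assoc (s * swap a1 a2), mul_inv_cancel, mul_one, hs, swap_comm a0 a1]
  obtain ⟨c₁, hc₁⟩ := hrange σ₁ hσ₁A
  obtain ⟨c₂, hc₂⟩ := hrange σ₂ hσ₂A
  have hc₁ord : orderOf c₁ = p := by
    rw [← orderOf_injective ι hι c₁, hc₁]; exact hσ₁ord
  have hc₂ord : orderOf c₂ = p := by
    rw [← orderOf_injective ι hι c₂, hc₂]; exact hσ₂ord
  have hp2 : ¬ p ^ 2 ∣ Nat.card G := by
    intro hd
    have h1 := Subgroup.card_dvd_of_injective ι hι
    have h0 : Nat.card (Fin (m + 1)) = m + 1 := by rw [Nat.card_eq_fintype_card, Fintype.card_fin]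
    rw [Nat.card_perm, h0] at h1
    exact nilcov_not_sq_dvd (m + 1) p hpp hpn.le hn2p (hd.trans h1)
  -- stabilizer lemma
  have Lstab : ∀ (A : Subgroup G), Group.IsNilpotent A → ∀ c ∈ A, orderOf c = p → ∀ x ∈ A,
      ι x ∈ MulAction.stabilizer (Perm (Fin (m + 1))) {y | ι c y ≠ y} := by
    intro A hA c hc hco x hx
    haveI := hA
    have T : ∀ w ∈ A, ∀ b, ι c b ≠ b → ι c (ι w b) ≠ ι w b := by
      intro w hw b hb
      have hd : w * c * w⁻¹ ∈ A := mul_mem (mul_mem hw hc) (inv_mem hw)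
      have hdo : orderOf (w * c * w⁻¹) = p := by
        have e : w * c * w⁻¹ = MulAut.conj w c := by rw [MulAut.conj_apply]
        rw [e, MulEquiv.orderOf_eq]; exact hco
      have hmem := nilcov_order_p_mem A p hp2 c (w * c * w⁻¹) hc hd hco hdo
      obtain ⟨k, hk⟩ := Subgroup.mem_zpowers_iff.mp hmem
      intro hfix
      have h1 : (ι c ^ k) (ι w b) = ι w b := zpow_apply_eq_self_of_apply_eq_self hfix k
      have h2 : ι (c ^ k) = ι w * ι c * (ι w)⁻¹ := by rw [hk]; simp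
      rw [← map_zpow, h2] at h1
      have e : (ι w)⁻¹ ((ι w) b) = b := by simp
      rw [Perm.mul_apply, Perm.mul_apply, e] at h1
      exact hb ((ι w).injective h1)
    rw [MulAction.mem_stabilizer_set]
    intro b
    constructor
    · intro hb
      have := T x⁻¹ (inv_mem hx) (ι x b) hb
      have e : (ι x)⁻¹ ((ι x) b) = b := by simp
      rw [map_inv, e] at this
      exact this
    · intro hb
      exact T x hx b hb
  set S : Set (Fin (m + 1)) := {y | σ₁ y ≠ y} with hS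
  have ha0S : a0 ∈ S := by
    show σ₁ a0 ≠ a0
    rw [hσ₁0]; exact h01.symm
  have ha1S : a1 ∈ S := by
    show σ₁ a1 ≠ a1
    rw [hσ₁1]; exact h12.symm
  have hS₂ : {y | σ₂ y ≠ y} = S := by
    ext y
    have hsy : (s y ∈ S ↔ y ∈ S) := by
      by_cases hy0 : y = a0
      · rw [hy0, hs, swap_apply_left]
        exact ⟨fun _ => ha0S, fun _ => ha1S⟩
      · by_cases hy1 : y = a1
        · rw [hy1, hs, swap_apply_right]
          exact ⟨fun _ => ha1S, fun _ => ha0S⟩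
        · rw [hs, swap_apply_of_ne_of_ne hy0 hy1]
    rw [← hsy]
    show σ₂ y ≠ y ↔ σ₁ (s y) ≠ s y
    rw [hσ₂, hss]
    simp only [Perm.mul_apply]
    constructor
    · intro h h'
      apply h
      rw [h', hs, swap_apply_self]
    · intro h h'
      apply h
      have := congrArg s h'
      rw [hs, swap_apply_self] at this
      exact this
  set K : Subgroup G := (MulAction.stabilizer (Perm (Fin (m + 1))) S).comap ι with hK
  have hKtop : K ≠ ⊤ := by
    intro htop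
    have hτ : swap a0 z * swap a0 a1 ∈ alternatingGroup (Fin (m + 1)) := by
      rw [mem_alternatingGroup, map_mul, sign_swap h0z, sign_swap h01]; rfl
    obtain ⟨g, hg⟩ := hrange _ hτ
    have hgK : g ∈ K := by rw [htop]; trivial
    rw [hK, Subgroup.mem_comap, hg, MulAction.mem_stabilizer_set] at hgK
    have h1 := (hgK z).mp (by
      show (swap a0 z * swap a0 a1) z ∈ S
      rw [Perm.mul_apply, swap_apply_of_ne_of_ne h0z.symm h1z.symm, swap_apply_right]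
      exact ha0S)
    exact h1 hσ₁z
  apply nilcov_two K hKtop c₁ c₂
  · intro A hA hcc x hx
    rw [hK, Subgroup.mem_comap]
    rcases hcc with h | h
    · have := Lstab A hA c₁ h hc₁ord x hx
      rw [hc₁] at this
      exact this
    · have := Lstab A hA c₂ h hc₂ord x hx
      rw [hc₂, hS₂] at this
      exact this
  · intro A hA h1 h2
    haveI := hA
    have hmem := nilcov_order_p_mem A p hp2 c₁ c₂ h1 h2 hc₁ord hc₂ord
    obtain ⟨k, hk⟩ := Subgroup.mem_zpowers_iff.mp hmem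
    have hk' : σ₁ ^ k = σ₂ := by rw [← hc₁, ← hc₂, ← map_zpow, hk]
    have h3 : (σ₂ * σ₁⁻¹) ^ p = 1 := by
      rw [← hk', ← zpow_sub_one, ← zpow_natCast, ← zpow_mul, mul_comm, zpow_mul, zpow_natCast,
        ← hσ₁ord, pow_orderOf_eq_one, one_zpow]
    have h3c : IsThreeCycle (swap a1 a0 * swap a1 a2) :=
      isThreeCycle_swap_mul_swap_same h01.symm h12 h02
    have h4 := orderOf_dvd_of_pow_eq_one h3
    rw [hprod, h3c.orderOf] at h4
    have := (Nat.prime_dvd_prime_iff_eq Nat.prime_three hpp).mp h4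
    omega









theorem nilcov_sym_small (n p : ℕ) [Fact p.Prime] (hp2 : p ≠ 2) (hnp : n ≤ p + 1)
    (hp2n : ¬ p ^ 2 ∣ n.factorial) (c₁ c₂ : Perm (Fin n)) (h1 : c₁.cycleType = {p})
    (h2 : c₂.cycleType = {p}) (hne : c₂ ∉ Subgroup.zpowers c₁) :
    ¬ ∃ 𝓐 : Finset (Subgroup (Perm (Fin n))), ((∀ A ∈ 𝓐, A ≠ ⊤) ∧
      (∀ g : Perm (Fin n), ∃ A ∈ 𝓐, g ∈ A)) ∧
      (∀ 𝓑 : Finset (Subgroup (Perm (Fin n))), (∀ A ∈ 𝓑, A ≠ ⊤) ∧
        (∀ g : Perm (Fin n), ∃ A ∈ 𝓑, g ∈ A) → 𝓐.card ≤ 𝓑.card) ∧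
      (∀ A ∈ 𝓐, Group.IsNilpotent ↥A) := by
  have hpp : p.Prime := Fact.out
  have hpn : p ≤ n := by
    have : c₁.cycleType.sum ≤ Fintype.card (Fin n) := by
      rw [sum_cycleType]; exact Finset.card_le_univ _
    rw [h1] at this
    simpa using this
  haveI : Nontrivial (Fin n) := Fin.nontrivial_iff_two_le.mpr (by have := hpp.two_le; omega)
  have hcardG : ¬ p ^ 2 ∣ Nat.card (Perm (Fin n)) := by
    have h0 : Nat.card (Fin n) = n := by rw [Nat.card_eq_fintype_card, Fintype.card_fin]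
    rw [Nat.card_perm, h0]; exact hp2n
  have hord : ∀ c : Perm (Fin n), c.cycleType = {p} → orderOf c = p := by
    intro c hc
    rw [← lcm_cycleType, hc]; simp
  have hsign : ∀ c : Perm (Fin n), c.cycleType = {p} → c ∈ alternatingGroup (Fin n) := by
    intro c hc
    rw [mem_alternatingGroup, sign_of_cycleType, hc]
    have hodd : Odd p := hpp.odd_of_ne_two hp2
    have : Even (p + 1) := hodd.add_one
    simpa using this.neg_one_pow
  have hcent : ∀ c : Perm (Fin n), c.cycleType = {p} →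
      ∀ b : Perm (Fin n), b * c = c * b → b ∈ Subgroup.zpowers c := by
    intro c hc b hb
    have hcard : Nat.card (Subgroup.centralizer ({c} : Set (Perm (Fin n)))) = p := by
      rw [nat_card_centralizer, hc]
      have h0 : (n - p).factorial = 1 := by
        have : n - p = 0 ∨ n - p = 1 := by omega
        rcases this with h | h <;> rw [h] <;> rfl
      simp [h0]
    have hle : Subgroup.zpowers c ≤ Subgroup.centralizer ({c} : Set (Perm (Fin n))) := by
      rw [Subgroup.zpowers_le, Subgroup.mem_centralizer_iff]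
      intro h hh
      rw [Set.mem_singleton_iff] at hh
      rw [hh]
    have heq := Subgroup.eq_of_le_of_card_ge hle (by rw [hcard, Nat.card_zpowers, hord c hc])
    rw [heq, Subgroup.mem_centralizer_iff]
    intro h hh
    rw [Set.mem_singleton_iff] at hh
    rw [hh]; exact hb.symm
  have hK : alternatingGroup (Fin n) ≠ ⊤ := by
    intro h
    have := alternatingGroup.index_eq_two (α := Fin n)
    rw [h, Subgroup.index_top] at this
    omega
  apply nilcov_two (alternatingGroup (Fin n)) hK c₁ c₂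
  · intro A hA hcc
    haveI := hA
    rcases hcc with h | h
    · refine (nilcov_le_zpowers A p hcardG c₁ h (hord c₁ h1) (fun b _ => hcent c₁ h1 b)).trans ?_
      rw [Subgroup.zpowers_le]; exact hsign c₁ h1
    · refine (nilcov_le_zpowers A p hcardG c₂ h (hord c₂ h2) (fun b _ => hcent c₂ h2 b)).trans ?_
      rw [Subgroup.zpowers_le]; exact hsign c₂ h2
  · intro A hA hc1 hc2
    haveI := hA
    exact hne (nilcov_order_p_mem A p hcardG c₁ c₂ hc1 hc2 (hord c₁ h1) (hord c₂ h2))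

theorem nilcov_sym4 :
    ¬ ∃ 𝓐 : Finset (Subgroup (Perm (Fin 4))), ((∀ A ∈ 𝓐, A ≠ ⊤) ∧
      (∀ g : Perm (Fin 4), ∃ A ∈ 𝓐, g ∈ A)) ∧
      (∀ 𝓑 : Finset (Subgroup (Perm (Fin 4))), (∀ A ∈ 𝓑, A ≠ ⊤) ∧
        (∀ g : Perm (Fin 4), ∃ A ∈ 𝓑, g ∈ A) → 𝓐.card ≤ 𝓑.card) ∧
      (∀ A ∈ 𝓐, Group.IsNilpotent ↥A) := by
  haveI : Fact (Nat.Prime 3) := ⟨Nat.prime_three⟩
  have h1 : IsThreeCycle (swap (1 : Fin 4) 0 * swap 1 2) :=
    isThreeCycle_swap_mul_swap_same (by decide) (by decide) (by decide)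
  have h2 : IsThreeCycle (swap (1 : Fin 4) 0 * swap 1 3) :=
    isThreeCycle_swap_mul_swap_same (by decide) (by decide) (by decide)
  apply nilcov_sym_small 4 3 (by decide) (by decide) (by decide) _ _ h1 h2
  intro hmem
  obtain ⟨k, hk⟩ := Subgroup.mem_zpowers_iff.mp hmem
  have hfix : (swap (1 : Fin 4) 0 * swap 1 2 : Perm (Fin 4)) 3 = 3 := by decide
  have h3 : ((swap (1 : Fin 4) 0 * swap 1 2 : Perm (Fin 4)) ^ k) 3 = 3 :=
    zpow_apply_eq_self_of_apply_eq_self hfix k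
  rw [hk] at h3
  exact absurd h3 (by decide)

theorem nilcov_sym5 :
    ¬ ∃ 𝓐 : Finset (Subgroup (Perm (Fin 5))), ((∀ A ∈ 𝓐, A ≠ ⊤) ∧
      (∀ g : Perm (Fin 5), ∃ A ∈ 𝓐, g ∈ A)) ∧
      (∀ 𝓑 : Finset (Subgroup (Perm (Fin 5))), (∀ A ∈ 𝓑, A ≠ ⊤) ∧
        (∀ g : Perm (Fin 5), ∃ A ∈ 𝓑, g ∈ A) → 𝓐.card ≤ 𝓑.card) ∧
      (∀ A ∈ 𝓐, Group.IsNilpotent ↥A) := by
  haveI : Fact (Nat.Prime 5) := ⟨Nat.prime_five⟩
  have h1 : (finRotate 5).cycleType = {5} := cycleType_finRotate (n := 3)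
  have h2 : (swap (0 : Fin 5) 1 * finRotate 5 * (swap (0 : Fin 5) 1)⁻¹).cycleType = {5} := by
    rw [cycleType_conj]; exact h1
  apply nilcov_sym_small 5 5 (by decide) (by decide) (by decide) _ _ h1 h2
  intro hmem
  obtain ⟨k, hk⟩ := Subgroup.mem_zpowers_iff.mp hmem
  have hcomm : (swap (0 : Fin 5) 1 * finRotate 5 * (swap (0 : Fin 5) 1)⁻¹) * finRotate 5
      = finRotate 5 * (swap (0 : Fin 5) 1 * finRotate 5 * (swap (0 : Fin 5) 1)⁻¹) := by
    rw [← hk]
    exact ((Commute.refl (finRotate 5)).zpow_left k).eq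
  have := congrArg (fun f : Perm (Fin 5) => f 0) hcomm
  revert this
  decide









/-- the centralizer in `A_5` of a 3-cycle is generated by it -/
theorem nilcov_alt5_cent (σ t : Perm (Fin 5)) (hσ : IsThreeCycle σ) (ht : sign t = -1)
    (htσ : t * σ = σ * t) (b : Perm (Fin 5)) (hb : b ∈ alternatingGroup (Fin 5))
    (hbσ : b * σ = σ * b) : b ∈ Subgroup.zpowers σ := by
  set A := alternatingGroup (Fin 5) with hA
  set C := Subgroup.centralizer ({σ} : Set (Perm (Fin 5))) with hC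
  have hmemC : ∀ x : Perm (Fin 5), x ∈ C ↔ x * σ = σ * x := by
    intro x
    rw [hC, Subgroup.mem_centralizer_iff]
    constructor
    · intro h; exact (h σ (Set.mem_singleton σ)).symm
    · intro h y hy
      rw [Set.mem_singleton_iff] at hy
      rw [hy]; exact h.symm
  have hcardC : Nat.card C = 6 := by
    rw [hC, nat_card_centralizer, hσ.cycleType]
    simp
  have hsup : C ⊔ A = ⊤ := by
    rw [eq_top_iff]
    intro g _
    by_cases hg : g ∈ A
    · exact Subgroup.mem_sup_right hg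
    · have hsg : sign g = -1 := by
        rcases Int.units_eq_one_or (sign g) with h | h
        · exact absurd (mem_alternatingGroup.mpr h) hg
        · exact h
      have h1 : t⁻¹ * g ∈ A := by
        rw [hA, mem_alternatingGroup, map_mul, map_inv, ht, hsg]; rfl
      have h2 : g = t * (t⁻¹ * g) := by group
      rw [h2]
      exact Subgroup.mul_mem_sup ((hmemC t).mpr htσ) h1
  have h2 : (A.subgroupOf C).index = 2 := by
    have : A.relIndex C = A.relIndex (C ⊔ A) := (Subgroup.relIndex_sup_right C A).symm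
    rw [hsup, Subgroup.relIndex_top_right, hA, alternatingGroup.index_eq_two] at this
    exact this
  have h3 := (A.subgroupOf C).index_mul_card
  rw [h2, hcardC] at h3
  have h4 : Nat.card (A.subgroupOf C) = Nat.card ((A ⊓ C : Subgroup (Perm (Fin 5)))) := by
    rw [← Subgroup.inf_subgroupOf_right]
    exact Nat.card_congr (Subgroup.subgroupOfEquivOfLe inf_le_right).toEquiv
  have h5 : Nat.card ((A ⊓ C : Subgroup (Perm (Fin 5)))) = 3 := by omega
  have hle : Subgroup.zpowers σ ≤ A ⊓ C := by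
    rw [Subgroup.zpowers_le]
    exact ⟨mem_alternatingGroup.mpr hσ.sign, (hmemC σ).mpr rfl⟩
  have heq := Subgroup.eq_of_le_of_card_ge hle (by rw [h5, Nat.card_zpowers, hσ.orderOf])
  rw [heq]
  exact ⟨hb, (hmemC b).mpr hbσ⟩

theorem nilcov_alt5 :
    ¬ ∃ 𝓐 : Finset (Subgroup ↥(alternatingGroup (Fin 5))), ((∀ A ∈ 𝓐, A ≠ ⊤) ∧
      (∀ g : ↥(alternatingGroup (Fin 5)), ∃ A ∈ 𝓐, g ∈ A)) ∧
      (∀ 𝓑 : Finset (Subgroup ↥(alternatingGroup (Fin 5))), (∀ A ∈ 𝓑, A ≠ ⊤) ∧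
        (∀ g : ↥(alternatingGroup (Fin 5)), ∃ A ∈ 𝓑, g ∈ A) → 𝓐.card ≤ 𝓑.card) ∧
      (∀ A ∈ 𝓐, Group.IsNilpotent ↥A) := by
  haveI : Fact (Nat.Prime 3) := ⟨Nat.prime_three⟩
  have hσ₁ : IsThreeCycle (swap (1 : Fin 5) 0 * swap 1 2) :=
    isThreeCycle_swap_mul_swap_same (by decide) (by decide) (by decide)
  have hσ₂ : IsThreeCycle (swap (1 : Fin 5) 0 * swap 1 3) :=
    isThreeCycle_swap_mul_swap_same (by decide) (by decide) (by decide)
  set c₁ : ↥(alternatingGroup (Fin 5)) :=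
    ⟨swap (1 : Fin 5) 0 * swap 1 2, mem_alternatingGroup.mpr hσ₁.sign⟩ with hc₁
  set c₂ : ↥(alternatingGroup (Fin 5)) :=
    ⟨swap (1 : Fin 5) 0 * swap 1 3, mem_alternatingGroup.mpr hσ₂.sign⟩ with hc₂
  have hc₁o : orderOf c₁ = 3 := by rw [hc₁, Subgroup.orderOf_mk]; exact hσ₁.orderOf
  have hc₂o : orderOf c₂ = 3 := by rw [hc₂, Subgroup.orderOf_mk]; exact hσ₂.orderOf
  have hcardG : ¬ 3 ^ 2 ∣ Nat.card ↥(alternatingGroup (Fin 5)) := by
    intro hd
    have h1 := two_mul_nat_card_alternatingGroup (α := Fin 5)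
    have h0 : Nat.card (Fin 5) = 5 := by rw [Nat.card_eq_fintype_card, Fintype.card_fin]
    rw [Nat.card_perm, h0] at h1
    have h2 : (3 ^ 2) ∣ Nat.factorial 5 := by
      rw [← h1]; exact Dvd.dvd.mul_left hd 2
    exact absurd h2 (by decide)
  set K : Subgroup ↥(alternatingGroup (Fin 5)) :=
    MulAction.stabilizer ↥(alternatingGroup (Fin 5)) (4 : Fin 5) with hK
  have hKtop : K ≠ ⊤ := by
    intro htop
    have hmem : swap (0 : Fin 5) 4 * swap 0 1 ∈ alternatingGroup (Fin 5) := by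
      rw [mem_alternatingGroup, map_mul, sign_swap (by decide), sign_swap (by decide)]; rfl
    have : (⟨swap (0 : Fin 5) 4 * swap 0 1, hmem⟩ : ↥(alternatingGroup (Fin 5))) ∈ K := by
      rw [htop]; trivial
    rw [hK, MulAction.mem_stabilizer_iff] at this
    have h2 : (swap (0 : Fin 5) 4 * swap 0 1 : Perm (Fin 5)) 4 = 4 := this
    exact absurd h2 (by decide)
  have hcent : ∀ (c : ↥(alternatingGroup (Fin 5))) (t : Perm (Fin 5)), IsThreeCycle (c : Perm (Fin 5)) →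
      sign t = -1 → t * (c : Perm (Fin 5)) = (c : Perm (Fin 5)) * t →
      ∀ b : ↥(alternatingGroup (Fin 5)), b * c = c * b → b ∈ Subgroup.zpowers c := by
    intro c t hc ht htc b hbc
    have hbc' : (b : Perm (Fin 5)) * (c : Perm (Fin 5)) = (c : Perm (Fin 5)) * (b : Perm (Fin 5)) :=
      congrArg Subtype.val hbc
    obtain ⟨k, hk⟩ := Subgroup.mem_zpowers_iff.mp
      (nilcov_alt5_cent (c : Perm (Fin 5)) t hc ht htc (b : Perm (Fin 5)) b.2 hbc')
    refine Subgroup.mem_zpowers_iff.mpr ⟨k, ?_⟩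
    apply Subtype.ext
    rw [← hk]
    simp
  have hc₁K : c₁ ∈ K := by
    rw [hK, MulAction.mem_stabilizer_iff]
    show (swap (1 : Fin 5) 0 * swap 1 2 : Perm (Fin 5)) 4 = 4
    decide
  have hc₂K : c₂ ∈ K := by
    rw [hK, MulAction.mem_stabilizer_iff]
    show (swap (1 : Fin 5) 0 * swap 1 3 : Perm (Fin 5)) 4 = 4
    decide
  have ht1 : swap (3 : Fin 5) 4 * (swap (1 : Fin 5) 0 * swap 1 2 : Perm (Fin 5))
      = (swap (1 : Fin 5) 0 * swap 1 2 : Perm (Fin 5)) * swap 3 4 := by decide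
  have ht2 : swap (2 : Fin 5) 4 * (swap (1 : Fin 5) 0 * swap 1 3 : Perm (Fin 5))
      = (swap (1 : Fin 5) 0 * swap 1 3 : Perm (Fin 5)) * swap 2 4 := by decide
  apply nilcov_two K hKtop c₁ c₂
  · intro A hA hcc
    haveI := hA
    rcases hcc with h | h
    · refine (nilcov_le_zpowers A 3 hcardG c₁ h hc₁o (fun b _ =>
        hcent c₁ (swap 3 4) hσ₁ (sign_swap (by decide)) ht1 b)).trans ?_
      rw [Subgroup.zpowers_le]; exact hc₁K
    · refine (nilcov_le_zpowers A 3 hcardG c₂ h hc₂o (fun b _ =>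
        hcent c₂ (swap 2 4) hσ₂ (sign_swap (by decide)) ht2 b)).trans ?_
      rw [Subgroup.zpowers_le]; exact hc₂K
  · intro A hA h1 h2
    haveI := hA
    have hmem := nilcov_order_p_mem A 3 hcardG c₁ c₂ h1 h2 hc₁o hc₂o
    obtain ⟨k, hk⟩ := Subgroup.mem_zpowers_iff.mp hmem
    have hk' : (swap (1 : Fin 5) 0 * swap 1 2 : Perm (Fin 5)) ^ k = swap (1 : Fin 5) 0 * swap 1 3 := by
      have := congrArg Subtype.val hk
      simpa [hc₁, hc₂] using this
    have hfix : (swap (1 : Fin 5) 0 * swap 1 2 : Perm (Fin 5)) 3 = 3 := by decide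
    have h3 : ((swap (1 : Fin 5) 0 * swap 1 2 : Perm (Fin 5)) ^ k) 3 = 3 :=
      zpow_apply_eq_self_of_apply_eq_self hfix k
    rw [hk'] at h3
    exact absurd h3 (by decide)


theorem nilcov_bertrand (n : ℕ) (hn : 6 ≤ n) : ∃ p : ℕ, p.Prime ∧ 5 ≤ p ∧ p < n ∧ n < 2 * p := by
  obtain ⟨p, hp, h1, h2⟩ := Nat.exists_prime_lt_and_le_two_mul (n / 2) (by omega)
  refine ⟨p, hp, ?_, ?_, by omega⟩
  · have h4 : 4 ≤ p := by omega
    rcases Nat.lt_or_ge p 5 with h | h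
    · exfalso
      have : p = 4 := by omega
      rw [this] at hp
      exact absurd hp (by decide)
    · exact h
  · rcases Nat.lt_or_ge p n with h | h
    · exact h
    · exfalso
      have hpn : p = n := by omega
      have h2n : 2 ∣ n := by omega
      rw [← hpn] at h2n
      have := (Nat.prime_dvd_prime_iff_eq Nat.prime_two hp).mp h2n
      omega

theorem nilcov_main (n : ℕ) :
    (5 ≤ n → ¬ ∃ 𝓐 : Finset (Subgroup ↥(alternatingGroup (Fin n))), ((∀ A ∈ 𝓐, A ≠ ⊤) ∧ (∀ g : ↥(alternatingGroup (Fin n)), ∃ A ∈ 𝓐, g ∈ A)) ∧ (∀ 𝓑 : Finset (Subgroup ↥(alternatingGroup (Fin n))), (∀ A ∈ 𝓑, A ≠ ⊤) ∧ (∀ g : ↥(alternatingGroup (Fin n)), ∃ A ∈ 𝓑, g ∈ A) → 𝓐.card ≤ 𝓑.card) ∧ (∀ A ∈ 𝓐, Group.IsNilpotent ↥A)) ∧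
    (4 ≤ n → ¬ ∃ 𝓐 : Finset (Subgroup (Equiv.Perm (Fin n))), ((∀ A ∈ 𝓐, A ≠ ⊤) ∧ (∀ g : (Equiv.Perm (Fin n)), ∃ A ∈ 𝓐, g ∈ A)) ∧ (∀ 𝓑 : Finset (Subgroup (Equiv.Perm (Fin n))), (∀ A ∈ 𝓑, A ≠ ⊤) ∧ (∀ g : (Equiv.Perm (Fin n)), ∃ A ∈ 𝓑, g ∈ A) → 𝓐.card ≤ 𝓑.card) ∧ (∀ A ∈ 𝓐, Group.IsNilpotent ↥A)) := by
  constructor
  · intro hn
    obtain rfl | h6 : n = 5 ∨ 6 ≤ n := by omega
    · exact nilcov_alt5
    · obtain ⟨p, hp, hp5, hpn, hn2p⟩ := nilcov_bertrand n h6
      haveI : Fact p.Prime := ⟨hp⟩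
      exact nilcov_generic n p hp5 hpn hn2p (alternatingGroup (Fin n)).subtype
        (Subgroup.subtype_injective _) (fun σ hσ => ⟨⟨σ, hσ⟩, rfl⟩)
  · intro hn
    obtain rfl | rfl | h6 : n = 4 ∨ n = 5 ∨ 6 ≤ n := by omega
    · exact nilcov_sym4
    · exact nilcov_sym5
    · obtain ⟨p, hp, hp5, hpn, hn2p⟩ := nilcov_bertrand n h6
      haveI : Fact p.Prime := ⟨hp⟩
      exact nilcov_generic n p hp5 hpn hn2p (MonoidHom.id _)
        (fun _ _ h => h) (fun σ _ => ⟨σ, rfl⟩)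

end Cfsg.Agent.Helper37
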