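import Mathlib
import Cfsg.Prelude.Def_GeometricClasses
import Cfsg.Prelude.Def_Classical
import Cfsg.Agent.Helper58.TSDefs
import Cfsg.Agent.Helper65.TSOBDefs

set_option autoImplicit false
set_option linter.unusedSectionVars false

/-!
# Sub-CALL OB (helper65) of CALL TS, piece PE (helper37; double)
-/

namespace Cfsg.Agent.Helper37.OB

open Module Cfsg Cfsg.Geo Cfsg.Agent.Helper58.TS Cfsg.Agent.Helper65.TSOB

section ext

variable {ι : Type} [Fintype ι] [DecidableEq ι] {F : Type*} [Field F]

/-- `polar x (E w) = w.1 ⬝ (P x).2 + w.2 ⬝ (P x).1`. -/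
theorem obpe_polar_E (Q : QuadraticForm F (ι → F)) {n : ℕ} (e f : Fin n → ι → F) (x : ι → F)
    (w : HSp n F) :
    QuadraticMap.polar Q x (hE e f w) = w.1 ⬝ᵥ (hP Q e f x).2 + w.2 ⬝ᵥ (hP Q e f x).1 := by
  have hL : QuadraticMap.polar Q x (hE e f w) = QuadraticMap.polarBilin Q x (hE e f w) := rfl
  rw [hL, hE_apply, map_add, map_sum, map_sum]
  simp only [map_smul, smul_eq_mul, QuadraticMap.polarBilin_apply_apply]
  rfl

/-- `Q` vanishes on linear combinations of pairwise orthogonal singular vectors. -/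
theorem obpe_q_lin (Q : QuadraticForm F (ι → F)) {n : ℕ} (g : Fin n → ι → F)
    (hq0 : ∀ k, Q (g k) = 0) (hpol : ∀ j k, QuadraticMap.polar Q (g j) (g k) = 0)
    (a : Fin n → F) : Q (∑ k, a k • g k) = 0 := by
  classical
  have key : ∀ s : Finset (Fin n), Q (∑ k ∈ s, a k • g k) = 0 := by
    intro s
    induction s using Finset.induction_on with
    | empty => simp
    | insert j s hj ih =>
      rw [Finset.sum_insert hj, QuadraticMap.map_add Q, ih, QuadraticMap.map_smul, hq0, smul_zero,
        zero_add, zero_add]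
      have hL : QuadraticMap.polar Q (a j • g j) (∑ k ∈ s, a k • g k) =
          QuadraticMap.polarBilin Q (a j • g j) (∑ k ∈ s, a k • g k) := rfl
      rw [hL, map_sum]
      apply Finset.sum_eq_zero
      intro k _
      rw [map_smul, map_smul, LinearMap.smul_apply, QuadraticMap.polarBilin_apply_apply, hpol,
        smul_zero, smul_zero]
  exact key Finset.univ

/-- PE [S]: `P ∘ E = id` for a hyperbolic family. -/
theorem ob_PE (Q : QuadraticForm F (ι → F)) {n : ℕ} (e f : Fin n → ι → F) (h : HypFam Q e f) :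
    hP Q e f ∘ₗ hE e f = LinearMap.id := by
  refine LinearMap.ext fun u => ?_
  rw [LinearMap.comp_apply, LinearMap.id_apply]
  have hpol : ∀ w : ι → F, QuadraticMap.polar Q (hE e f u) w =
      ∑ k, u.1 k * QuadraticMap.polar Q (e k) w + ∑ k, u.2 k * QuadraticMap.polar Q (f k) w := by
    intro w
    have hL : ∀ v, (QuadraticMap.polarBilin Q).flip w v = QuadraticMap.polar Q v w := fun v => rfl
    rw [← hL, hE_apply, map_add, map_sum, map_sum]
    simp only [map_smul, smul_eq_mul]
    simp only [hL]
  have hfe : ∀ j k, QuadraticMap.polar Q (f j) (e k) = if k = j then 1 else 0 := by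
    intro j k
    rw [QuadraticMap.polar_comm]
    exact h.ef k j
  refine Prod.ext (funext fun k => ?_) (funext fun k => ?_)
  · rw [hP_apply_fst, hpol]
    simp only [h.ef, h.ff, mul_ite, mul_one, mul_zero, Finset.sum_ite_eq', Finset.mem_univ,
      if_true, Finset.sum_const_zero, add_zero]
  · rw [hP_apply_snd, hpol]
    simp only [h.ee, hfe, mul_ite, mul_one, mul_zero, Finset.sum_ite_eq, Finset.mem_univ,
      if_true, Finset.sum_const_zero, zero_add]

theorem obpe_PE_apply (Q : QuadraticForm F (ι → F)) {n : ℕ} (e f : Fin n → ι → F)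
    (h : HypFam Q e f) (w : HSp n F) : hP Q e f (hE e f w) = w := by
  have := LinearMap.congr_fun (ob_PE Q e f h) w
  rwa [LinearMap.comp_apply, LinearMap.id_apply] at this

/-- `Q (E w) = hq w`. -/
theorem obpe_q_E (Q : QuadraticForm F (ι → F)) {n : ℕ} (e f : Fin n → ι → F)
    (h : HypFam Q e f) (w : HSp n F) : Q (hE e f w) = hq w := by
  have h1 : hE e f w = hE e f (w.1, 0) + hE e f (0, w.2) := by
    rw [← map_add]
    congr 1
    ext <;> simp
  have h2 : Q (hE e f (w.1, 0)) = 0 := by
    have := obpe_q_lin Q e h.qe h.ee w.1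
    rw [hE_apply]
    simpa using this
  have h3 : Q (hE e f ((0 : Fin n → F), w.2)) = 0 := by
    have := obpe_q_lin Q f h.qf h.ff w.2
    rw [hE_apply]
    simpa using this
  rw [h1, QuadraticMap.map_add Q, h2, h3, obpe_polar_E, obpe_PE_apply Q e f h]
  simp [hq, dotProduct_comm]

end ext

end Cfsg.Agent.Helper37.OB
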