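import Mathlib
import Cfsg.Prelude.Def_GeometricClasses
import Cfsg.Prelude.Def_Classical
import Cfsg.Agent.Helper58.TSDefs
import Cfsg.Agent.Helper65.TSOBDefs
import Cfsg.Agent.Helper37.OBPE

set_option autoImplicit false
set_option linter.unusedSectionVars false

/-!
# Sub-CALL OB (helper65) of CALL TS, piece EXTISO (helper37; double)
-/

namespace Cfsg.Agent.Helper37.OB

open Module Cfsg Cfsg.Geo Cfsg.Agent.Helper58.TS Cfsg.Agent.Helper65.TSOB

section ext

variable {ι : Type} [Fintype ι] [DecidableEq ι] {F : Type*} [Field F]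

/-- EXTISO [M] (uses PE): the extension of an isometry of the hyperbolic coordinate space is an
isometry.  (`v = c + E u`, `u = P v`, `P c = 0` so `c ⊥ e_k, f_k`; `Q (c + E w) = Q c + hq w`.) -/
theorem ob_ext_iso (Q : QuadraticForm F (ι → F)) {n : ℕ} (e f : Fin n → ι → F)
    (h : HypFam Q e f) (Z : HSp n F →ₗ[F] HSp n F) (hZ : ∀ u, hq (Z u) = hq u) (v : ι → F) :
    Q (hExt Q e f Z v) = Q v := by
  obtain ⟨u, hu⟩ : ∃ u, u = hP Q e f v := ⟨_, rfl⟩
  obtain ⟨c, hc⟩ : ∃ c, c = v - hE e f u := ⟨_, rfl⟩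
  have hPc : hP Q e f c = 0 := by
    rw [hc, map_sub, obpe_PE_apply Q e f h, hu, sub_self]
  have key : ∀ w : HSp n F, Q (c + hE e f w) = Q c + hq w := by
    intro w
    rw [QuadraticMap.map_add Q, obpe_polar_E, hPc, obpe_q_E Q e f h]
    simp
  have hv : v = c + hE e f u := by rw [hc]; abel
  have hx : hExt Q e f Z v = c + hE e f (Z u) := by
    rw [hExt_apply, ← hu, map_sub, hc]
    abel
  rw [hx, key, hZ, ← key, ← hv]

end ext

end Cfsg.Agent.Helper37.OB
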