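import Mathlib
import Cfsg.Prelude.Def_GeometricClasses
import Cfsg.Prelude.Def_Classical
import Cfsg.Agent.Helper58.TSDefs
import Cfsg.Agent.Helper65.TSOBDefs
import Cfsg.Agent.Helper37.OBPE

set_option autoImplicit false
set_option linter.unusedSectionVars false

/-!
# Sub-CALL OB (helper65) of CALL TS, piece EXTRANGE (helper37; double)
-/

namespace Cfsg.Agent.Helper37.OB

open Module Cfsg Cfsg.Geo Cfsg.Agent.Helper58.TS Cfsg.Agent.Helper65.TSOB

section ext

variable {ι : Type} [Fintype ι] [DecidableEq ι] {F : Type*} [Field F]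

/-- EXTRANGE [S-M] (uses PE): if `Z` has no fixed vector then `range (ext Z - 1) = range E`.
(`ext Z - 1 = E (Z - 1) P`, `P` surjective, `Z - 1` injective hence surjective.) -/
theorem ob_ext_range (Q : QuadraticForm F (ι → F)) {n : ℕ} (e f : Fin n → ι → F)
    (h : HypFam Q e f) (Z : HSp n F →ₗ[F] HSp n F) (hZ : ∀ u, Z u = u → u = 0) :
    LinearMap.range (hExt Q e f Z - LinearMap.id) = LinearMap.range (hE e f) := by
  have hsub : ∀ v, (hExt Q e f Z - (LinearMap.id : (ι → F) →ₗ[F] (ι → F))) v =
      hE e f (Z (hP Q e f v) - hP Q e f v) := by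
    intro v
    rw [LinearMap.sub_apply, hExt_apply, LinearMap.id_apply, add_sub_cancel_left]
  apply le_antisymm
  · rintro _ ⟨v, rfl⟩
    rw [hsub]
    exact LinearMap.mem_range_self _ _
  · rintro _ ⟨w, rfl⟩
    have hinj : Function.Injective (Z - (LinearMap.id : HSp n F →ₗ[F] HSp n F)) := by
      rw [← LinearMap.ker_eq_bot, LinearMap.ker_eq_bot']
      intro u hu
      rw [LinearMap.sub_apply, LinearMap.id_apply, sub_eq_zero] at hu
      exact hZ u hu
    obtain ⟨u, hu⟩ := (LinearMap.injective_iff_surjective.1 hinj) w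
    rw [LinearMap.sub_apply, LinearMap.id_apply] at hu
    refine ⟨hE e f u, ?_⟩
    rw [hsub, obpe_PE_apply Q e f h, hu]

end ext

end Cfsg.Agent.Helper37.OB
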