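import Mathlib
import Cfsg.Prelude.Def_GeometricClasses
import Cfsg.Prelude.Def_Classical
import Cfsg.Agent.Helper58.TSDefs
import Cfsg.Agent.Helper65.TSOBDefs
import Cfsg.Agent.Helper37.OBPE

set_option autoImplicit false
set_option linter.unusedSectionVars false

/-!
# Sub-CALL OB (helper65) of CALL TS, piece RANGEE (helper37; double)
-/

namespace Cfsg.Agent.Helper37.OB

open Module Cfsg Cfsg.Geo Cfsg.Agent.Helper58.TS Cfsg.Agent.Helper65.TSOB

section ext

variable {ι : Type} [Fintype ι] [DecidableEq ι] {F : Type*} [Field F]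

/-- RANGEE [S-M] (uses PE): `range E` has dimension `2 n` and contains the totally singular
`n`-space spanned by the `e k` (image of `F^n × 0`). -/
theorem ob_range_E (Q : QuadraticForm F (ι → F)) {n : ℕ} (e f : Fin n → ι → F)
    (h : HypFam Q e f) :
    finrank F (LinearMap.range (hE e f)) = 2 * n ∧
      ∃ U : Submodule F (ι → F), U ≤ LinearMap.range (hE e f) ∧ (∀ w ∈ U, Q w = 0) ∧
        finrank F U = n := by
  have hinj : Function.Injective (hE e f) := by
    intro x y hxy
    rw [← obpe_PE_apply Q e f h x, ← obpe_PE_apply Q e f h y, hxy]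
  refine ⟨?_, LinearMap.range (hE e f ∘ₗ LinearMap.inl F (Fin n → F) (Fin n → F)),
    LinearMap.range_comp_le_range _ _, ?_, ?_⟩
  · rw [LinearMap.finrank_range_of_inj hinj, Module.finrank_prod, Module.finrank_fin_fun]
    omega
  · rintro _ ⟨a, rfl⟩
    rw [LinearMap.comp_apply, LinearMap.inl_apply, obpe_q_E Q e f h]
    simp [hq]
  · have hinj2 : Function.Injective (hE e f ∘ₗ LinearMap.inl F (Fin n → F) (Fin n → F)) := by
      rw [LinearMap.coe_comp]
      exact hinj.comp LinearMap.inl_injective
    rw [LinearMap.finrank_range_of_inj hinj2, Module.finrank_fin_fun]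

end ext

end Cfsg.Agent.Helper37.OB
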