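import Mathlib
import Cfsg.Agent.Helper37.NPCOMB

set_option autoImplicit false
set_option linter.unusedSectionVars false
set_option linter.unusedVariables false

/-!
# CALL OD (helper69; rows S5989 + S5991), piece PCOMBE (helper37)

Follows from `Cfsg.Agent.Helper37.NP5989.np_comb` (the twin piece COMB of CALL NP).
-/

namespace Cfsg.Agent.Helper37.OD59

/-- PCOMBE [S-M, pure multisets]: `μ = replicate d 2`; a sub-multiset is `replicate k 2`
(`Multiset.le_replicate_iff` / `Multiset.eq_replicate_of_mem`), with even sum. -/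
theorem od_p_comb_even (p d m : ℕ) (hp3 : 3 ≤ p) (hde : Even d) (hmo : Odd m) :
    ∃ μ : Multiset ℕ, (∀ e ∈ μ, 0 < e ∧ e ≤ p) ∧ (∀ e : ℕ, Even e → Even (μ.count e)) ∧
      μ.sum = 2 * d ∧
      ¬ ∃ ν : Multiset ℕ, ν ≤ μ ∧ ν.sum = m ∧ ∀ e : ℕ, Even e → Even (ν.count e) := by
  refine ⟨Multiset.replicate d 2, ?_, ?_, ?_, ?_⟩
  · intro e he
    rw [Multiset.eq_of_mem_replicate he]
    omega
  · intro e _
    rw [Multiset.count_replicate]
    split_ifs
    · exact hde
    · exact Even.zero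
  · rw [Multiset.sum_replicate, smul_eq_mul, mul_comm]
  · rintro ⟨ν, hle, hs, hpar⟩
    exact (Cfsg.Agent.Helper37.NP5989.np_comb d m hmo ν hs hpar).1 hde hle

end Cfsg.Agent.Helper37.OD59
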