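import Mathlib
import Cfsg.Agent.Helper96.OHDefs
import Cfsg.Agent.Helper69.ODDefs
import Cfsg.Agent.Helper59.TSR2SKOMEGA

set_option autoImplicit false
set_option linter.unusedSectionVars false
set_option linter.unusedVariables false

/-!
# CALL OD (helper69) piece SKOMEGAG (helper37)

A copy of helper59's r2_skew_omega (CALL TSR2) and of helper6's r2_skew_basis with the unused
hypothesis on the squareness of -1 removed.  The auxiliary reflection-pair lemmas are reused from
Cfsg.Agent.Helper59.TSR2 unchanged.
-/

namespace Cfsg.Agent.Helper37.OD59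

open Module Polynomial Cfsg Cfsg.Geo
open Cfsg.Agent.Helper13.TIu Cfsg.Agent.Helper96.OH Cfsg.Agent.Helper69.OD
open scoped MatrixGroups

variable {ι : Type} [Fintype ι] [DecidableEq ι] {F : Type*} [Field F] (Q : (ι → F) → F)

/-- helper6's SKBASIS without the nonsquare hypothesis. -/
theorem od_skew_basis [Fintype F] (hQ : IsNondegenerateQuadraticForm Q) (h2 : (2 : F) ≠ 0)
    (d : ℕ) (hcard : Fintype.card ι = 2 * d) (M : Matrix ι ι F) (hM : ∀ v, Q (M.mulVec v) = Q v)
    (hM2 : M * M = -1) :
    ∃ v : Fin d → (ι → F), (∀ j, Q (v j) ≠ 0) ∧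
      ∀ j l, j ≠ l → QuadraticMap.polar Q (v j) (v l) = 0 ∧
        QuadraticMap.polar Q (v j) (M.mulVec (v l)) = 0 := by
  classical
  have hbil := hQ.polar_bilinear
  have hsymm : ∀ x y, QuadraticMap.polar Q x y = QuadraticMap.polar Q y x :=
    fun x y => QuadraticMap.polar_comm Q x y
  have hself : ∀ x, QuadraticMap.polar Q x x = 2 * Q x := by
    intro x
    have h1 : Q (x + x) = 4 * Q x := by
      have h3 := hQ.smul 2 x
      rw [two_smul] at h3
      rw [h3]
      ring
    show Q (x + x) - Q x - Q x = 2 * Q x
    rw [h1]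
    ring
  have hiso : ∀ x y, QuadraticMap.polar Q (M.mulVec x) (M.mulVec y) = QuadraticMap.polar Q x y := by
    intro x y
    show Q (M.mulVec x + M.mulVec y) - Q (M.mulVec x) - Q (M.mulVec y) = Q (x + y) - Q x - Q y
    rw [← Matrix.mulVec_add, hM, hM, hM]
  have hMM : ∀ x, M.mulVec (M.mulVec x) = -x := by
    intro x
    rw [Matrix.mulVec_mulVec, hM2, Matrix.neg_mulVec, Matrix.one_mulVec]
  have hnegL : ∀ x y, QuadraticMap.polar Q (-x) y = - QuadraticMap.polar Q x y := by
    intro x y
    have h3 := hbil.smul_left (-1) x y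
    simpa using h3
  have hskew : ∀ x y, QuadraticMap.polar Q (M.mulVec x) y = - QuadraticMap.polar Q x (M.mulVec y) := by
    intro x y
    have h3 := hiso (M.mulVec x) y
    rw [hMM, hnegL] at h3
    rw [← h3]
  have hperp : ∀ x, QuadraticMap.polar Q x (M.mulVec x) = 0 := by
    intro x
    have h1 := hskew x x
    rw [hsymm] at h1
    have h3 : 2 * QuadraticMap.polar Q x (M.mulVec x) = 0 := by linear_combination h1
    exact (mul_eq_zero.1 h3).resolve_left h2
  have hzeroL : ∀ z, QuadraticMap.polar Q 0 z = 0 := by
    intro z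
    have h3 := hbil.smul_left 0 0 z
    simpa using h3
  have hsumL : ∀ (k : ℕ) (s : Finset (Fin k)) (c : Fin k → F) (u : Fin k → (ι → F)) (z : ι → F),
      QuadraticMap.polar Q (∑ j ∈ s, c j • u j) z = ∑ j ∈ s, c j * QuadraticMap.polar Q (u j) z := by
    intro k s c u z
    induction s using Finset.induction_on with
    | empty => simp [hzeroL]
    | insert a s ha ih =>
      rw [Finset.sum_insert ha, Finset.sum_insert ha, hbil.add_left, hbil.smul_left, ih]
  have key : ∀ k : ℕ, k ≤ d → ∃ v : Fin k → (ι → F), (∀ j, Q (v j) ≠ 0) ∧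
      ∀ j l, j ≠ l → QuadraticMap.polar Q (v j) (v l) = 0 ∧
        QuadraticMap.polar Q (v j) (M.mulVec (v l)) = 0 := by
    intro k
    induction k with
    | zero =>
      intro _
      exact ⟨fun j => j.elim0, fun j => j.elim0, fun j => j.elim0⟩
    | succ k ih =>
      intro hk
      obtain ⟨v, hv, hvv⟩ := ih (by omega)
      let f : (ι → F) →ₗ[F] (Fin k ⊕ Fin k → F) :=
        { toFun := fun x => Sum.elim (fun j => QuadraticMap.polar Q x (v j))
            (fun j => QuadraticMap.polar Q x (M.mulVec (v j)))
          map_add' := by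
            intro x y
            funext s
            rcases s with j | j
            · simp only [Sum.elim_inl, Pi.add_apply]
              exact hbil.add_left x y _
            · simp only [Sum.elim_inr, Pi.add_apply]
              exact hbil.add_left x y _
          map_smul' := by
            intro c x
            funext s
            rcases s with j | j
            · simp only [Sum.elim_inl, Pi.smul_apply, smul_eq_mul, RingHom.id_apply]
              exact hbil.smul_left c x _
            · simp only [Sum.elim_inr, Pi.smul_apply, smul_eq_mul, RingHom.id_apply]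
              exact hbil.smul_left c x _ }
      have hdim : finrank F (Fin k ⊕ Fin k → F) < finrank F (ι → F) := by
        rw [Module.finrank_fintype_fun_eq_card, Module.finrank_fintype_fun_eq_card, hcard,
          Fintype.card_sum, Fintype.card_fin]
        omega
      have hker := LinearMap.ker_ne_bot_of_finrank_lt (f := f) hdim
      obtain ⟨x, hxk, hx0⟩ := (Submodule.ne_bot_iff _).1 hker
      have hxv : ∀ j, QuadraticMap.polar Q x (v j) = 0 := fun j =>
        congrFun (LinearMap.mem_ker.1 hxk) (Sum.inl j)
      have hxMv : ∀ j, QuadraticMap.polar Q x (M.mulVec (v j)) = 0 := fun j =>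
        congrFun (LinearMap.mem_ker.1 hxk) (Sum.inr j)
      obtain ⟨y, hyv, hyMv, hyQ⟩ : ∃ y, (∀ j, QuadraticMap.polar Q y (v j) = 0) ∧
          (∀ j, QuadraticMap.polar Q y (M.mulVec (v j)) = 0) ∧ Q y ≠ 0 := by
        by_contra hcon
        push Not at hcon
        obtain ⟨w, hw⟩ := (hQ.nondegenerate x hx0).2
        set c : Fin k → F := fun j => QuadraticMap.polar Q w (v j) / (2 * Q (v j)) with hc
        set c' : Fin k → F := fun j => QuadraticMap.polar Q w (M.mulVec (v j)) / (2 * Q (v j))
          with hc'
        set S₁ : ι → F := ∑ j, c j • v j with hS₁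
        set S₂ : ι → F := ∑ j, c' j • M.mulVec (v j) with hS₂
        set w' : ι → F := w + (-1 : F) • S₁ + (-1 : F) • S₂ with hw'
        have hexp : ∀ z, QuadraticMap.polar Q w' z = QuadraticMap.polar Q w z -
            QuadraticMap.polar Q S₁ z - QuadraticMap.polar Q S₂ z := by
          intro z
          rw [hw', hbil.add_left, hbil.add_left, hbil.smul_left, hbil.smul_left]
          ring
        have hq : ∀ l, 2 * Q (v l) ≠ 0 := fun l => mul_ne_zero h2 (hv l)
        have hw'v : ∀ l, QuadraticMap.polar Q w' (v l) = 0 := by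
          intro l
          rw [hexp, hS₁, hS₂, hsumL, hsumL]
          rw [Finset.sum_eq_single l (fun j _ hjl => by rw [(hvv j l hjl).1, mul_zero])
            (fun h => absurd (Finset.mem_univ l) h)]
          rw [Finset.sum_eq_zero (fun j _ => by
            rw [hskew]
            by_cases hjl : j = l
            · rw [hjl, hperp, neg_zero, mul_zero]
            · rw [(hvv j l hjl).2, neg_zero, mul_zero])]
          rw [hself]
          have hcl : c l * (2 * Q (v l)) = QuadraticMap.polar Q w (v l) := by
            rw [hc]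
            exact div_mul_cancel₀ _ (hq l)
          rw [hcl]
          ring
        have hw'Mv : ∀ l, QuadraticMap.polar Q w' (M.mulVec (v l)) = 0 := by
          intro l
          rw [hexp, hS₁, hS₂, hsumL, hsumL]
          rw [Finset.sum_eq_zero (fun j _ => by
            by_cases hjl : j = l
            · rw [hjl, hperp, mul_zero]
            · rw [(hvv j l hjl).2, mul_zero])]
          rw [Finset.sum_eq_single l (fun j _ hjl => by rw [hiso, (hvv j l hjl).1, mul_zero])
            (fun h => absurd (Finset.mem_univ l) h)]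
          rw [hiso, hself]
          have hcl : c' l * (2 * Q (v l)) = QuadraticMap.polar Q w (M.mulVec (v l)) := by
            rw [hc']
            exact div_mul_cancel₀ _ (hq l)
          rw [hcl]
          ring
        have hxw' : QuadraticMap.polar Q x w' = QuadraticMap.polar Q x w := by
          rw [hsymm x w', hexp, hS₁, hS₂, hsumL, hsumL, hsymm w x]
          rw [Finset.sum_eq_zero (fun j _ => by rw [hsymm, hxv, mul_zero])]
          rw [Finset.sum_eq_zero (fun j _ => by rw [hsymm, hxMv, mul_zero])]
          ring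
        have q1 := hcon x hxv hxMv
        have q2 := hcon w' hw'v hw'Mv
        have q3 := hcon (x + w') (fun j => by rw [hbil.add_left, hxv, hw'v, add_zero])
          (fun j => by rw [hbil.add_left, hxMv, hw'Mv, add_zero])
        apply hw
        rw [← hxw']
        show Q (x + w') - Q x - Q w' = 0
        rw [q1, q2, q3]
        ring
      refine ⟨Fin.cons y v, ?_, ?_⟩
      · intro j
        induction j using Fin.cases with
        | zero => simpa using hyQ
        | succ j => simpa using hv j
      · intro j l hjl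
        induction j using Fin.cases with
        | zero =>
          induction l using Fin.cases with
          | zero => exact absurd rfl hjl
          | succ l =>
            simp only [Fin.cons_zero, Fin.cons_succ]
            exact ⟨hyv l, hyMv l⟩
        | succ j =>
          induction l using Fin.cases with
          | zero =>
            simp only [Fin.cons_zero, Fin.cons_succ]
            refine ⟨by rw [hsymm]; exact hyv j, ?_⟩
            rw [hsymm, hskew, hyMv, neg_zero]
          | succ l =>
            simp only [Fin.cons_succ]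
            exact hvv j l (fun h => hjl (by rw [h]))
  exact key d le_rfl


/-- SKOMEGAG. -/
theorem od_skew_omega [Fintype F] (hQ : IsNondegenerateQuadraticForm Q) (h2 : (2 : F) ≠ 0)
    (d : ℕ) (hd : 1 ≤ d) (hcard : Fintype.card ι = 2 * d) (g : ↥(Cfsg.isometryGroup F Q))
    (hg2 : ((g : GL ι F) : Matrix ι ι F) * ((g : GL ι F) : Matrix ι ι F) = -1) :
    g ∈ Cfsg.Omega F Q ↔ IsSquare ((2 : F) ^ d) := by
  classical
  obtain ⟨q, hq⟩ : ∃ q : QuadraticForm F (ι → F), q = Cfsg.Agent.Helper98.op_qf Q hQ := ⟨_, rfl⟩
  have hqQ : ∀ x, q x = Q x := fun x => by rw [hq]; rfl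
  obtain ⟨M, hMdef⟩ : ∃ M : Matrix ι ι F, M = ((g : GL ι F) : Matrix ι ι F) := ⟨_, rfl⟩
  rw [← hMdef] at hg2
  have hMQ : ∀ x, Q (M.mulVec x) = Q x := by
    rw [hMdef]
    exact (Cfsg.Agent.Helper45.mem_iso_iff Q g.1).mp g.2
  have hM : ∀ x, q (M.mulVec x) = q x := fun x => by rw [hqQ, hqQ, hMQ]
  obtain ⟨v, hv', horth'⟩ :=
    od_skew_basis Q hQ h2 d hcard M hMQ hg2
  have hv : ∀ j, q (v j) ≠ 0 := fun j => by rw [hqQ]; exact hv' j
  have horth : ∀ j l, j ≠ l → QuadraticMap.polar ⇑q (v j) (v l) = 0 ∧
      QuadraticMap.polar ⇑q (v j) (M.mulVec (v l)) = 0 := by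
    intro j l hjl
    have h := horth' j l hjl
    rw [hq]
    exact h
  -- the orthogonal basis `v j, M v j`
  obtain ⟨b, hb⟩ : ∃ b : Fin d ⊕ Fin d → (ι → F), b = Sum.elim v (fun j => M.mulVec (v j)) :=
    ⟨_, rfl⟩
  have hbl : ∀ j, b (Sum.inl j) = v j := fun j => by rw [hb]; rfl
  have hbr : ∀ j, b (Sum.inr j) = M.mulVec (v j) := fun j => by rw [hb]; rfl
  have hbq : ∀ i, q (b i) ≠ 0 := by
    rintro (j | j)
    · rw [hbl]; exact hv j
    · rw [hbr, hM]; exact hv j
  have hborth : ∀ i i', i ≠ i' → QuadraticMap.polar ⇑q (b i) (b i') = 0 := by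
    rintro (j | j) (l | l) hne
    · rw [hbl, hbl]
      exact (horth j l (fun h => hne (by rw [h]))).1
    · rw [hbl, hbr]
      by_cases hjl : j = l
      · rw [hjl]
        exact Cfsg.Agent.Helper59.TSR2.sk_polar_self q M h2 hM hg2 (v l)
      · exact (horth j l hjl).2
    · rw [hbr, hbl, QuadraticMap.polar_comm]
      by_cases hjl : l = j
      · rw [hjl]
        exact Cfsg.Agent.Helper59.TSR2.sk_polar_self q M h2 hM hg2 (v j)
      · exact (horth l j hjl).2
    · rw [hbr, hbr, Cfsg.Agent.Helper59.TSR2.sk_polar_M q M hM]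
      exact (horth j l (fun h => hne (by rw [h]))).1
  have hli : LinearIndependent F b := by
    apply LinearMap.BilinForm.linearIndependent_of_iIsOrtho (B := QuadraticMap.polarBilin q)
    · intro i i' hne
      exact hborth i i' hne
    · intro i hi
      have h1 : QuadraticMap.polar ⇑q (b i) (b i) = 0 := hi
      rw [QuadraticMap.polar_self] at h1
      have h3 : (2 : F) * q (b i) = 0 := by simpa using h1
      rcases mul_eq_zero.mp h3 with h | h
      · exact h2 h
      · exact hbq i h
  have hspan : Submodule.span F (Set.range b) = ⊤ := by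
    apply hli.span_eq_top_of_card_eq_finrank'
    rw [Module.finrank_fintype_fun_eq_card, hcard, Fintype.card_sum, Fintype.card_fin]
    ring
  have hLnd : (List.finRange d).Nodup := List.nodup_finRange d
  have hMP : M = Cfsg.Agent.Helper59.TSR2.skProd q M v (List.finRange d) := by
    apply Matrix.toLin'.injective
    apply LinearMap.ext_on_range hspan
    rintro (j | j)
    · rw [hbl, Matrix.toLin'_apply, Matrix.toLin'_apply]
      exact ((Cfsg.Agent.Helper59.TSR2.sk_prod_rot q M v h2 hM hg2 hv horth _ hLnd j (List.mem_finRange j)).1).symm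
    · rw [hbr, Matrix.toLin'_apply, Matrix.toLin'_apply, Cfsg.Agent.Helper59.TSR2.sk_MM M hg2]
      exact ((Cfsg.Agent.Helper59.TSR2.sk_prod_rot q M v h2 hM hg2 hv horth _ hLnd j (List.mem_finRange j)).2).symm
  have hcard2 : 2 ≤ Fintype.card ι := by omega
  have hnd : (QuadraticMap.polarBilin q).Nondegenerate := by
    rw [hq]
    exact Cfsg.Agent.Helper98.op_qf_nondeg Q hQ
  subst hq
  have key := Cfsg.Agent.Helper45.mem_omega_prod_refl (Cfsg.Agent.Helper98.op_qf Q hQ) h2 hnd hcard2
    (Cfsg.Agent.Helper59.TSR2.skList M v (List.finRange d)) (Cfsg.Agent.Helper59.TSR2.sk_mem _ M v h2 hM hg2 hv _) g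
    (by rw [← hMdef]; exact hMP)
  refine Iff.trans key ?_
  rw [Cfsg.Agent.Helper59.TSR2.sk_length, Cfsg.Agent.Helper59.TSR2.sk_norm _ M v h2 hM hg2, List.length_finRange]
  have hc := Cfsg.Agent.Helper59.TSR2.sk_norm_ne (Cfsg.Agent.Helper98.op_qf Q hQ) v hv (List.finRange d)
  constructor
  · rintro ⟨-, s, hs⟩
    refine ⟨s / (List.map (fun j => (Cfsg.Agent.Helper98.op_qf Q hQ) (v j)) (List.finRange d)).prod, ?_⟩
    field_simp
    linear_combination hs
  · rintro ⟨t, ht⟩
    refine ⟨even_two_mul d, ⟨t * (List.map (fun j => (Cfsg.Agent.Helper98.op_qf Q hQ) (v j))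
      (List.finRange d)).prod, ?_⟩⟩
    rw [ht]
    ring


end Cfsg.Agent.Helper37.OD59
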