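import Mathlib
import Cfsg.Agent.Helper43.OTDefs
import Cfsg.Agent.Helper37.OTBADCCore
import Cfsg.Agent.Helper57.OTMODC
import Cfsg.Agent.Helper43.OTXFER

set_option autoImplicit false

/-!
# CALL OT (helper43, S5972), piece BADC (helper37)

`ot_bad_c`, verbatim from the skeleton: `ot_bad_c_core` with MODC (helper57) and XFER (helper43).
-/

namespace Cfsg.Agent.Helper37.OT5972

open Module Polynomial Cfsg.Agent.Helper90.HT Cfsg.Agent.Helper43.OT
open Cfsg.Agent.Helper43.C3O (gm)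

universe u

section grp3

variable {F : Type u} [Field F] [Fintype F] {ι : Type} [Fintype ι] [DecidableEq ι]

/-- BADC (uses MODC with `e := i / 2`, `e' := (e - 1) / 2`, and XFER): the multiplicity-free bad
element. -/
theorem ot_bad_c (p : ℕ) [Fact p.Prime] [CharP F p] (h2 : (2 : F) ≠ 0) (r : ℕ) [Fact r.Prime]
    (hr2 : 2 < r) (hrp : r ≠ p) (i : ℕ) (hi : i = orderOf ((Fintype.card F : ℕ) : ZMod r))
    (hie : Even i) (d u e : ℕ) (hd : 1 ≤ d) (hu : 1 ≤ u) (hut : u ≤ (r - 1) / i)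
    (hdim : 2 * d + 1 = i * u + e) :
    ∃ x : Matrix.GeneralLinearGroup (Unit ⊕ (Fin d ⊕ Fin d)) F,
      x ∈ Cfsg.Geo.omegaGL (Cfsg.quadFormOdd d F) ∧ orderOf x = r ∧
      ∀ W : Submodule F (Unit ⊕ (Fin d ⊕ Fin d) → F), (∀ w ∈ W, Cfsg.quadFormOdd d F w = 0) →
        W.map (Matrix.toLin'
          (x : Matrix (Unit ⊕ (Fin d ⊕ Fin d)) (Unit ⊕ (Fin d ⊕ Fin d)) F)) ≤ W →
        2 * finrank F W ≤ e :=
  ot_bad_c_core p r hr2 hrp i hi hie d u e hu hut hdim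
    (fun e₁ _ he hrF hord u e' hu hut =>
      Cfsg.Agent.Helper57.OT5972.ot_mod_c p h2 e₁ he r hr2 hrF hord u e' hu hut)
    (fun Q' hnd hdim T hT hTr hT1 =>
      Cfsg.Agent.Helper43.OT5972.ot_xfer h2 d hd Q' hnd hdim T hT r hr2 hTr hT1)

end grp3

end Cfsg.Agent.Helper37.OT5972
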