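import Mathlib
import Cfsg.Agent.Helper21.PEDefs

set_option autoImplicit false

open Equiv Cfsg.Agent.Helper21.PE
open scoped commutatorElement

namespace Cfsg.Agent.Helper37.PEA5

/-- the 3-cycle `(0 1 2)` of `Fin 5` -/
def pea5_s₁ : Perm (Fin 5) := ⟨![1, 2, 0, 3, 4], ![2, 0, 1, 3, 4], by decide, by decide⟩
/-- the 3-cycle `(2 3 4)` of `Fin 5` -/
def pea5_s₂ : Perm (Fin 5) := ⟨![0, 1, 3, 4, 2], ![0, 1, 4, 2, 3], by decide, by decide⟩

theorem pea5_key₁ : pea5_s₁ =
    (pea5_s₂⁻¹ * pea5_s₁) * ⁅pea5_s₁, pea5_s₂⁆ * (pea5_s₂⁻¹ * pea5_s₁)⁻¹ := by decide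

theorem pea5_key₂ : pea5_s₂ =
    (pea5_s₁ * pea5_s₂ * pea5_s₁⁻¹) * ⁅pea5_s₁, pea5_s₂⁆ * (pea5_s₁ * pea5_s₂ * pea5_s₁⁻¹)⁻¹ := by
  decide

/-- if `x = z₁ ⁅x,y⁆ z₁⁻¹` and `y = z₂ ⁅x,y⁆ z₂⁻¹` with `x ≠ 1` then the group is not solvable -/
theorem pea5_abs {G : Type*} [Group G] (x y z₁ z₂ : G) (hx : x ≠ 1)
    (k₁ : x = z₁ * ⁅x, y⁆ * z₁⁻¹) (k₂ : y = z₂ * ⁅x, y⁆ * z₂⁻¹) : ¬ Group.IsSolvable G := by
  have h : ∀ n, x ∈ derivedSeries G n ∧ y ∈ derivedSeries G n := by
    intro n
    induction n with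
    | zero => exact ⟨Subgroup.mem_top x, Subgroup.mem_top y⟩
    | succ n ih =>
      have hc : ⁅x, y⁆ ∈ derivedSeries G (n + 1) := Subgroup.commutator_mem_commutator ih.1 ih.2
      constructor
      · rw [k₁]; exact (derivedSeries_normal G (n + 1)).conj_mem _ hc _
      · rw [k₂]; exact (derivedSeries_normal G (n + 1)).conj_mem _ hc _
  exact not_isSolvable_of_mem_derivedSeries hx (fun n => (h n).1)

theorem pea5_emb (X : Type) [Fintype X] [DecidableEq X] (c₁ c₂ : Perm X)
    (t₁ : c₁.IsThreeCycle) (t₂ : c₂.IsThreeCycle) (hcard : (c₁.support ∩ c₂.support).card = 1) :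
    ∃ e : Fin 5 ↪ X, Perm.viaEmbedding pea5_s₁ e = c₁ ∧ Perm.viaEmbedding pea5_s₂ e = c₂ := by
  obtain ⟨z, hz⟩ := Finset.card_eq_one.mp hcard
  have hzm : z ∈ c₁.support ∩ c₂.support := by rw [hz]; exact Finset.mem_singleton_self z
  have hz1 : z ∈ c₁.support := (Finset.mem_inter.mp hzm).1
  have hz2 : z ∈ c₂.support := (Finset.mem_inter.mp hzm).2
  have huniq : ∀ x, x ∈ c₁.support → x ∈ c₂.support → x = z := by
    intro x h1 h2
    have : x ∈ c₁.support ∩ c₂.support := Finset.mem_inter.mpr ⟨h1, h2⟩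
    rw [hz] at this; exact Finset.mem_singleton.mp this
  have hc1 : ∀ x, c₁ (c₁ (c₁ x)) = x := by
    intro x
    have h3 : c₁ ^ 3 = 1 := by rw [← t₁.orderOf]; exact pow_orderOf_eq_one c₁
    have := congrArg (fun f : Perm X => f x) h3
    simpa [pow_succ] using this
  have hc2 : ∀ x, c₂ (c₂ (c₂ x)) = x := by
    intro x
    have h3 : c₂ ^ 3 = 1 := by rw [← t₂.orderOf]; exact pow_orderOf_eq_one c₂
    have := congrArg (fun f : Perm X => f x) h3
    simpa [pow_succ] using this
  obtain ⟨a, hadef⟩ : ∃ a, a = c₁ z := ⟨_, rfl⟩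
  obtain ⟨b, hbdef⟩ : ∃ b, b = c₁ a := ⟨_, rfl⟩
  obtain ⟨c, hcdef⟩ : ∃ c, c = c₂ z := ⟨_, rfl⟩
  obtain ⟨d, hddef⟩ : ∃ d, d = c₂ c := ⟨_, rfl⟩
  have hbz : c₁ b = z := by rw [hbdef, hadef]; exact hc1 z
  have hdz : c₂ d = z := by rw [hddef, hcdef]; exact hc2 z
  have ha : a ≠ z := by rw [hadef]; exact Perm.mem_support.mp hz1
  have hcz : c ≠ z := by rw [hcdef]; exact Perm.mem_support.mp hz2
  have hab : b ≠ a := by
    rw [hbdef]; intro h; apply ha; rw [hadef]; rw [hadef] at h; exact c₁.injective h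
  have hcd : d ≠ c := by
    rw [hddef]; intro h; apply hcz; rw [hcdef]; rw [hcdef] at h; exact c₂.injective h
  have hb : b ≠ z := by
    intro h; apply ha; rw [h] at hbz; rw [hadef]; exact hbz
  have hd : d ≠ z := by
    intro h; apply hcz; rw [h] at hdz; rw [hcdef]; exact hdz
  have ha1 : a ∈ c₁.support := by rw [hadef]; exact Perm.apply_mem_support.mpr hz1
  have hb1 : b ∈ c₁.support := by rw [hbdef]; exact Perm.apply_mem_support.mpr ha1
  have hc2' : c ∈ c₂.support := by rw [hcdef]; exact Perm.apply_mem_support.mpr hz2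
  have hd2 : d ∈ c₂.support := by rw [hddef]; exact Perm.apply_mem_support.mpr hc2'
  have ha2 : a ∉ c₂.support := fun h => ha (huniq a ha1 h)
  have hb2 : b ∉ c₂.support := fun h => hb (huniq b hb1 h)
  have hc1' : c ∉ c₁.support := fun h => hcz (huniq c h hc2')
  have hd1 : d ∉ c₁.support := fun h => hd (huniq d h hd2)
  have hac : a ≠ c := fun h => hc1' (h ▸ ha1)
  have had : a ≠ d := fun h => hd1 (h ▸ ha1)
  have hbc : b ≠ c := fun h => hc1' (h ▸ hb1)
  have hbd : b ≠ d := fun h => hd1 (h ▸ hb1)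
  have hs1 : c₁.support = {z, a, b} := by
    symm
    apply Finset.eq_of_subset_of_card_le
    · intro x hx
      simp only [Finset.mem_insert, Finset.mem_singleton] at hx
      rcases hx with rfl | rfl | rfl <;> assumption
    · rw [t₁.card_support, Finset.card_eq_three.mpr ⟨z, a, b, ha.symm, hb.symm, hab.symm, rfl⟩]
  have hs2 : c₂.support = {z, c, d} := by
    symm
    apply Finset.eq_of_subset_of_card_le
    · intro x hx
      simp only [Finset.mem_insert, Finset.mem_singleton] at hx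
      rcases hx with rfl | rfl | rfl <;> assumption
    · rw [t₂.card_support, Finset.card_eq_three.mpr ⟨z, c, d, hcz.symm, hd.symm, hcd.symm, rfl⟩]
  have hinj : Function.Injective ![a, b, z, c, d] := by
    intro i j hij
    fin_cases i <;> fin_cases j <;>
      first
        | rfl
        | exact absurd hij hab
        | exact absurd hij.symm hab
        | exact absurd hij ha
        | exact absurd hij.symm ha
        | exact absurd hij hb
        | exact absurd hij.symm hb
        | exact absurd hij hcz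
        | exact absurd hij.symm hcz
        | exact absurd hij hd
        | exact absurd hij.symm hd
        | exact absurd hij hcd
        | exact absurd hij.symm hcd
        | exact absurd hij hac
        | exact absurd hij.symm hac
        | exact absurd hij had
        | exact absurd hij.symm had
        | exact absurd hij hbc
        | exact absurd hij.symm hbc
        | exact absurd hij hbd
        | exact absurd hij.symm hbd
  have hrange : ∀ x, x ∉ Set.range (![a, b, z, c, d] : Fin 5 → X) →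
      x ∉ c₁.support ∧ x ∉ c₂.support := by
    intro x hx
    constructor
    · intro h
      apply hx
      rw [hs1] at h
      simp only [Finset.mem_insert, Finset.mem_singleton] at h
      rcases h with rfl | rfl | rfl
      · exact ⟨2, rfl⟩
      · exact ⟨0, rfl⟩
      · exact ⟨1, rfl⟩
    · intro h
      apply hx
      rw [hs2] at h
      simp only [Finset.mem_insert, Finset.mem_singleton] at h
      rcases h with rfl | rfl | rfl
      · exact ⟨2, rfl⟩
      · exact ⟨3, rfl⟩
      · exact ⟨4, rfl⟩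
  refine ⟨⟨![a, b, z, c, d], hinj⟩, ?_, ?_⟩
  · ext x
    by_cases hx : x ∈ Set.range (![a, b, z, c, d] : Fin 5 → X)
    · obtain ⟨i, rfl⟩ := hx
      rw [show (![a, b, z, c, d] : Fin 5 → X) i =
        (⟨![a, b, z, c, d], hinj⟩ : Fin 5 ↪ X) i from rfl, Perm.viaEmbedding_apply]
      fin_cases i
      · show b = c₁ a
        exact hbdef
      · show z = c₁ b
        exact hbz.symm
      · show a = c₁ z
        exact hadef
      · show c = c₁ c
        exact (Perm.notMem_support.mp hc1').symm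
      · show d = c₁ d
        exact (Perm.notMem_support.mp hd1).symm
    · rw [Perm.viaEmbedding_apply_of_notMem _ _ _ hx]
      exact (Perm.notMem_support.mp (hrange x hx).1).symm
  · ext x
    by_cases hx : x ∈ Set.range (![a, b, z, c, d] : Fin 5 → X)
    · obtain ⟨i, rfl⟩ := hx
      rw [show (![a, b, z, c, d] : Fin 5 → X) i =
        (⟨![a, b, z, c, d], hinj⟩ : Fin 5 ↪ X) i from rfl, Perm.viaEmbedding_apply]
      fin_cases i
      · show a = c₂ a
        exact (Perm.notMem_support.mp ha2).symm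
      · show b = c₂ b
        exact (Perm.notMem_support.mp hb2).symm
      · show c = c₂ z
        exact hcdef
      · show d = c₂ c
        exact hddef
      · show z = c₂ d
        exact hdz.symm
    · rw [Perm.viaEmbedding_apply_of_notMem _ _ _ hx]
      exact (Perm.notMem_support.mp (hrange x hx).2).symm

theorem pe_a5 : A5Stmt := by
  intro X _ _ H c₁ c₂ h₁ h₂ t₁ t₂ hcard
  obtain ⟨e, he₁, he₂⟩ := pea5_emb X c₁ c₂ t₁ t₂ hcard
  have k₁ : c₁ = (c₂⁻¹ * c₁) * ⁅c₁, c₂⁆ * (c₂⁻¹ * c₁)⁻¹ := by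
    have := congrArg (Perm.viaEmbeddingHom e) pea5_key₁
    simp only [map_mul, map_inv, map_commutatorElement, Perm.viaEmbeddingHom_apply, he₁, he₂]
      at this
    exact this
  have k₂ : c₂ = (c₁ * c₂ * c₁⁻¹) * ⁅c₁, c₂⁆ * (c₁ * c₂ * c₁⁻¹)⁻¹ := by
    have := congrArg (Perm.viaEmbeddingHom e) pea5_key₂
    simp only [map_mul, map_inv, map_commutatorElement, Perm.viaEmbeddingHom_apply, he₁, he₂]
      at this
    exact this
  refine pea5_abs (⟨c₁, h₁⟩ : H) ⟨c₂, h₂⟩ ((⟨c₂, h₂⟩ : H)⁻¹ * ⟨c₁, h₁⟩)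
    ((⟨c₁, h₁⟩ : H) * ⟨c₂, h₂⟩ * (⟨c₁, h₁⟩ : H)⁻¹) ?_ ?_ ?_
  · intro h
    have h1 : c₁ = 1 := congrArg Subtype.val h
    have := t₁.orderOf
    rw [h1, orderOf_one] at this
    omega
  · apply Subtype.ext
    exact k₁
  · apply Subtype.ext
    exact k₂

end Cfsg.Agent.Helper37.PEA5
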