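import Mathlib
import Cfsg.Agent.Helper21.PEDefs

set_option autoImplicit false

open Equiv Cfsg.Agent.Helper21.PE

namespace Cfsg.Agent.Helper37.PECERT

theorem pe_cert : CertStmt := by
  intro p X ρ x M hp hMp hfix hne ⟨k, hk⟩
  apply hne
  have hcop : Nat.Coprime M (p ^ k) := Nat.Coprime.pow_right k hMp
  have h1 : (ρ ^ (p ^ k)) x = x := by
    rw [← hk, pow_orderOf_eq_one]; rfl
  have hb := Int.gcd_eq_gcd_ab (M : ℤ) ((p ^ k : ℕ) : ℤ)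
  have hg : Int.gcd (M : ℤ) ((p ^ k : ℕ) : ℤ) = 1 := by
    rw [Int.gcd_natCast_natCast]; exact hcop
  rw [hg] at hb
  have h2 : ρ = (ρ ^ M) ^ (Int.gcdA (M : ℤ) ((p ^ k : ℕ) : ℤ)) *
      (ρ ^ (p ^ k)) ^ (Int.gcdB (M : ℤ) ((p ^ k : ℕ) : ℤ)) := by
    rw [← zpow_natCast ρ M, ← zpow_natCast ρ (p ^ k), ← zpow_mul, ← zpow_mul, ← zpow_add, ← hb]
    simp
  rw [h2, Perm.mul_apply,
    Perm.zpow_apply_eq_self_of_apply_eq_self h1, Perm.zpow_apply_eq_self_of_apply_eq_self hfix]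

end Cfsg.Agent.Helper37.PECERT
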