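import Mathlib
import Cfsg.Agent.Helper21.PEDefs

set_option autoImplicit false

open Equiv Cfsg.Agent.Helper21.PE

namespace Cfsg.Agent.Helper37.PEFIXCNT

theorem pe_fixcnt : FixcntStmt := by
  intro p X _ _ ρ hp hne ⟨k, hk⟩
  apply hne
  haveI : Fact p.Prime := ⟨hp⟩
  have hf : ρ ^ p ^ k = 1 := by
    rw [← hk, pow_orderOf_eq_one]
  have h := Equiv.Perm.card_compl_support_modEq (p := p) (n := k) hf
  have h2 : (ρ.support)ᶜ = Finset.univ.filter (fun x => ρ x = x) := by
    ext x
    simp [Perm.mem_support]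
  rw [h2] at h
  exact h.symm

end Cfsg.Agent.Helper37.PEFIXCNT
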