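import Mathlib
import Cfsg.Agent.Helper21.PEDefs

set_option autoImplicit false

open Equiv Cfsg.Agent.Helper21.PE

namespace Cfsg.Agent.Helper37.PEPAR

theorem pe_par : ParStmt := by
  intro Y _ _ v h
  have hnot : ¬ (Subgroup.centralizer {v} ≤ alternatingGroup Y) := by
    rw [Equiv.Perm.centralizer_le_alternating_iff]
    rintro ⟨-, h2, h3⟩
    rcases h with h | ⟨i, hi⟩
    · omega
    · have := h3 i
      omega
  rw [SetLike.not_le_iff_exists] at hnot
  obtain ⟨c, hc, hcA⟩ := hnot
  refine ⟨c, ?_, ?_⟩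
  · rw [Equiv.Perm.mem_alternatingGroup] at hcA
    rcases Int.units_eq_one_or (Perm.sign c) with h1 | h1
    · exact absurd h1 hcA
    · exact h1
  · rw [Subgroup.mem_centralizer_iff] at hc
    exact (hc v (Set.mem_singleton v)).symm

end Cfsg.Agent.Helper37.PEPAR
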