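import Mathlib
import Cfsg.Agent.Helper21.PEDefs

set_option autoImplicit false

open Equiv Cfsg.Agent.Helper21.PE

namespace Cfsg.Agent.Helper37.PESHIFT

/-- value of `finRotate` -/
theorem peshift_val (n : ℕ) (y : Fin n) : (finRotate n y).val = (y.val + 1) % n := by
  rcases n with _ | k
  · exact y.elim0
  · rw [coe_finRotate]
    by_cases h : y = Fin.last k
    · rw [if_pos h, h, Fin.val_last, Nat.mod_self]
    · rw [if_neg h]
      have : y.val < k := Fin.val_lt_last h
      rw [Nat.mod_eq_of_lt (by omega)]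

/-- value of a power of `finRotate` -/
theorem peshift_pow_val (n s : ℕ) (y : Fin n) :
    ((finRotate n ^ s) y).val = (y.val + s) % n := by
  induction s with
  | zero => simp [Nat.mod_eq_of_lt y.isLt]
  | succ s ih =>
    rw [pow_succ', Perm.mul_apply, peshift_val, ih, Nat.mod_add_mod, add_assoc]

theorem peshift_mod (n y s : ℕ) (hy : y < n) (hs : s < n) :
    ((y + s) % n = y + s ∧ y + s < n) ∨ ((y + s) % n = y + s - n ∧ n ≤ y + s) := by
  rcases Nat.lt_or_ge (y + s) n with h | h
  · left; exact ⟨Nat.mod_eq_of_lt h, h⟩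
  · right
    refine ⟨?_, h⟩
    rw [Nat.mod_eq_sub_mod h, Nat.mod_eq_of_lt (by omega)]

theorem peshift_comb (n : ℕ) (a b c : Fin n) (hodd : Odd n) (hab : a < b) (hbc : b < c)
    (hnot : ¬ (b.val - a.val = c.val - b.val ∧ 3 * (b.val - a.val) = n)) :
    ∃ s : ℕ, ∃ x y : Fin n, x ∈ ({a, b, c} : Finset (Fin n)) ∧
      y ∈ ({a, b, c} : Finset (Fin n)) ∧ x.val = (y.val + s) % n ∧
      ∀ x' ∈ ({a, b, c} : Finset (Fin n)), ∀ y' ∈ ({a, b, c} : Finset (Fin n)),
        x'.val = (y'.val + s) % n → x' = x := by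
  obtain ⟨k, hk⟩ := hodd
  have ha := a.isLt
  have hb := b.isLt
  have hc := c.isLt
  rw [Fin.lt_def] at hab hbc
  by_cases h12 : b.val - a.val = c.val - b.val
  · have h3 : 3 * (b.val - a.val) ≠ n := fun h => hnot ⟨h12, h⟩
    have hs : n - c.val + a.val < n := by omega
    have hma := peshift_mod n a.val _ ha hs
    have hmb := peshift_mod n b.val _ hb hs
    have hmc := peshift_mod n c.val _ hc hs
    refine ⟨n - c.val + a.val, a, c, by simp, by simp, by omega, ?_⟩
    intro x' hx' y' hy' h
    simp only [Finset.mem_insert, Finset.mem_singleton] at hx' hy'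
    rcases hx' with h1 | h1 | h1 <;> rcases hy' with h2 | h2 | h2 <;>
      (rw [h2] at h; have e1 := congrArg Fin.val h1; apply Fin.ext; omega)
  · by_cases h31 : n - (c.val - a.val) = b.val - a.val
    · have hs : c.val - b.val < n := by omega
      have hma := peshift_mod n a.val _ ha hs
      have hmb := peshift_mod n b.val _ hb hs
      have hmc := peshift_mod n c.val _ hc hs
      refine ⟨c.val - b.val, c, b, by simp, by simp, by omega, ?_⟩
      intro x' hx' y' hy' h
      simp only [Finset.mem_insert, Finset.mem_singleton] at hx' hy'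
      rcases hx' with h1 | h1 | h1 <;> rcases hy' with h2 | h2 | h2 <;>
        (rw [h2] at h; have e1 := congrArg Fin.val h1; apply Fin.ext; omega)
    · have hs : b.val - a.val < n := by omega
      have hma := peshift_mod n a.val _ ha hs
      have hmb := peshift_mod n b.val _ hb hs
      have hmc := peshift_mod n c.val _ hc hs
      refine ⟨b.val - a.val, b, a, by simp, by simp, by omega, ?_⟩
      intro x' hx' y' hy' h
      simp only [Finset.mem_insert, Finset.mem_singleton] at hx' hy'
      rcases hx' with h1 | h1 | h1 <;> rcases hy' with h2 | h2 | h2 <;>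
        (rw [h2] at h; have e1 := congrArg Fin.val h1; apply Fin.ext; omega)

theorem pe_shift : A5Stmt → ShiftStmt := by
  intro hA5 n H θ a b c hn hodd hσ hθ h3 hab hbc hsupp hnot
  obtain ⟨s, x, y, hx, hy, hxy, huniq⟩ := peshift_comb n a b c hodd hab hbc hnot
  obtain ⟨g, hg⟩ : ∃ g : Perm (Fin n), g = finRotate n ^ s := ⟨_, rfl⟩
  have hgH : g ∈ H := by rw [hg]; exact H.pow_mem hσ s
  have hval : ∀ w : Fin n, (g w).val = (w.val + s) % n := by
    intro w; rw [hg]; exact peshift_pow_val n s w
  have h3' : (g * θ * g⁻¹).IsThreeCycle := by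
    show (g * θ * g⁻¹).cycleType = {3}
    rw [Perm.cycleType_conj]
    exact h3
  refine hA5 (Fin n) H θ (g * θ * g⁻¹) hθ (H.mul_mem (H.mul_mem hgH hθ) (H.inv_mem hgH)) h3 h3' ?_
  rw [Perm.support_conj, hsupp]
  have hint : ({a, b, c} : Finset (Fin n)) ∩ Finset.map g.toEmbedding {a, b, c} = {x} := by
    ext w
    simp only [Finset.mem_inter, Finset.mem_map, Finset.mem_singleton, Equiv.coe_toEmbedding]
    constructor
    · rintro ⟨hw, y', hy', rfl⟩
      exact huniq _ hw y' hy' (hval y')
    · rintro rfl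
      refine ⟨hx, y, hy, ?_⟩
      apply Fin.ext
      rw [hval, hxy]
  rw [hint, Finset.card_singleton]

end Cfsg.Agent.Helper37.PESHIFT
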