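import Mathlib
import Cfsg.Agent.Helper21.PEDefs

set_option autoImplicit false

open Equiv Cfsg.Agent.Helper21.PE

namespace Cfsg.Agent.Helper37.PESYM

theorem pesym_order_conj {G : Type*} [Group G] (g x : G) :
    orderOf (g * x * g⁻¹) = orderOf x := by
  have := orderOf_injective (MulAut.conj g).toMonoidHom (MulAut.conj g).injective x
  simpa [MulAut.conj_apply] using this

theorem pe_sym : SymStmt := by
  intro p X _ _ u w ⟨g, hg, hgood⟩
  refine ⟨g⁻¹, by simpa using hg, ?_⟩
  obtain ⟨h1, h2⟩ := hgood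
  constructor
  · rintro ⟨k, hk⟩
    apply h1
    refine ⟨k, ?_⟩
    rw [← hk]
    -- orderOf (w * (g u g⁻¹)) = orderOf (u * (g⁻¹ w g))
    have e1 : w * (g * u * g⁻¹) = g * ((g⁻¹ * w * g⁻¹⁻¹) * u) * g⁻¹ := by
      simp [mul_assoc]
    have e3 : u * (g⁻¹ * w * g⁻¹⁻¹) = u * ((g⁻¹ * w * g⁻¹⁻¹) * u) * u⁻¹ := by
      simp [mul_assoc]
    rw [e1, pesym_order_conj, e3, pesym_order_conj]
  · intro hs
    apply h2
    -- closure {w, g u g⁻¹} is the image of closure {u, g⁻¹ w g} under conj g
    have hmap : Subgroup.map (MulAut.conj g).toMonoidHom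
        (Subgroup.closure ({u, g⁻¹ * w * g⁻¹⁻¹} : Set (Perm X))) =
        Subgroup.closure ({w, g * u * g⁻¹} : Set (Perm X)) := by
      rw [MonoidHom.map_closure]
      congr 1
      ext x
      simp only [Set.image_insert_eq, Set.image_singleton, Set.mem_insert_iff,
        Set.mem_singleton_iff, MulEquiv.coe_toMonoidHom, MulAut.conj_apply]
      constructor
      · rintro (h | h)
        · right; exact h
        · left; rw [h]; simp [mul_assoc]
      · rintro (h | h)
        · right; rw [h]; simp [mul_assoc]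
        · left; exact h
    rw [← hmap]
    haveI := hs
    exact Group.isSolvable_of_surjective
      (MonoidHom.subgroupMap_surjective (MulAut.conj g).toMonoidHom
        (Subgroup.closure ({u, g⁻¹ * w * g⁻¹⁻¹} : Set (Perm X))))

end Cfsg.Agent.Helper37.PESYM
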