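import Mathlib
import Cfsg.Agent.Helper37.Symp
import Cfsg.Agent.Helper5.SympCard

set_option autoImplicit false

namespace Cfsg.Agent.Helper37

open Matrix

universe u

variable {F : Type u} [Field F] {n : ℕ}

/-- block matrices with diagonal blocks -/
def spBlk (a b c d : Fin n → F) : Matrix (Fin n ⊕ Fin n) (Fin n ⊕ Fin n) F :=
  Matrix.fromBlocks (Matrix.diagonal a) (Matrix.diagonal b) (Matrix.diagonal c) (Matrix.diagonal d)

theorem spBlk_mul (a b c d a' b' c' d' : Fin n → F) :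
    spBlk a b c d * spBlk a' b' c' d' =
      spBlk (a * a' + b * c') (a * b' + b * d') (c * a' + d * c') (c * b' + d * d') := by
  unfold spBlk
  rw [Matrix.fromBlocks_multiply]
  simp only [Matrix.diagonal_mul_diagonal, Matrix.diagonal_add]
  rfl

theorem spBlk_mem (a b c d : Fin n → F) (h : ∀ j, a j * d j - c j * b j = 1) :
    spBlk a b c d ∈ Matrix.symplecticGroup (Fin n) F := by
  unfold spBlk
  rw [SymplecticGroup.fromBlocks_mem_iff]
  simp only [Matrix.diagonal_transpose, Matrix.diagonal_mul_diagonal]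
  refine ⟨?_, ?_, ?_⟩
  · congr 1; funext j; ring
  · congr 1; funext j; ring
  · rw [Matrix.diagonal_sub, ← Matrix.diagonal_one]
    congr 1; funext j; exact h j

theorem spBlk_inj (a b c d a' b' c' d' : Fin n → F) (h : spBlk a b c d = spBlk a' b' c' d') :
    a = a' ∧ b = b' ∧ c = c' ∧ d = d' := by
  unfold spBlk at h
  obtain ⟨h1, h2, h3, h4⟩ := Matrix.fromBlocks_inj.mp h
  exact ⟨Matrix.diagonal_injective h1, Matrix.diagonal_injective h2,
    Matrix.diagonal_injective h3, Matrix.diagonal_injective h4⟩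

theorem sp2_det (g : Matrix.symplecticGroup (Fin 1) F) :
    g.1 (Sum.inl 0) (Sum.inl 0) * g.1 (Sum.inr 0) (Sum.inr 0)
      - g.1 (Sum.inr 0) (Sum.inl 0) * g.1 (Sum.inl 0) (Sum.inr 0) = 1 := by
  have h1 := g.2
  rw [← Matrix.fromBlocks_toBlocks g.1, SymplecticGroup.fromBlocks_mem_iff] at h1
  have h2 := congrFun (congrFun h1.2.2 0) 0
  simpa [Matrix.mul_apply, Matrix.toBlocks₁₁, Matrix.toBlocks₁₂, Matrix.toBlocks₂₁,
    Matrix.toBlocks₂₂] using h2

/-- the block diagonal embedding of `Sp_2(F)^n` in `Sp_{2n}(F)` -/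
def spPhi (F : Type u) [Field F] (n : ℕ) :
    (Fin n → Matrix.symplecticGroup (Fin 1) F) →* Matrix.symplecticGroup (Fin n) F where
  toFun g := ⟨spBlk (fun j => (g j).1 (Sum.inl 0) (Sum.inl 0)) (fun j => (g j).1 (Sum.inl 0) (Sum.inr 0))
    (fun j => (g j).1 (Sum.inr 0) (Sum.inl 0)) (fun j => (g j).1 (Sum.inr 0) (Sum.inr 0)),
    spBlk_mem _ _ _ _ (fun j => sp2_det (g j))⟩
  map_one' := by
    apply Subtype.ext
    ext i j
    rcases i with i | i <;> rcases j with j | j <;>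
      simp [spBlk, Matrix.one_apply]
  map_mul' g h := by
    apply Subtype.ext
    simp only [Pi.mul_apply, MulMemClass.coe_mul, MulMemClass.mk_mul_mk]
    rw [spBlk_mul]
    congr 1 <;> funext j <;> simp [Matrix.mul_apply, Fintype.sum_sum_type]

theorem spPhi_injective : Function.Injective (spPhi F n) := by
  intro g h hgh
  have h1 := congrArg Subtype.val hgh
  simp only [spPhi, MonoidHom.coe_mk, OneHom.coe_mk] at h1
  obtain ⟨ha, hb, hc, hd⟩ := spBlk_inj _ _ _ _ _ _ _ _ h1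
  funext j
  apply Subtype.ext
  ext x y
  rcases x with x | x <;> rcases y with y | y <;>
    rw [Subsingleton.elim x 0, Subsingleton.elim y 0]
  · exact congrFun ha j
  · exact congrFun hb j
  · exact congrFun hc j
  · exact congrFun hd j



/-- permutation matrices -/
def spPm (F : Type u) [Field F] {n : ℕ} (σ : Equiv.Perm (Fin n)) : Matrix (Fin n) (Fin n) F :=
  σ.toPEquiv.toMatrix

theorem spPm_mul (σ τ : Equiv.Perm (Fin n)) : spPm F σ * spPm F τ = spPm F (τ * σ) := by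
  unfold spPm
  rw [← PEquiv.toMatrix_trans, ← Equiv.toPEquiv_trans]
  rfl

theorem spPm_one : spPm F (1 : Equiv.Perm (Fin n)) = 1 := by
  unfold spPm
  rw [← PEquiv.toMatrix_refl]
  rfl

theorem spPm_transpose (σ : Equiv.Perm (Fin n)) : (spPm F σ)ᵀ = spPm F σ⁻¹ := by
  unfold spPm
  rw [← PEquiv.toMatrix_symm, ← Equiv.toPEquiv_symm]
  rfl

theorem spPm_conj_diag (σ : Equiv.Perm (Fin n)) (a : Fin n → F) :
    spPm F σ⁻¹ * Matrix.diagonal a * spPm F σ = Matrix.diagonal (a ∘ ⇑σ⁻¹) := by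
  unfold spPm
  rw [PEquiv.toMatrix_toPEquiv_mul, PEquiv.mul_toMatrix_toPEquiv]
  rw [Matrix.submatrix_submatrix]
  exact Matrix.submatrix_diagonal_equiv a σ⁻¹

theorem spPm_apply (σ : Equiv.Perm (Fin n)) (i j : Fin n) :
    spPm F σ i j = if σ i = j then 1 else 0 := by
  unfold spPm
  rw [PEquiv.toMatrix_apply]
  simp [Equiv.toPEquiv_apply, eq_comm]

/-- the permutation matrices in `Sp_{2n}` -/
def spPsiM (F : Type u) [Field F] {n : ℕ} (σ : Equiv.Perm (Fin n)) :
    Matrix (Fin n ⊕ Fin n) (Fin n ⊕ Fin n) F :=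
  Matrix.fromBlocks (spPm F σ⁻¹) 0 0 (spPm F σ⁻¹)

theorem spPsiM_mem (σ : Equiv.Perm (Fin n)) : spPsiM F σ ∈ Matrix.symplecticGroup (Fin n) F := by
  unfold spPsiM
  rw [SymplecticGroup.fromBlocks_mem_iff]
  refine ⟨by simp, by simp, ?_⟩
  rw [spPm_transpose, spPm_mul]
  simp [spPm_one]

theorem spPsiM_mul (σ τ : Equiv.Perm (Fin n)) : spPsiM F σ * spPsiM F τ = spPsiM F (σ * τ) := by
  unfold spPsiM
  rw [Matrix.fromBlocks_multiply]
  simp [spPm_mul]

theorem spPsiM_one : spPsiM F (1 : Equiv.Perm (Fin n)) = 1 := by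
  unfold spPsiM
  simp [spPm_one, Matrix.fromBlocks_one]

theorem spPsiM_conj (σ : Equiv.Perm (Fin n)) (a b c d : Fin n → F) :
    spPsiM F σ * spBlk a b c d * spPsiM F σ⁻¹ =
      spBlk (a ∘ ⇑σ⁻¹) (b ∘ ⇑σ⁻¹) (c ∘ ⇑σ⁻¹) (d ∘ ⇑σ⁻¹) := by
  unfold spPsiM spBlk
  rw [Matrix.fromBlocks_multiply, Matrix.fromBlocks_multiply]
  simp only [Matrix.zero_mul, Matrix.mul_zero, add_zero, zero_add, inv_inv]
  rw [spPm_conj_diag, spPm_conj_diag, spPm_conj_diag, spPm_conj_diag]

/-- the permutation embedding -/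
def spPsi (F : Type u) [Field F] (n : ℕ) :
    Equiv.Perm (Fin n) →* Matrix.symplecticGroup (Fin n) F where
  toFun σ := ⟨spPsiM F σ, spPsiM_mem σ⟩
  map_one' := Subtype.ext spPsiM_one
  map_mul' σ τ := Subtype.ext (spPsiM_mul σ τ).symm

theorem spPsi_conj (σ : Equiv.Perm (Fin n)) (g : Fin n → Matrix.symplecticGroup (Fin 1) F) :
    spPsi F n σ * spPhi F n g * (spPsi F n σ)⁻¹ = spPhi F n (g ∘ ⇑σ⁻¹) := by
  rw [← map_inv]
  apply Subtype.ext
  simp only [MulMemClass.coe_mul]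
  exact spPsiM_conj σ _ _ _ _

theorem sgnBlock_eq (ε : Fin n → ℤˣ) :
    sgnBlock F (Fin n) ε = spBlk (fun j => (((ε j : ℤˣ) : ℤ) : F)) 0 0
      (fun j => (((ε j : ℤˣ) : ℤ) : F)) := by
  unfold sgnBlock spBlk
  have h0 : Matrix.diagonal (0 : Fin n → F) = 0 := Matrix.diagonal_zero
  rw [h0]

theorem spPhi_comm_sgn (g : Fin n → Matrix.symplecticGroup (Fin 1) F) (ε : Fin n → ℤˣ) :
    spPhi F n g * sgnSpHom F (Fin n) ε = sgnSpHom F (Fin n) ε * spPhi F n g := by
  apply Subtype.ext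
  simp only [MulMemClass.coe_mul]
  simp only [spPhi, sgnSpHom, MonoidHom.coe_mk, OneHom.coe_mk]
  rw [sgnBlock_eq, spBlk_mul, spBlk_mul]
  congr 1 <;> funext j <;> simp [mul_comm]

theorem spPsi_conj_sgn (σ : Equiv.Perm (Fin n)) (ε : Fin n → ℤˣ) :
    spPsi F n σ * sgnSpHom F (Fin n) ε * (spPsi F n σ)⁻¹ = sgnSpHom F (Fin n) (ε ∘ ⇑σ⁻¹) := by
  rw [← map_inv]
  apply Subtype.ext
  simp only [MulMemClass.coe_mul]
  simp only [spPsi, sgnSpHom, MonoidHom.coe_mk, OneHom.coe_mk]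
  rw [sgnBlock_eq, spPsiM_conj, sgnBlock_eq]
  rfl

/-- a block diagonal matrix which is a permutation matrix is trivial -/
theorem spPhi_eq_spPsi (g : Fin n → Matrix.symplecticGroup (Fin 1) F) (σ : Equiv.Perm (Fin n))
    (h : spPhi F n g = spPsi F n σ) : σ = 1 := by
  have h1 := congrArg Subtype.val h
  simp only [spPhi, spPsi, MonoidHom.coe_mk, OneHom.coe_mk] at h1
  unfold spBlk spPsiM at h1
  have h2 := (Matrix.fromBlocks_inj.mp h1).1
  have h3 : σ⁻¹ = 1 := by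
    ext i
    by_contra hne
    have h4 := congrFun (congrFun h2 i) (σ⁻¹ i)
    rw [spPm_apply, if_pos rfl, Matrix.diagonal_apply_ne _ (fun hh => hne (by rw [← hh]; rfl))] at h4
    exact zero_ne_one h4
  exact inv_eq_one.mp h3

end Cfsg.Agent.Helper37
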