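import Mathlib
import Cfsg.Agent.Helper37.SpSyl

set_option autoImplicit false

namespace Cfsg.Agent.Helper37

open Matrix

universe u

variable {F : Type u} [Field F]

/-- extensionality for `2 × 2` matrices indexed by `Fin 1 ⊕ Fin 1` -/
theorem m2_ext (A B : Matrix (Fin 1 ⊕ Fin 1) (Fin 1 ⊕ Fin 1) F)
    (h11 : A (Sum.inl 0) (Sum.inl 0) = B (Sum.inl 0) (Sum.inl 0))
    (h12 : A (Sum.inl 0) (Sum.inr 0) = B (Sum.inl 0) (Sum.inr 0))
    (h21 : A (Sum.inr 0) (Sum.inl 0) = B (Sum.inr 0) (Sum.inl 0))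
    (h22 : A (Sum.inr 0) (Sum.inr 0) = B (Sum.inr 0) (Sum.inr 0)) : A = B := by
  ext i j
  rcases i with i | i <;> rcases j with j | j <;>
    rw [Subsingleton.elim i 0, Subsingleton.elim j 0] <;> assumption

theorem m2_mul_apply (A B : Matrix (Fin 1 ⊕ Fin 1) (Fin 1 ⊕ Fin 1) F) (i j : Fin 1 ⊕ Fin 1) :
    (A * B) i j = A i (Sum.inl 0) * B (Sum.inl 0) j + A i (Sum.inr 0) * B (Sum.inr 0) j := by
  simp [Matrix.mul_apply, Fintype.sum_sum_type]

/-- non-scalar matrices -/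
def m2NonScalar (x : Matrix (Fin 1 ⊕ Fin 1) (Fin 1 ⊕ Fin 1) F) : Prop :=
  x (Sum.inl 0) (Sum.inr 0) ≠ 0 ∨ x (Sum.inr 0) (Sum.inl 0) ≠ 0 ∨
    x (Sum.inl 0) (Sum.inl 0) ≠ x (Sum.inr 0) (Sum.inr 0)

theorem m2_scalar_of_not (x : Matrix (Fin 1 ⊕ Fin 1) (Fin 1 ⊕ Fin 1) F) (h : ¬ m2NonScalar x) :
    x = (x (Sum.inl 0) (Sum.inl 0)) • (1 : Matrix (Fin 1 ⊕ Fin 1) (Fin 1 ⊕ Fin 1) F) := by
  unfold m2NonScalar at h
  push Not at h
  obtain ⟨hb, hc, hd⟩ := h
  apply m2_ext <;> simp [hb, hc, hd]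

/-- the centralizer of a non-scalar `2 × 2` matrix consists of the polynomials in it -/
theorem m2_centralizer (x y : Matrix (Fin 1 ⊕ Fin 1) (Fin 1 ⊕ Fin 1) F) (hx : m2NonScalar x)
    (h : y * x = x * y) :
    ∃ α β : F, y = α • (1 : Matrix (Fin 1 ⊕ Fin 1) (Fin 1 ⊕ Fin 1) F) + β • x := by
  have h11 := congrFun (congrFun h (Sum.inl 0)) (Sum.inl 0)
  have h12 := congrFun (congrFun h (Sum.inl 0)) (Sum.inr 0)
  have h21 := congrFun (congrFun h (Sum.inr 0)) (Sum.inl 0)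
  have h22 := congrFun (congrFun h (Sum.inr 0)) (Sum.inr 0)
  rw [m2_mul_apply, m2_mul_apply] at h11 h12 h21 h22
  by_cases hb : x (Sum.inl 0) (Sum.inr 0) = 0
  swap
  · refine ⟨y (Sum.inl 0) (Sum.inl 0) - y (Sum.inl 0) (Sum.inr 0) / x (Sum.inl 0) (Sum.inr 0) *
      x (Sum.inl 0) (Sum.inl 0), y (Sum.inl 0) (Sum.inr 0) / x (Sum.inl 0) (Sum.inr 0), ?_⟩
    apply m2_ext
    · simp
    · simp; field_simp
    · simp; field_simp; linear_combination -h11
    · simp; field_simp; linear_combination -h12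
  by_cases hc : x (Sum.inr 0) (Sum.inl 0) = 0
  swap
  · refine ⟨y (Sum.inl 0) (Sum.inl 0) - y (Sum.inr 0) (Sum.inl 0) / x (Sum.inr 0) (Sum.inl 0) *
      x (Sum.inl 0) (Sum.inl 0), y (Sum.inr 0) (Sum.inl 0) / x (Sum.inr 0) (Sum.inl 0), ?_⟩
    apply m2_ext
    · simp
    · simp; field_simp; linear_combination h11
    · simp; field_simp
    · simp; field_simp; linear_combination h21
  have had : x (Sum.inl 0) (Sum.inl 0) ≠ x (Sum.inr 0) (Sum.inr 0) := by
    rcases hx with h | h | h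
    · exact absurd hb h
    · exact absurd hc h
    · exact h
  have hne : x (Sum.inl 0) (Sum.inl 0) - x (Sum.inr 0) (Sum.inr 0) ≠ 0 := sub_ne_zero.mpr had
  rw [hb] at h12
  rw [hc] at h21
  have hq : y (Sum.inl 0) (Sum.inr 0) = 0 := by
    have : y (Sum.inl 0) (Sum.inr 0) *
        (x (Sum.inl 0) (Sum.inl 0) - x (Sum.inr 0) (Sum.inr 0)) = 0 := by
      linear_combination -h12
    rcases mul_eq_zero.mp this with h | h
    · exact h
    · exact absurd h hne
  have hr : y (Sum.inr 0) (Sum.inl 0) = 0 := by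
    have : y (Sum.inr 0) (Sum.inl 0) *
        (x (Sum.inl 0) (Sum.inl 0) - x (Sum.inr 0) (Sum.inr 0)) = 0 := by
      linear_combination h21
    rcases mul_eq_zero.mp this with h | h
    · exact h
    · exact absurd h hne
  refine ⟨y (Sum.inl 0) (Sum.inl 0) - (y (Sum.inl 0) (Sum.inl 0) - y (Sum.inr 0) (Sum.inr 0)) /
    (x (Sum.inl 0) (Sum.inl 0) - x (Sum.inr 0) (Sum.inr 0)) * x (Sum.inl 0) (Sum.inl 0),
    (y (Sum.inl 0) (Sum.inl 0) - y (Sum.inr 0) (Sum.inr 0)) /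
    (x (Sum.inl 0) (Sum.inl 0) - x (Sum.inr 0) (Sum.inr 0)), ?_⟩
  apply m2_ext
  · simp
  · simp [hb, hq]
  · simp [hc, hr]
  · simp; field_simp; ring

theorem m2_comm_of_centralizer (x y y' : Matrix (Fin 1 ⊕ Fin 1) (Fin 1 ⊕ Fin 1) F)
    (hx : m2NonScalar x) (h : y * x = x * y) (h' : y' * x = x * y') : y * y' = y' * y := by
  obtain ⟨α, β, e⟩ := m2_centralizer x y hx h
  obtain ⟨α', β', e'⟩ := m2_centralizer x y' hx h'
  rw [e, e']
  have hc : Commute (α • (1 : Matrix (Fin 1 ⊕ Fin 1) (Fin 1 ⊕ Fin 1) F) + β • x)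
      (α' • (1 : Matrix (Fin 1 ⊕ Fin 1) (Fin 1 ⊕ Fin 1) F) + β' • x) := by
    apply Commute.add_left
    · exact (Commute.one_left _).smul_left α
    · apply Commute.smul_left
      apply Commute.add_right
      · exact (Commute.one_right x).smul_right α'
      · exact (Commute.refl x).smul_right β'
  exact hc.eq

/-- a matrix of `Sp_2` of trace zero squares to `-1` -/
theorem sp2_sq_of_trace_zero (w : Matrix.symplecticGroup (Fin 1) F)
    (h : w.1 (Sum.inl 0) (Sum.inl 0) + w.1 (Sum.inr 0) (Sum.inr 0) = 0) :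
    w.1 * w.1 = -1 := by
  have hd := sp2_det w
  apply m2_ext <;> rw [m2_mul_apply] <;> simp
  · linear_combination (-1 : F) * hd + w.1 (Sum.inl 0) (Sum.inl 0) * h
  · linear_combination w.1 (Sum.inl 0) (Sum.inr 0) * h
  · linear_combination w.1 (Sum.inr 0) (Sum.inl 0) * h
  · linear_combination (-1 : F) * hd + w.1 (Sum.inr 0) (Sum.inr 0) * h

theorem sp2_inv_mul (s : Matrix.symplecticGroup (Fin 1) F) : (s⁻¹).1 * s.1 = 1 := by
  have := congrArg Subtype.val (inv_mul_cancel s)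
  exact this

theorem sp2_mul_inv (s : Matrix.symplecticGroup (Fin 1) F) : s.1 * (s⁻¹).1 = 1 := by
  have := congrArg Subtype.val (mul_inv_cancel s)
  exact this

/-- anticommuting with an invertible matrix forces trace zero -/
theorem sp2_trace_zero_of_anticomm (h2 : (2 : F) ≠ 0) (s w : Matrix.symplecticGroup (Fin 1) F)
    (h : s.1 * w.1 = -(w.1 * s.1)) :
    w.1 (Sum.inl 0) (Sum.inl 0) + w.1 (Sum.inr 0) (Sum.inr 0) = 0 := by
  have h1 : w.1 = -((s⁻¹).1 * w.1 * s.1) := by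
    have e : (s⁻¹).1 * (s.1 * w.1) = (s⁻¹).1 * (-(w.1 * s.1)) := by rw [h]
    rw [← Matrix.mul_assoc, sp2_inv_mul, Matrix.one_mul] at e
    conv_lhs => rw [e]
    rw [Matrix.mul_neg, Matrix.mul_assoc]
  have h3 : Matrix.trace w.1 = - Matrix.trace w.1 := by
    conv_lhs => rw [h1]
    rw [Matrix.trace_neg, Matrix.trace_mul_cycle, sp2_mul_inv, Matrix.one_mul]
  have h4 : Matrix.trace w.1 = 0 := by
    have : (2 : F) * Matrix.trace w.1 = 0 := by linear_combination h3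
    rcases mul_eq_zero.mp this with h | h
    · exact absurd h h2
    · exact h
  simpa [Matrix.trace, Fintype.sum_sum_type] using h4

/-- in a finite non-abelian `p`-group there is a non-central element of the second centre -/
theorem pgroup_second_center {P : Type*} [Group P] [Finite P] {p : ℕ} [Fact p.Prime]
    (hP : IsPGroup p P) (hna : ∃ u v : P, u * v ≠ v * u) :
    ∃ x : P, x ∉ Subgroup.center P ∧ ∀ t : P, t * x * t⁻¹ * x⁻¹ ∈ Subgroup.center P := by
  obtain ⟨u, v, huv⟩ := hna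
  haveI : Nontrivial (P ⧸ Subgroup.center P) := by
    rw [QuotientGroup.nontrivial_iff]
    intro h
    apply huv
    have hu : u ∈ Subgroup.center P := by rw [h]; trivial
    exact (Subgroup.mem_center_iff.mp hu v).symm
  have hQ : IsPGroup p (P ⧸ Subgroup.center P) := hP.to_quotient _
  haveI := hQ.center_nontrivial
  obtain ⟨⟨z, hz⟩, hz1⟩ := exists_ne (1 : Subgroup.center (P ⧸ Subgroup.center P))
  obtain ⟨x, rfl⟩ := QuotientGroup.mk_surjective z
  refine ⟨x, ?_, ?_⟩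
  · intro hx
    apply hz1
    apply Subtype.ext
    exact (QuotientGroup.eq_one_iff x).mpr hx
  · intro t
    rw [← QuotientGroup.eq_one_iff]
    have := Subgroup.mem_center_iff.mp hz (t : P ⧸ Subgroup.center P)
    simp only [QuotientGroup.mk_mul, QuotientGroup.mk_inv]
    rw [this]
    group

end Cfsg.Agent.Helper37
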