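import Mathlib
import Cfsg.Agent.Helper37.Sp2A

set_option autoImplicit false

namespace Cfsg.Agent.Helper37

open Matrix

open scoped commutatorElement

universe u

variable {F : Type u} [Field F]

/-- the commutator map into the centre -/
def secondCenterHom {P : Type*} [Group P] (x : P)
    (hx2 : ∀ t : P, t * x * t⁻¹ * x⁻¹ ∈ Subgroup.center P) : P →* Subgroup.center P where
  toFun t := ⟨t * x * t⁻¹ * x⁻¹, hx2 t⟩
  map_one' := by
    apply Subtype.ext
    show 1 * x * 1⁻¹ * x⁻¹ = 1
    rw [one_mul, inv_one, mul_one, mul_inv_cancel]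
  map_mul' s t := by
    apply Subtype.ext
    show s * t * x * (s * t)⁻¹ * x⁻¹ = (s * x * s⁻¹ * x⁻¹) * (t * x * t⁻¹ * x⁻¹)
    have hc := Subgroup.mem_center_iff.mp (hx2 t)
    have e1 : s * t * x * (s * t)⁻¹ * x⁻¹ = s * (t * x * t⁻¹ * x⁻¹) * (x * s⁻¹ * x⁻¹) := by
      simp only [_root_.mul_inv_rev, mul_assoc, inv_mul_cancel_left]
    have e2 : (t * x * t⁻¹ * x⁻¹) * s * (x * s⁻¹ * x⁻¹) =
        (t * x * t⁻¹ * x⁻¹) * (s * x * s⁻¹ * x⁻¹) := by
      simp only [mul_assoc]
    rw [e1, hc s, e2]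
    exact (hc (s * x * s⁻¹ * x⁻¹)).symm


/-- commutators centralize the elements of the second centre -/
theorem comm_of_second_center {P : Type*} [Group P] (x : P)
    (hx2 : ∀ t : P, t * x * t⁻¹ * x⁻¹ ∈ Subgroup.center P) :
    ∀ w ∈ commutator P, w * x = x * w := by
  have hle : commutator P ≤ (secondCenterHom x hx2).ker := by
    rw [commutator_eq_closure, Subgroup.closure_le]
    rintro _ ⟨p, q, rfl⟩
    rw [SetLike.mem_coe, MonoidHom.mem_ker, commutatorElement_def, map_mul, map_mul, map_mul,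
      map_inv, map_inv]
    have hc : secondCenterHom x hx2 p * secondCenterHom x hx2 q =
        secondCenterHom x hx2 q * secondCenterHom x hx2 p := by
      apply Subtype.ext
      exact (Subgroup.mem_center_iff.mp (secondCenterHom x hx2 q).2 (secondCenterHom x hx2 p).1)
    rw [hc, mul_inv_cancel_right, mul_inv_cancel]
  intro w hw
  have h0 : secondCenterHom x hx2 w = 1 := MonoidHom.mem_ker.mp (hle hw)
  have h1 : w * x * w⁻¹ * x⁻¹ = 1 := by
    have h3 := Subtype.ext_iff.mp h0
    rw [Subgroup.coe_one] at h3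
    exact h3
  have h2 : w * x = (w * x * w⁻¹ * x⁻¹) * (x * w) := by
    group
  rw [h2, h1, one_mul]

/-- structure of a non-abelian finite `2`-subgroup of `Sp_2(F)`: the commutator subgroup is
abelian and contains all squares -/
theorem sp2_two_group (h2 : (2 : F) ≠ 0) (T : Subgroup (Matrix.symplecticGroup (Fin 1) F))
    [Finite T] (hT : IsPGroup 2 T) (hna : ∃ u ∈ T, ∃ v ∈ T, u * v ≠ v * u) :
    (∀ a ∈ commutator T, ∀ b ∈ commutator T, a * b = b * a) ∧
      (∀ t : T, t ^ 2 ∈ commutator T) := by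
  haveI : Fact (Nat.Prime 2) := ⟨Nat.prime_two⟩
  obtain ⟨u, hu, v, hv, huv⟩ := hna
  obtain ⟨x, hxc, hx2⟩ := pgroup_second_center hT
    ⟨⟨u, hu⟩, ⟨v, hv⟩, fun h => huv (congrArg Subtype.val h)⟩
  -- x non-scalar
  have hxns : m2NonScalar x.1.1 := by
    by_contra hs
    apply hxc
    rw [Subgroup.mem_center_iff]
    intro g
    apply Subtype.ext
    apply Subtype.ext
    show g.1.1 * x.1.1 = x.1.1 * g.1.1
    rw [m2_scalar_of_not _ hs]
    simp
  -- central elements are ±1
  have hcen : ∀ z : T, z ∈ Subgroup.center T → z.1.1 = 1 ∨ z.1.1 = -1 := by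
    intro z hz
    have hzu : u.1 * z.1.1 = z.1.1 * u.1 := by
      have := Subgroup.mem_center_iff.mp hz ⟨u, hu⟩
      exact congrArg (fun w : T => w.1.1) this
    have hzv : v.1 * z.1.1 = z.1.1 * v.1 := by
      have := Subgroup.mem_center_iff.mp hz ⟨v, hv⟩
      exact congrArg (fun w : T => w.1.1) this
    by_cases hs : m2NonScalar z.1.1
    · exfalso
      apply huv
      apply Subtype.ext
      exact m2_comm_of_centralizer z.1.1 u.1 v.1 hs hzu hzv
    · have e := m2_scalar_of_not _ hs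
      unfold m2NonScalar at hs
      push Not at hs
      obtain ⟨hb, hc, had⟩ := hs
      have hd := sp2_det z.1
      rw [hb, hc, ← had] at hd
      have h3 : (z.1.1 (Sum.inl 0) (Sum.inl 0) - 1) * (z.1.1 (Sum.inl 0) (Sum.inl 0) + 1) = 0 := by
        linear_combination hd
      rcases mul_eq_zero.mp h3 with h | h
      · left
        rw [e, sub_eq_zero.mp h, one_smul]
      · right
        rw [e, eq_neg_of_add_eq_zero_left h, neg_smul, one_smul]
  -- each t commutes or anticommutes with x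
  have hcase : ∀ t : T, t.1.1 * x.1.1 = x.1.1 * t.1.1 ∨ t.1.1 * x.1.1 = -(x.1.1 * t.1.1) := by
    intro t
    have e : t * x = (t * x * t⁻¹ * x⁻¹) * (x * t) := by group
    have e' : t.1.1 * x.1.1 = (t * x * t⁻¹ * x⁻¹).1.1 * (x.1.1 * t.1.1) :=
      congrArg (fun w : T => w.1.1) e
    rcases hcen _ (hx2 t) with h | h
    · left; rw [e', h, Matrix.one_mul]
    · right; rw [e', h, Matrix.neg_mul, Matrix.one_mul]
  have hcomm : ∀ w ∈ commutator T, w * x = x * w := comm_of_second_center x hx2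
  constructor
  · intro a ha b hb
    apply Subtype.ext
    apply Subtype.ext
    exact m2_comm_of_centralizer x.1.1 a.1.1 b.1.1 hxns
      (congrArg (fun w : T => w.1.1) (hcomm a ha)) (congrArg (fun w : T => w.1.1) (hcomm b hb))
  · intro t
    obtain ⟨t₀, ht₀⟩ : ∃ t₀ : T, t₀ * x ≠ x * t₀ := by
      by_contra hall
      push Not at hall
      exact hxc (Subgroup.mem_center_iff.mpr hall)
    have ht₀a : t₀.1.1 * x.1.1 = -(x.1.1 * t₀.1.1) := by
      rcases hcase t₀ with h | h
      · exact absurd (Subtype.ext (Subtype.ext h)) ht₀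
      · exact h
    have htrx := sp2_trace_zero_of_anticomm h2 t₀.1 x.1 ht₀a
    have hxx := sp2_sq_of_trace_zero x.1 htrx
    rcases hcase t with h | h
    · obtain ⟨α, β, e⟩ := m2_centralizer x.1.1 t.1.1 hxns h
      have hdt := sp2_det t.1
      have hdx := sp2_det x.1
      rw [e] at hdt
      simp only [Matrix.add_apply, Matrix.smul_apply, Matrix.one_apply_eq, smul_eq_mul] at hdt
      have hne1 : (Sum.inr 0 : Fin 1 ⊕ Fin 1) ≠ Sum.inl 0 := by simp
      have hne2 : (Sum.inl 0 : Fin 1 ⊕ Fin 1) ≠ Sum.inr 0 := by simp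
      rw [Matrix.one_apply_ne hne1, Matrix.one_apply_ne hne2] at hdt
      have hab : α ^ 2 + β ^ 2 = 1 := by
        linear_combination hdt - α * β * htrx - β ^ 2 * hdx
      have hconj : t₀ * t * t₀⁻¹ * t = 1 := by
        apply Subtype.ext
        apply Subtype.ext
        show t₀.1.1 * t.1.1 * (t₀.1⁻¹).1 * t.1.1 = 1
        have h1 : t₀.1.1 * t.1.1 =
            (α • (1 : Matrix (Fin 1 ⊕ Fin 1) (Fin 1 ⊕ Fin 1) F) - β • x.1.1) * t₀.1.1 := by
          rw [e]
          simp only [mul_add, sub_mul, Matrix.mul_smul, Matrix.smul_mul, Matrix.mul_one,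
            Matrix.one_mul]
          rw [ht₀a]
          simp [sub_eq_add_neg]
        rw [h1, Matrix.mul_assoc _ t₀.1.1, sp2_mul_inv t₀.1, Matrix.mul_one, e]
        simp only [mul_add, sub_mul, Matrix.mul_smul, Matrix.smul_mul, Matrix.mul_one,
          Matrix.one_mul, smul_smul, hxx]
        rw [mul_comm β α]
        have e3 : (α * α) • (1 : Matrix (Fin 1 ⊕ Fin 1) (Fin 1 ⊕ Fin 1) F) - (α * β) • x.1.1 +
            ((α * β) • x.1.1 - (β * β) • (-1 : Matrix (Fin 1 ⊕ Fin 1) (Fin 1 ⊕ Fin 1) F)) =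
            (α ^ 2 + β ^ 2) • (1 : Matrix (Fin 1 ⊕ Fin 1) (Fin 1 ⊕ Fin 1) F) := by
          rw [smul_neg, add_smul, pow_two, pow_two]
          abel
        rw [e3, hab, one_smul]
      have hcm : ⁅t₀, t⁆ ∈ commutator T :=
        Subgroup.commutator_mem_commutator (Subgroup.mem_top _) (Subgroup.mem_top _)
      have h3 : t₀ * t * t₀⁻¹ = t⁻¹ := eq_inv_of_mul_eq_one_left hconj
      have h4 : t ^ 2 = ⁅t₀, t⁆⁻¹ := by
        rw [commutatorElement_def, h3]
        group
      rw [h4]
      exact inv_mem hcm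
    · have h' : x.1.1 * t.1.1 = -(t.1.1 * x.1.1) := by rw [h, neg_neg]
      have htrt := sp2_trace_zero_of_anticomm h2 x.1 t.1 h'
      have htt := sp2_sq_of_trace_zero t.1 htrt
      have hcm : ⁅t, x⁆ ∈ commutator T :=
        Subgroup.commutator_mem_commutator (Subgroup.mem_top _) (Subgroup.mem_top _)
      have h4 : t ^ 2 = ⁅t, x⁆ := by
        apply Subtype.ext
        apply Subtype.ext
        rw [commutatorElement_def, pow_two]
        show t.1.1 * t.1.1 = t.1.1 * x.1.1 * (t.1⁻¹).1 * (x.1⁻¹).1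
        rw [htt, h, Matrix.neg_mul, Matrix.neg_mul, Matrix.mul_assoc x.1.1, sp2_mul_inv t.1,
          Matrix.mul_one, sp2_mul_inv x.1]
      rw [h4]
      exact hcm

end Cfsg.Agent.Helper37
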