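import Mathlib
import Cfsg.Agent.Helper37.SpSyl
import Cfsg.Agent.Helper5.SympCard
import Cfsg.Prelude.Def_Transfer

set_option autoImplicit false

namespace Cfsg.Agent.Helper37

open Matrix Nat

universe u

variable {F : Type u} [Field F] {n : ℕ}




/-- the wreath-type subgroup of `Sp_{2n}(F)` -/
def spU (T : Subgroup (Matrix.symplecticGroup (Fin 1) F)) (P : Subgroup (Equiv.Perm (Fin n))) :
    Subgroup (Matrix.symplecticGroup (Fin n) F) :=
  (Subgroup.pi Set.univ (fun _ : Fin n => T)).map (spPhi F n) ⊔ P.map (spPsi F n)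

theorem spU_isPGroup [Finite F] (T : Subgroup (Matrix.symplecticGroup (Fin 1) F))
    (P : Subgroup (Equiv.Perm (Fin n))) (hT : IsPGroup 2 T) (hP : IsPGroup 2 P) :
    IsPGroup 2 (spU T P) := by
  have hpi : IsPGroup 2 (Subgroup.pi Set.univ (fun _ : Fin n => T)) := by
    obtain ⟨k, hk⟩ := hT.exists_card_eq
    rintro ⟨g, hg⟩
    refine ⟨k, ?_⟩
    apply Subtype.ext
    funext j
    have h1 : (⟨g j, hg j (Set.mem_univ j)⟩ : T) ^ Nat.card T = 1 := pow_card_eq_one'
    rw [hk] at h1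
    have h2 := congrArg Subtype.val h1
    simpa using h2
  have hA := hpi.map (spPhi F n)
  have hB := hP.map (spPsi F n)
  refine IsPGroup.to_sup_of_normal_left' hA hB ?_
  rintro x ⟨σ, hσ, rfl⟩
  apply Subgroup.mem_normalizer_fintype
  rintro y ⟨g, hg, rfl⟩
  rw [spPsi_conj]
  exact ⟨g ∘ ⇑σ⁻¹, fun j _ => hg (σ⁻¹ j) (Set.mem_univ _), rfl⟩

theorem spU_card [Finite F] (T : Subgroup (Matrix.symplecticGroup (Fin 1) F))
    (P : Subgroup (Equiv.Perm (Fin n))) :
    Nat.card T ^ n * Nat.card P ≤ Nat.card (spU T P) := by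
  let f : (Fin n → T) × P → spU T P := fun x =>
    ⟨spPhi F n (fun j => (x.1 j : Matrix.symplecticGroup (Fin 1) F)) * spPsi F n x.2.1,
      mul_mem (Subgroup.mem_sup_left (Subgroup.mem_map_of_mem _ (fun j _ => (x.1 j).2)))
        (Subgroup.mem_sup_right (Subgroup.mem_map_of_mem _ x.2.2))⟩
  have hf : Function.Injective f := by
    rintro ⟨g, σ⟩ ⟨g', σ'⟩ h
    have h1 : spPhi F n (fun j => (g j : Matrix.symplecticGroup (Fin 1) F)) * spPsi F n σ.1
        = spPhi F n (fun j => (g' j : Matrix.symplecticGroup (Fin 1) F)) * spPsi F n σ'.1 :=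
      congrArg Subtype.val h
    have h2 : spPhi F n ((fun j => (g' j : Matrix.symplecticGroup (Fin 1) F))⁻¹ *
        (fun j => (g j : Matrix.symplecticGroup (Fin 1) F))) = spPsi F n (σ'.1 * σ.1⁻¹) := by
      rw [map_mul, map_mul, map_inv, map_inv]
      rw [inv_mul_eq_iff_eq_mul, ← mul_assoc, ← h1]
      group
    have h3 := spPhi_eq_spPsi _ _ h2
    have h4 : σ'.1 = σ.1 := by
      rw [mul_inv_eq_one] at h3
      exact h3
    rw [h4] at h1
    have h5 := spPhi_injective (mul_right_cancel h1)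
    have h6 : g = g' := by
      funext j
      exact Subtype.ext (congrFun h5 j)
    rw [h6, Subtype.ext h4.symm]
  have h1 := Nat.card_le_card_of_injective f hf
  rw [Nat.card_prod, Nat.card_fun, Nat.card_fin] at h1
  exact h1

theorem spU_normalizes [Finite F] (T : Subgroup (Matrix.symplecticGroup (Fin 1) F))
    (P : Subgroup (Equiv.Perm (Fin n))) :
    spU T P ≤ Subgroup.normalizer ((sgnSpHom F (Fin n)).range : Set _) := by
  refine sup_le ?_ ?_
  · rintro x ⟨g, -, rfl⟩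
    apply Subgroup.mem_normalizer_fintype
    rintro y ⟨ε, rfl⟩
    refine ⟨ε, ?_⟩
    rw [spPhi_comm_sgn]
    group
  · rintro x ⟨σ, -, rfl⟩
    apply Subgroup.mem_normalizer_fintype
    rintro y ⟨ε, rfl⟩
    exact ⟨ε ∘ ⇑σ⁻¹, (spPsi_conj_sgn σ ε).symm⟩




/-- 2-adic valuation of `q ^ (2 (i+1)) - 1`, `q` odd -/
theorem v2_pow_sub_one (q : ℕ) (hq : Odd q) (hq1 : 1 < q) (i : ℕ) :
    padicValNat 2 (q ^ (2 * (i + 1)) - 1) = padicValNat 2 (q ^ 2 - 1) + padicValNat 2 (i + 1) := by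
  have hx : ¬ 2 ∣ q := by
    rcases hq with ⟨t, rfl⟩
    omega
  have hxy : 2 ∣ q - 1 := by
    rcases hq with ⟨t, rfl⟩
    exact ⟨t, by omega⟩
  have h1 := padicValNat.pow_two_sub_pow (x := q) (y := 1) hq1 hxy hx (n := 2 * (i + 1))
    (by omega) ⟨i + 1, by ring⟩
  have h2 := padicValNat.pow_two_sub_pow (x := q) (y := 1) hq1 hxy hx (n := 2)
    (by omega) ⟨1, by ring⟩
  rw [one_pow] at h1 h2
  have h3 : padicValNat 2 (2 * (i + 1)) = 1 + padicValNat 2 (i + 1) := by
    rw [padicValNat.mul (by norm_num) (by omega)]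
    simp
  have h4 : padicValNat 2 2 = 1 := by simp
  rw [h3] at h1
  rw [h4] at h2
  omega

theorem v2_prod (q : ℕ) (hq : Odd q) (hq1 : 1 < q) (n : ℕ) :
    padicValNat 2 (∏ i ∈ Finset.range n, (q ^ (2 * (i + 1)) - 1)) =
      n * padicValNat 2 (q ^ 2 - 1) + padicValNat 2 (n !) := by
  induction n with
  | zero => simp
  | succ k ih =>
    have hpos : ∀ i, q ^ (2 * (i + 1)) - 1 ≠ 0 := by
      intro i
      have : 1 < q ^ (2 * (i + 1)) := Nat.one_lt_pow (by omega) hq1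
      omega
    have hprod : ∏ i ∈ Finset.range k, (q ^ (2 * (i + 1)) - 1) ≠ 0 :=
      Finset.prod_ne_zero_iff.mpr (fun i _ => hpos i)
    rw [Finset.prod_range_succ, padicValNat.mul hprod (hpos k), ih, v2_pow_sub_one q hq hq1 k,
      Nat.factorial_succ, padicValNat.mul (by omega) (Nat.factorial_ne_zero k)]
    ring

theorem v2_sp_card {F : Type u} [Field F] [Fintype F] (hF : Odd (Fintype.card F)) (n : ℕ) :
    (Nat.card (Matrix.symplecticGroup (Fin n) F)).factorization 2 =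
      n * (Nat.card (Matrix.symplecticGroup (Fin 1) F)).factorization 2 +
        (n !).factorization 2 := by
  have hq1 : 1 < Fintype.card F := Fintype.one_lt_card
  have hx : ¬ 2 ∣ Fintype.card F := by
    rcases hF with ⟨t, ht⟩
    omega
  have hpos : ∀ i, Fintype.card F ^ (2 * (i + 1)) - 1 ≠ 0 := by
    intro i
    have : 1 < Fintype.card F ^ (2 * (i + 1)) := Nat.one_lt_pow (by omega) hq1
    omega
  have key : ∀ m : ℕ, (Nat.card (Matrix.symplecticGroup (Fin m) F)).factorization 2 =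
      m * padicValNat 2 (Fintype.card F ^ 2 - 1) + padicValNat 2 (m !) := by
    intro m
    rw [Nat.factorization_def _ Nat.prime_two, Cfsg.Agent.Helper5.card_sp,
      padicValNat.mul (pow_ne_zero _ (by omega)) (Finset.prod_ne_zero_iff.mpr (fun i _ => hpos i)),
      v2_prod _ hF hq1,
      padicValNat.eq_zero_of_not_dvd (fun h => hx (Nat.Prime.dvd_of_dvd_pow Nat.prime_two h))]
    ring
  rw [key n, key 1, Nat.factorization_def _ Nat.prime_two]
  simp

/-- a `2`-subgroup of large order is Sylow -/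
theorem sylow_of_card_ge {G : Type*} [Group G] [Finite G] (U : Subgroup G) (hU : IsPGroup 2 U)
    (h : 2 ^ (Nat.card G).factorization 2 ≤ Nat.card U) :
    ∃ S : Sylow 2 G, (S : Subgroup G) = U := by
  haveI : Fact (Nat.Prime 2) := ⟨Nat.prime_two⟩
  obtain ⟨k, hk⟩ := hU.exists_card_eq
  have h1 : 2 ^ k ∣ Nat.card G := hk ▸ Subgroup.card_subgroup_dvd_card U
  have h2 : k ≤ (Nat.card G).factorization 2 :=
    (Nat.Prime.pow_dvd_iff_le_factorization Nat.prime_two Nat.card_pos.ne').mp h1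
  have h3 : (Nat.card G).factorization 2 ≤ k := by
    rw [hk] at h
    exact (Nat.pow_le_pow_iff_right (by norm_num)).mp h
  have h4 : Nat.card U = 2 ^ (Nat.card G).factorization 2 := by
    rw [hk, le_antisymm h2 h3]
  exact ⟨Sylow.ofCard U h4, rfl⟩



theorem sgn_range_isPGroup : IsPGroup 2 (sgnSpHom F (Fin n)).range := by
  rintro ⟨d, ε, rfl⟩
  refine ⟨1, ?_⟩
  apply Subtype.ext
  show (sgnSpHom F (Fin n)) ε ^ 2 ^ 1 = 1
  rw [pow_one, ← map_pow]
  have : ε ^ 2 = 1 := by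
    funext j
    simp [pow_two]
  rw [this, map_one]

theorem sp_exists_sylow_normalizing [Fintype F] (hF : Odd (Fintype.card F)) (n : ℕ) :
    ∃ S₀ : Sylow 2 (Matrix.symplecticGroup (Fin n) F),
      (sgnSpHom F (Fin n)).range ≤ (S₀ : Subgroup (Matrix.symplecticGroup (Fin n) F)) ∧
      (S₀ : Subgroup (Matrix.symplecticGroup (Fin n) F)) ≤ Subgroup.normalizer
        ((sgnSpHom F (Fin n)).range : Set (Matrix.symplecticGroup (Fin n) F)) := by
  haveI : Fact (Nat.Prime 2) := ⟨Nat.prime_two⟩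
  obtain T : Sylow 2 (Matrix.symplecticGroup (Fin 1) F) := default
  obtain P : Sylow 2 (Equiv.Perm (Fin n)) := default
  have hU := spU_isPGroup (T : Subgroup (Matrix.symplecticGroup (Fin 1) F))
    (P : Subgroup (Equiv.Perm (Fin n))) T.isPGroup' P.isPGroup'
  have hc := spU_card (T : Subgroup (Matrix.symplecticGroup (Fin 1) F))
    (P : Subgroup (Equiv.Perm (Fin n)))
  have hT : Nat.card T = 2 ^ (Nat.card (Matrix.symplecticGroup (Fin 1) F)).factorization 2 :=
    Sylow.card_eq_multiplicity T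
  have hP : Nat.card P = 2 ^ (Nat.card (Equiv.Perm (Fin n))).factorization 2 :=
    Sylow.card_eq_multiplicity P
  rw [Nat.card_perm, Nat.card_fin] at hP
  have hge : 2 ^ (Nat.card (Matrix.symplecticGroup (Fin n) F)).factorization 2 ≤
      Nat.card (spU (T : Subgroup (Matrix.symplecticGroup (Fin 1) F))
        (P : Subgroup (Equiv.Perm (Fin n)))) := by
    rw [v2_sp_card hF n, pow_add, pow_mul']
    calc _ = Nat.card T ^ n * Nat.card P := by rw [hT, hP]
      _ ≤ _ := hc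
  obtain ⟨S₀, hS₀⟩ := sylow_of_card_ge _ hU hge
  have hn := spU_normalizes (T : Subgroup (Matrix.symplecticGroup (Fin 1) F))
    (P : Subgroup (Equiv.Perm (Fin n)))
  refine ⟨S₀, ?_, ?_⟩
  · have h1 : IsPGroup 2 ((sgnSpHom F (Fin n)).range ⊔ (S₀ : Subgroup _) : Subgroup _) :=
      IsPGroup.to_sup_of_normal_left' sgn_range_isPGroup S₀.isPGroup' (hS₀ ▸ hn)
    have h2 := S₀.is_maximal' h1 le_sup_right
    rw [← h2]
    exact le_sup_left
  · rw [hS₀]
    exact hn

theorem sp_normal_rank_ge [Fintype F] (hF : Odd (Fintype.card F)) (n : ℕ)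
    (S : Sylow 2 (Matrix.symplecticGroup (Fin n) F)) :
    ∃ E : Subgroup ↥(S : Subgroup (Matrix.symplecticGroup (Fin n) F)),
      E.Normal ∧ Cfsg.IsElementaryAbelian 2 E ∧ 2 ^ n ≤ Nat.card E := by
  haveI : Fact (Nat.Prime 2) := ⟨Nat.prime_two⟩
  have h2 : (2 : F) ≠ 0 := by
    apply Ring.two_ne_zero
    intro hc
    have h1 := FiniteField.even_card_of_char_two hc
    rcases hF with ⟨t, ht⟩
    omega
  obtain ⟨S₀, hD, hN⟩ := sp_exists_sylow_normalizing hF n
  obtain ⟨g, hg⟩ := MulAction.exists_smul_eq (Matrix.symplecticGroup (Fin n) F) S₀ S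
  have hS : ∀ x, x ∈ (S : Subgroup _) ↔ ∃ u ∈ (S₀ : Subgroup _), x = g * u * g⁻¹ := by
    intro x
    rw [← hg, Sylow.coe_subgroup_smul, Subgroup.mem_pointwise_smul_iff_inv_smul_mem]
    constructor
    · intro h
      refine ⟨_, h, ?_⟩
      simp [MulAut.smul_def]
      group
    · rintro ⟨u, hu, rfl⟩
      simpa [MulAut.smul_def, MulAut.conj_apply, mul_assoc] using hu
  let E₀ : Subgroup (Matrix.symplecticGroup (Fin n) F) :=
    (sgnSpHom F (Fin n)).range.map (MulAut.conj g).toMonoidHom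
  have hE₀ : ∀ x, x ∈ E₀ ↔ ∃ ε, x = g * sgnSpHom F (Fin n) ε * g⁻¹ := by
    intro x
    constructor
    · rintro ⟨d, ⟨ε, rfl⟩, rfl⟩
      exact ⟨ε, rfl⟩
    · rintro ⟨ε, rfl⟩
      exact ⟨_, ⟨ε, rfl⟩, rfl⟩
  have hE₀S : E₀ ≤ (S : Subgroup _) := by
    intro x hx
    obtain ⟨ε, rfl⟩ := (hE₀ x).mp hx
    exact (hS _).mpr ⟨_, hD ⟨ε, rfl⟩, rfl⟩
  refine ⟨E₀.subgroupOf S, ?_, ⟨?_, ?_⟩, ?_⟩
  · constructor
    rintro ⟨x, hx⟩ hxE ⟨s, hs⟩
    rw [Subgroup.mem_subgroupOf] at hxE ⊢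
    obtain ⟨ε, hε⟩ := (hE₀ x).mp hxE
    obtain ⟨u, hu, rfl⟩ := (hS s).mp hs
    have h3 := (hN hu (sgnSpHom F (Fin n) ε)).mp ⟨ε, rfl⟩
    obtain ⟨ε', hε'⟩ := h3
    refine (hE₀ _).mpr ⟨ε', ?_⟩
    show g * u * g⁻¹ * x * (g * u * g⁻¹)⁻¹ = _
    rw [hε', hε]
    group
  · refine ⟨⟨fun a b => ?_⟩⟩
    obtain ⟨ε, hε⟩ := (hE₀ _).mp (Subgroup.mem_subgroupOf.mp a.2)
    obtain ⟨ε', hε'⟩ := (hE₀ _).mp (Subgroup.mem_subgroupOf.mp b.2)
    apply Subtype.ext
    apply Subtype.ext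
    show (a.1.1 : Matrix.symplecticGroup (Fin n) F) * b.1.1 = b.1.1 * a.1.1
    rw [hε, hε']
    have hc : sgnSpHom F (Fin n) ε * sgnSpHom F (Fin n) ε' =
        sgnSpHom F (Fin n) ε' * sgnSpHom F (Fin n) ε := by
      rw [← map_mul, ← map_mul, mul_comm]
    calc g * sgnSpHom F (Fin n) ε * g⁻¹ * (g * sgnSpHom F (Fin n) ε' * g⁻¹)
        = g * (sgnSpHom F (Fin n) ε * sgnSpHom F (Fin n) ε') * g⁻¹ := by group
      _ = g * (sgnSpHom F (Fin n) ε' * sgnSpHom F (Fin n) ε) * g⁻¹ := by rw [hc]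
      _ = _ := by group
  · intro a ha
    obtain ⟨ε, hε⟩ := (hE₀ _).mp (Subgroup.mem_subgroupOf.mp ha)
    apply Subtype.ext
    show (a.1 : Matrix.symplecticGroup (Fin n) F) ^ 2 = 1
    rw [hε]
    have h4 : sgnSpHom F (Fin n) ε * sgnSpHom F (Fin n) ε = 1 := by
      rw [← map_mul]
      have : ε * ε = 1 := by
        funext j
        simp
      rw [this, map_one]
    calc (g * sgnSpHom F (Fin n) ε * g⁻¹) ^ 2
        = g * (sgnSpHom F (Fin n) ε * sgnSpHom F (Fin n) ε) * g⁻¹ := by rw [pow_two]; group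
      _ = 1 := by rw [h4]; group
  · have h5 : Nat.card (E₀.subgroupOf S) = Nat.card E₀ :=
      Nat.card_congr (Subgroup.subgroupOfEquivOfLe hE₀S).toEquiv
    have h6 : Nat.card E₀ = Nat.card (sgnSpHom F (Fin n)).range :=
      (Nat.card_congr ((sgnSpHom F (Fin n)).range.equivMapOfInjective
        (MulAut.conj g).toMonoidHom (MulAut.conj g).injective).toEquiv).symm
    have h7 : Nat.card (sgnSpHom F (Fin n)).range = Nat.card (Fin n → ℤˣ) :=
      (Nat.card_congr (Equiv.ofInjective _ (sgnSpHom_injective h2))).symm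
    have h8 : Nat.card (Fin n → ℤˣ) = 2 ^ n := by
      rw [Nat.card_fun]
      simp
    rw [h5, h6, h7, h8]

theorem sp_normal_rank_le [Fintype F] (hF : Odd (Fintype.card F)) (n : ℕ)
    (S : Sylow 2 (Matrix.symplecticGroup (Fin n) F))
    (E : Subgroup ↥(S : Subgroup (Matrix.symplecticGroup (Fin n) F)))
    (hE : Cfsg.IsElementaryAbelian 2 E) : Nat.card E ≤ 2 ^ n := by
  have h2 : (2 : F) ≠ 0 := by
    apply Ring.two_ne_zero
    intro hc
    have h1 := FiniteField.even_card_of_char_two hc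
    rcases hF with ⟨t, ht⟩
    omega
  obtain ⟨hcomm, hsq⟩ := hE
  have h3 := sp_card_le (F := F) (l := Fin n) h2
    (E.map (S : Subgroup (Matrix.symplecticGroup (Fin n) F)).subtype)
    (by
      rintro a ⟨a', ha', rfl⟩ b ⟨b', hb', rfl⟩
      rw [← map_mul, ← map_mul]
      congr 1
      haveI := hcomm
      exact setLike_mul_comm ha' hb')
    (by
      rintro a ⟨a', ha', rfl⟩
      rw [← map_mul, ← pow_two, hsq a' ha', map_one])
  rw [Fintype.card_fin] at h3
  have h4 : Nat.card (E.map (S : Subgroup (Matrix.symplecticGroup (Fin n) F)).subtype)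
      = Nat.card E :=
    (Nat.card_congr (E.equivMapOfInjective _ (Subgroup.subtype_injective _)).toEquiv).symm
  rw [← h4]
  exact h3

end Cfsg.Agent.Helper37
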