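import Mathlib
import Cfsg.Agent.Helper37.Sp2B
import Cfsg.Agent.Helper37.SpSyl2
import Cfsg.Agent.S4623

set_option autoImplicit false

namespace Cfsg.Agent.Helper37

open Matrix

open scoped commutatorElement

universe u

variable {F : Type u} [Field F]

/-- the quaternion element `i` -/
def sp2I (F : Type u) [Field F] : Matrix.symplecticGroup (Fin 1) F :=
  ⟨spBlk (n := 1) (fun _ => 0) (fun _ => 1) (fun _ => -1) (fun _ => 0),
    spBlk_mem _ _ _ _ (by intro j; ring)⟩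

/-- the quaternion element `j` -/
def sp2J (a b : F) (h : a ^ 2 + b ^ 2 = -1) : Matrix.symplecticGroup (Fin 1) F :=
  ⟨spBlk (n := 1) (fun _ => a) (fun _ => b) (fun _ => b) (fun _ => -a),
    spBlk_mem _ _ _ _ (by intro j; linear_combination (-1 : F) * h)⟩

theorem spBlk1_11 (a b c d : F) :
    spBlk (n := 1) (fun _ => a) (fun _ => b) (fun _ => c) (fun _ => d) (Sum.inl 0) (Sum.inl 0) = a := by
  simp [spBlk]

theorem spBlk1_12 (a b c d : F) :
    spBlk (n := 1) (fun _ => a) (fun _ => b) (fun _ => c) (fun _ => d) (Sum.inl 0) (Sum.inr 0) = b := by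
  simp [spBlk]

theorem spBlk1_21 (a b c d : F) :
    spBlk (n := 1) (fun _ => a) (fun _ => b) (fun _ => c) (fun _ => d) (Sum.inr 0) (Sum.inl 0) = c := by
  simp [spBlk]

theorem spBlk1_22 (a b c d : F) :
    spBlk (n := 1) (fun _ => a) (fun _ => b) (fun _ => c) (fun _ => d) (Sum.inr 0) (Sum.inr 0) = d := by
  simp [spBlk]

theorem sp2I_sq : (sp2I F).1 * (sp2I F).1 = -1 := by
  apply m2_ext <;> rw [m2_mul_apply] <;>
    simp [sp2I, spBlk1_11, spBlk1_12, spBlk1_21, spBlk1_22]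

theorem sp2J_sq (a b : F) (h : a ^ 2 + b ^ 2 = -1) : (sp2J a b h).1 * (sp2J a b h).1 = -1 := by
  apply m2_ext <;> rw [m2_mul_apply] <;>
    simp [sp2J, spBlk1_11, spBlk1_12, spBlk1_21, spBlk1_22]
  · linear_combination h
  · ring
  · ring
  · linear_combination h

theorem sp2_pow_four (w : Matrix.symplecticGroup (Fin 1) F) (h : w.1 * w.1 = -1) : w ^ 4 = 1 := by
  have e : w ^ 4 = (w * w) * (w * w) := by
    rw [show (4 : ℕ) = 2 + 2 from rfl, pow_add, pow_two]
  rw [e]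
  apply Subtype.ext
  show w.1 * w.1 * (w.1 * w.1) = 1
  rw [h]
  simp

theorem sp2J_conj (a b : F) (h : a ^ 2 + b ^ 2 = -1) :
    sp2J a b h * sp2I F * (sp2J a b h)⁻¹ = (sp2I F) ^ 3 := by
  rw [mul_inv_eq_iff_eq_mul]
  have e : (sp2I F) ^ 3 = sp2I F * sp2I F * sp2I F := by
    rw [pow_succ, pow_two]
  rw [e]
  apply Subtype.ext
  show (sp2J a b h).1 * (sp2I F).1 = (sp2I F).1 * (sp2I F).1 * (sp2I F).1 * (sp2J a b h).1
  rw [sp2I_sq]
  apply m2_ext <;>
    simp [m2_mul_apply, sp2I, sp2J, spBlk1_11, spBlk1_12, spBlk1_21, spBlk1_22]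

theorem sp2IJ_ne (h2 : (2 : F) ≠ 0) (a b : F) (h : a ^ 2 + b ^ 2 = -1) :
    sp2I F * sp2J a b h ≠ sp2J a b h * sp2I F := by
  intro e
  have e1 : (sp2I F).1 * (sp2J a b h).1 = (sp2J a b h).1 * (sp2I F).1 := congrArg Subtype.val e
  have h11 := congrFun (congrFun e1 (Sum.inl 0)) (Sum.inl 0)
  have h12 := congrFun (congrFun e1 (Sum.inl 0)) (Sum.inr 0)
  rw [m2_mul_apply, m2_mul_apply] at h11 h12
  simp only [sp2I, sp2J, spBlk1_11, spBlk1_12, spBlk1_21, spBlk1_22] at h11 h12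
  have hb : b = 0 := by
    have : (2 : F) * b = 0 := by linear_combination h11
    rcases mul_eq_zero.mp this with h | h
    · exact absurd h h2
    · exact h
  have ha : a = 0 := by
    have : (2 : F) * a = 0 := by linear_combination -h12
    rcases mul_eq_zero.mp this with h | h
    · exact absurd h h2
    · exact h
  rw [ha, hb] at h
  simp at h

theorem sp2Q_isPGroup [Finite F] (a b : F) (h : a ^ 2 + b ^ 2 = -1) :
    IsPGroup 2 (Subgroup.zpowers (sp2I F) ⊔ Subgroup.zpowers (sp2J a b h) :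
      Subgroup (Matrix.symplecticGroup (Fin 1) F)) := by
  have hz : ∀ w : Matrix.symplecticGroup (Fin 1) F, w ^ 4 = 1 →
      IsPGroup 2 (Subgroup.zpowers w) := by
    intro w hw
    rintro ⟨g, hg⟩
    obtain ⟨m, rfl⟩ := Subgroup.mem_zpowers_iff.mp hg
    refine ⟨2, Subtype.ext ?_⟩
    show (w ^ m) ^ 2 ^ 2 = 1
    rw [← zpow_natCast, ← _root_.zpow_mul, mul_comm, _root_.zpow_mul, zpow_natCast]
    norm_num
    rw [hw, _root_.one_zpow]
  refine IsPGroup.to_sup_of_normal_left' (hz _ (sp2_pow_four _ sp2I_sq))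
    (hz _ (sp2_pow_four _ (sp2J_sq a b h))) ?_
  rw [Subgroup.zpowers_le]
  apply Subgroup.mem_normalizer_fintype
  intro y hy
  obtain ⟨m, rfl⟩ := Subgroup.mem_zpowers_iff.mp hy
  rw [← conj_zpow, sp2J_conj]
  exact Subgroup.zpow_mem _ (Subgroup.pow_mem _ (Subgroup.mem_zpowers _) 3) m

theorem sp2_exists_sq_add_sq [Fintype F] (hF : Odd (Fintype.card F)) :
    ∃ a b : F, a ^ 2 + b ^ 2 = -1 := by
  classical
  obtain ⟨a, b, hab⟩ := FiniteField.exists_root_sum_quadratic (R := F)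
    (f := Polynomial.X ^ 2) (g := Polynomial.X ^ 2 - Polynomial.C (-1))
    (Polynomial.degree_X_pow 2) (Polynomial.degree_X_pow_sub_C (by decide) _)
    (Nat.odd_iff.mp hF)
  refine ⟨a, b, ?_⟩
  simp only [Polynomial.eval_C, Polynomial.eval_X, Polynomial.eval_pow, Polynomial.eval_sub] at hab
  linear_combination hab

theorem sp2_two_ne_zero [Fintype F] (hF : Odd (Fintype.card F)) : (2 : F) ≠ 0 := by
  apply Ring.two_ne_zero
  intro hc
  have h1 := FiniteField.even_card_of_char_two hc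
  rcases hF with ⟨t, ht⟩
  omega

/-- a Sylow `2`-subgroup of `Sp_2(F)` with its structure -/
theorem sp2_exists_sylow_good [Fintype F] (hF : Odd (Fintype.card F)) :
    ∃ T : Sylow 2 (Matrix.symplecticGroup (Fin 1) F),
      (∀ a ∈ commutator T, ∀ b ∈ commutator T, a * b = b * a) ∧
      (∀ t : T, t ^ 2 ∈ commutator T) ∧
      (∃ u ∈ (T : Subgroup (Matrix.symplecticGroup (Fin 1) F)),
        ∃ v ∈ (T : Subgroup (Matrix.symplecticGroup (Fin 1) F)), u * v ≠ v * u) := by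
  haveI : Fact (Nat.Prime 2) := ⟨Nat.prime_two⟩
  have h2 : (2 : F) ≠ 0 := sp2_two_ne_zero hF
  obtain ⟨a, b, hab⟩ := sp2_exists_sq_add_sq hF
  obtain ⟨T, hT⟩ := (sp2Q_isPGroup a b hab).exists_le_sylow
  have hu : sp2I F ∈ (T : Subgroup (Matrix.symplecticGroup (Fin 1) F)) :=
    hT (Subgroup.mem_sup_left (Subgroup.mem_zpowers _))
  have hv : sp2J a b hab ∈ (T : Subgroup (Matrix.symplecticGroup (Fin 1) F)) :=
    hT (Subgroup.mem_sup_right (Subgroup.mem_zpowers _))
  have hna : ∃ u ∈ (T : Subgroup (Matrix.symplecticGroup (Fin 1) F)),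
      ∃ v ∈ (T : Subgroup (Matrix.symplecticGroup (Fin 1) F)), u * v ≠ v * u :=
    ⟨_, hu, _, hv, sp2IJ_ne h2 a b hab⟩
  obtain ⟨h1, h3⟩ := sp2_two_group h2 (T : Subgroup (Matrix.symplecticGroup (Fin 1) F))
    T.isPGroup' hna
  exact ⟨T, h1, h3, hna⟩

/-- squares lie in the commutator subgroup as soon as the squares of generators do -/
theorem sq_mem_comm_of_closure {G : Type*} [Group G] (U : Subgroup G) (S : Set G)
    (hS : U = Subgroup.closure S) (h : ∀ s ∈ S, s ^ 2 ∈ ⁅U, U⁆) : ∀ x ∈ U, x ^ 2 ∈ ⁅U, U⁆ := by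
  intro x hx
  have hx' : x ∈ Subgroup.closure S := hS ▸ hx
  induction hx' using Subgroup.closure_induction with
  | mem s hs => exact h s hs
  | one => rw [one_pow]; exact one_mem _
  | mul a b ha hb iha ihb =>
    have ha' : a ∈ U := hS ▸ ha
    have hb' : b ∈ U := hS ▸ hb
    have e : (a * b) ^ 2 = a ^ 2 * ⁅a⁻¹, b⁆ * b ^ 2 := by
      rw [commutatorElement_def, pow_two, pow_two, pow_two]; group
    rw [e]
    exact mul_mem (mul_mem (iha ha') (Subgroup.commutator_mem_commutator (inv_mem ha') hb'))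
      (ihb hb')
  | inv a ha iha =>
    have ha' : a ∈ U := hS ▸ ha
    rw [inv_pow]
    exact inv_mem (iha ha')

theorem comm_map_subtype {G : Type*} [Group G] (H : Subgroup G) :
    (commutator H).map H.subtype = ⁅H, H⁆ := by
  rw [commutator_def, Subgroup.map_commutator, ← MonoidHom.range_eq_map, Subgroup.range_subtype]

theorem sq_mem_comm_iff {G : Type*} [Group G] (H : Subgroup G) :
    (∀ t : H, t ^ 2 ∈ commutator H) ↔ ∀ t ∈ H, t ^ 2 ∈ ⁅H, H⁆ := by
  constructor
  · intro h t ht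
    rw [← comm_map_subtype]
    exact ⟨⟨t, ht⟩ ^ 2, h ⟨t, ht⟩, rfl⟩
  · intro h t
    have h1 := h t.1 t.2
    rw [← comm_map_subtype] at h1
    obtain ⟨w, hw, e⟩ := h1
    have : w = t ^ 2 := Subtype.ext e
    rw [← this]
    exact hw

theorem spU_sq_mem [Finite F] {n : ℕ} (T : Subgroup (Matrix.symplecticGroup (Fin 1) F))
    (P : Subgroup (Equiv.Perm (Fin n))) (hT : ∀ t ∈ T, t ^ 2 ∈ ⁅T, T⁆)
    (hP : ∀ σ ∈ P, σ ^ 2 ∈ ⁅P, P⁆) : ∀ x ∈ spU T P, x ^ 2 ∈ ⁅spU T P, spU T P⁆ := by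
  apply sq_mem_comm_of_closure (spU T P)
    (((Subgroup.pi Set.univ (fun _ : Fin n => T)).map (spPhi F n) : Set _) ∪
      ((P.map (spPsi F n) : Subgroup _) : Set _))
  · unfold spU
    rw [Subgroup.closure_union, Subgroup.closure_eq, Subgroup.closure_eq]
  · rintro s (hs | hs)
    · obtain ⟨g, hg, rfl⟩ := hs
      rw [← map_pow]
      have h1 : g ^ 2 ∈ ⁅Subgroup.pi Set.univ (fun _ : Fin n => T),
          Subgroup.pi Set.univ (fun _ : Fin n => T)⁆ := by
        rw [Subgroup.commutator_pi_pi_of_finite]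
        intro i _
        exact hT (g i) (hg i (Set.mem_univ i))
      have h2 := Subgroup.mem_map_of_mem (spPhi F n) h1
      rw [Subgroup.map_commutator] at h2
      exact Subgroup.commutator_mono le_sup_left le_sup_left h2
    · obtain ⟨σ, hσ, rfl⟩ := hs
      rw [← map_pow]
      have h2 := Subgroup.mem_map_of_mem (spPsi F n) (hP σ hσ)
      rw [Subgroup.map_commutator] at h2
      exact Subgroup.commutator_mono le_sup_right le_sup_right h2

/-- S4624 -/
theorem sp_sylow_sq_mem [Fintype F] (hF : Odd (Fintype.card F)) (n : ℕ)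
    (R : Sylow 2 (Matrix.symplecticGroup (Fin n) F)) :
    ∀ x : (R : Subgroup (Matrix.symplecticGroup (Fin n) F)),
      x ^ 2 ∈ commutator (R : Subgroup (Matrix.symplecticGroup (Fin n) F)) := by
  haveI : Fact (Nat.Prime 2) := ⟨Nat.prime_two⟩
  obtain ⟨T, -, hT2, -⟩ := sp2_exists_sylow_good hF
  obtain P : Sylow 2 (Equiv.Perm (Fin n)) := default
  obtain Q : Sylow 2 (alternatingGroup (Fin n)) := default
  have hP2 := (Cfsg.Agent.S4623.result 2 n P Q).1
  have hU := spU_isPGroup (T : Subgroup (Matrix.symplecticGroup (Fin 1) F))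
    (P : Subgroup (Equiv.Perm (Fin n))) T.isPGroup' P.isPGroup'
  have hc := spU_card (T : Subgroup (Matrix.symplecticGroup (Fin 1) F))
    (P : Subgroup (Equiv.Perm (Fin n)))
  have hTc : Nat.card T = 2 ^ (Nat.card (Matrix.symplecticGroup (Fin 1) F)).factorization 2 :=
    Sylow.card_eq_multiplicity T
  have hPc : Nat.card P = 2 ^ (Nat.card (Equiv.Perm (Fin n))).factorization 2 :=
    Sylow.card_eq_multiplicity P
  rw [Nat.card_perm, Nat.card_fin] at hPc
  have hge : 2 ^ (Nat.card (Matrix.symplecticGroup (Fin n) F)).factorization 2 ≤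
      Nat.card (spU (T : Subgroup (Matrix.symplecticGroup (Fin 1) F))
        (P : Subgroup (Equiv.Perm (Fin n)))) := by
    rw [v2_sp_card hF n, pow_add, pow_mul']
    calc _ = Nat.card T ^ n * Nat.card P := by rw [hTc, hPc]
      _ ≤ _ := hc
  obtain ⟨S₀, hS₀⟩ := sylow_of_card_ge _ hU hge
  have h1 := spU_sq_mem (T : Subgroup (Matrix.symplecticGroup (Fin 1) F))
    (P : Subgroup (Equiv.Perm (Fin n))) ((sq_mem_comm_iff _).mp hT2) ((sq_mem_comm_iff _).mp hP2)
  rw [← hS₀] at h1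
  have h2 := (sq_mem_comm_iff _).mpr h1
  exact Cfsg.Agent.S4623.EP_of_mulEquiv (Sylow.equiv S₀ R) h2

end Cfsg.Agent.Helper37
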