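import Mathlib
import Cfsg.Agent.Helper37.Sp2C
import Cfsg.Agent.Helper37.Sp2E
import Cfsg.Agent.Helper37.DerLen

set_option autoImplicit false

namespace Cfsg.Agent.Helper37

open Matrix

open scoped commutatorElement

universe u

variable {F : Type u} [Field F] {n : ℕ}

/-- the embedding of the wreath product `Sp_2 ≀ S_n` -/
def spWr (F : Type u) [Field F] (n : ℕ) :
    Wr (Matrix.symplecticGroup (Fin 1) F) n →* Matrix.symplecticGroup (Fin n) F :=
  SemidirectProduct.lift (spPhi F n) (spPsi F n) (by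
    intro σ
    ext g
    simp only [MonoidHom.comp_apply, MulEquiv.coe_toMonoidHom, MulAut.conj_apply]
    rw [spPsi_conj]
    rfl)

theorem spWr_apply (w : Wr (Matrix.symplecticGroup (Fin 1) F) n) :
    spWr F n w = spPhi F n w.left * spPsi F n w.right := rfl

theorem spWr_injective : Function.Injective (spWr F n) := by
  rw [injective_iff_map_eq_one]
  intro w hw
  rw [spWr_apply] at hw
  have h1 : spPhi F n w.left = spPsi F n w.right⁻¹ := by
    rw [map_inv]; exact eq_inv_of_mul_eq_one_left hw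
  have h2 := spPhi_eq_spPsi _ _ h1
  have h3 : w.right = 1 := inv_eq_one.mp h2
  rw [h3, map_one, mul_one] at hw
  have h4 : w.left = 1 := spPhi_injective (hw.trans (map_one _).symm)
  exact SemidirectProduct.ext h4 h3

/-- the subgroup `T ≀ P` of the wreath product -/
def wrSub {D : Type*} [Group D] {n : ℕ} (T : Subgroup D) (P : Subgroup (Equiv.Perm (Fin n))) :
    Subgroup (Wr D n) where
  carrier := {w | (∀ i, w.left i ∈ T) ∧ w.right ∈ P}
  mul_mem' := by
    rintro w w' ⟨h1, h2⟩ ⟨h1', h2'⟩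
    exact ⟨fun i => by rw [wr_mul_left]; exact mul_mem (h1 i) (h1' _), mul_mem h2 h2'⟩
  one_mem' := ⟨fun i => one_mem _, one_mem _⟩
  inv_mem' := by
    rintro w ⟨h1, h2⟩
    exact ⟨fun i => by rw [wr_inv_left]; exact inv_mem (h1 _), inv_mem h2⟩

theorem spWr_map_wrSub (T : Subgroup (Matrix.symplecticGroup (Fin 1) F))
    (P : Subgroup (Equiv.Perm (Fin n))) : (wrSub T P).map (spWr F n) = spU T P := by
  apply le_antisymm
  · rintro x ⟨w, ⟨h1, h2⟩, rfl⟩
    rw [spWr_apply]
    exact mul_mem (Subgroup.mem_sup_left (Subgroup.mem_map_of_mem _ (fun i _ => h1 i)))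
      (Subgroup.mem_sup_right (Subgroup.mem_map_of_mem _ h2))
  · unfold spU
    apply sup_le
    · rintro x ⟨g, hg, rfl⟩
      refine ⟨SemidirectProduct.inl g, ⟨fun i => hg i (Set.mem_univ i), one_mem _⟩, ?_⟩
      rw [spWr_apply]
      simp
    · rintro x ⟨σ, hσ, rfl⟩
      refine ⟨SemidirectProduct.inr σ, ⟨fun i => one_mem _, hσ⟩, ?_⟩
      rw [spWr_apply]
      simp

theorem wrSub_dser {D : Type*} [Group D] {n : ℕ} (T : Subgroup D)
    (P : Subgroup (Equiv.Perm (Fin n))) (h : ℕ) (hP : dser P h = ⊥)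
    (hT : ∀ a ∈ ⁅T, T⁆, ∀ b ∈ ⁅T, T⁆, a * b = b * a) : dser (wrSub T P) (h + 2) = ⊥ := by
  have h1 : dser (wrSub T P) h ≤
      (Subgroup.pi Set.univ (fun _ : Fin n => T)).map (SemidirectProduct.inl : _ →* Wr D n) := by
    intro w hw
    have hw1 : w ∈ wrSub T P := dser_le _ _ hw
    have hw2 : SemidirectProduct.rightHom w ∈ dser P h := by
      have h3 := Subgroup.mem_map_of_mem (SemidirectProduct.rightHom : Wr D n →* _) hw
      rw [dser_map] at h3
      refine dser_mono ?_ h h3
      rintro x ⟨y, hy, rfl⟩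
      exact hy.2
    rw [hP, Subgroup.mem_bot] at hw2
    refine ⟨w.left, fun i _ => hw1.1 i, ?_⟩
    apply SemidirectProduct.ext
    · rfl
    · exact hw2.symm
  have h2 : dser ((Subgroup.pi Set.univ (fun _ : Fin n => T)).map
      (SemidirectProduct.inl : _ →* Wr D n)) 2 = ⊥ := by
    rw [← dser_map]
    have h4 : dser (Subgroup.pi Set.univ (fun _ : Fin n => T)) 2 = ⊥ := by
      show ⁅⁅Subgroup.pi Set.univ (fun _ : Fin n => T), Subgroup.pi Set.univ (fun _ : Fin n => T)⁆,
        ⁅Subgroup.pi Set.univ (fun _ : Fin n => T), Subgroup.pi Set.univ (fun _ : Fin n => T)⁆⁆ = ⊥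
      rw [Subgroup.commutator_pi_pi_of_finite, Subgroup.commutator_pi_pi_of_finite]
      have hTT : ⁅⁅T, T⁆, ⁅T, T⁆⁆ = ⊥ := by
        rw [Subgroup.commutator_eq_bot_iff_le_centralizer]
        intro a ha
        rw [Subgroup.mem_centralizer_iff]
        intro b hb
        exact hT b hb a ha
      simp only [hTT]
      exact Subgroup.pi_bot
    rw [h4, Subgroup.map_bot]
  rw [dser_add, eq_bot_iff, ← h2]
  exact dser_mono h1 2

/-- S2648 -/
theorem sp_sylow_derived [Fintype F] (hF : Odd (Fintype.card F)) (n : ℕ) (hn : 1 ≤ n)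
    (R : Sylow 2 (Matrix.symplecticGroup (Fin n) F)) :
    derivedSeries (R : Subgroup (Matrix.symplecticGroup (Fin n) F)) (Nat.log 2 (2 * n) + 1) = ⊥ ∧
    derivedSeries (R : Subgroup (Matrix.symplecticGroup (Fin n) F)) (Nat.log 2 (2 * n)) ≠ ⊥ := by
  haveI : Fact (Nat.Prime 2) := ⟨Nat.prime_two⟩
  have hlog : Nat.log 2 (2 * n) = Nat.log 2 n + 1 := by
    rw [mul_comm, Nat.log_mul_base (by norm_num) (by omega)]
  obtain ⟨T, hTab, -, u, hu, v, hv, huv⟩ := sp2_exists_sylow_good hF
  constructor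
  · obtain P : Sylow 2 (Equiv.Perm (Fin n)) := default
    have hU := spU_isPGroup (T : Subgroup (Matrix.symplecticGroup (Fin 1) F))
      (P : Subgroup (Equiv.Perm (Fin n))) T.isPGroup' P.isPGroup'
    have hc := spU_card (T : Subgroup (Matrix.symplecticGroup (Fin 1) F))
      (P : Subgroup (Equiv.Perm (Fin n)))
    have hTc : Nat.card T = 2 ^ (Nat.card (Matrix.symplecticGroup (Fin 1) F)).factorization 2 :=
      Sylow.card_eq_multiplicity T
    have hPc : Nat.card P = 2 ^ (Nat.card (Equiv.Perm (Fin n))).factorization 2 :=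
      Sylow.card_eq_multiplicity P
    rw [Nat.card_perm, Nat.card_fin] at hPc
    have hge : 2 ^ (Nat.card (Matrix.symplecticGroup (Fin n) F)).factorization 2 ≤
        Nat.card (spU (T : Subgroup (Matrix.symplecticGroup (Fin 1) F))
          (P : Subgroup (Equiv.Perm (Fin n)))) := by
      rw [v2_sp_card hF n, pow_add, pow_mul']
      calc _ = Nat.card T ^ n * Nat.card P := by rw [hTc, hPc]
        _ ≤ _ := hc
    obtain ⟨S₀, hS₀⟩ := sylow_of_card_ge _ hU hge
    have hPd : dser (P : Subgroup (Equiv.Perm (Fin n))) (Nat.log 2 n) = ⊥ :=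
      (dser_eq_bot_iff _ _).mp (dlsyl_main 2 n hn P).1
    have hTab' : ∀ a ∈ ⁅(T : Subgroup (Matrix.symplecticGroup (Fin 1) F)),
        (T : Subgroup (Matrix.symplecticGroup (Fin 1) F))⁆,
        ∀ b ∈ ⁅(T : Subgroup (Matrix.symplecticGroup (Fin 1) F)),
        (T : Subgroup (Matrix.symplecticGroup (Fin 1) F))⁆, a * b = b * a := by
      intro a ha b hb
      rw [← comm_map_subtype] at ha hb
      obtain ⟨a', ha', rfl⟩ := ha
      obtain ⟨b', hb', rfl⟩ := hb
      exact congrArg Subtype.val (hTab a' ha' b' hb')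
    have h1 := wrSub_dser (T : Subgroup (Matrix.symplecticGroup (Fin 1) F))
      (P : Subgroup (Equiv.Perm (Fin n))) (Nat.log 2 n) hPd hTab'
    have h2 : dser (spU (T : Subgroup (Matrix.symplecticGroup (Fin 1) F))
        (P : Subgroup (Equiv.Perm (Fin n)))) (Nat.log 2 n + 2) = ⊥ := by
      rw [← spWr_map_wrSub, ← dser_map, h1, Subgroup.map_bot]
    have h3 : derivedSeries (S₀ : Subgroup (Matrix.symplecticGroup (Fin n) F))
        (Nat.log 2 n + 2) = ⊥ := by
      rw [dser_eq_bot_iff, hS₀]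
      exact h2
    rw [hlog]
    exact derived_eq_bot_of_injective (Sylow.equiv R S₀).toMonoidHom (Sylow.equiv R S₀).injective
      _ h3
  · have hpow : 2 ^ Nat.log 2 n ≤ n := Nat.pow_log_le_self 2 (by omega)
    have hn0 : 0 < n := by omega
    obtain ⟨hXp, hXd⟩ := towX_main (T : Subgroup (Matrix.symplecticGroup (Fin 1) F)) T.isPGroup'
      u v hu hv huv n hn0 (Nat.log 2 n) hpow
    have hYp : IsPGroup 2 ((towX (T : Subgroup (Matrix.symplecticGroup (Fin 1) F)) n hn0
        (Nat.log 2 n)).map (spWr F n)) := hXp.map _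
    obtain ⟨R₀, hR₀⟩ := hYp.exists_le_sylow
    have hYd : dser ((towX (T : Subgroup (Matrix.symplecticGroup (Fin 1) F)) n hn0
        (Nat.log 2 n)).map (spWr F n)) (Nat.log 2 n + 1) ≠ ⊥ := by
      rw [← dser_map]
      intro hb
      exact hXd ((Subgroup.map_eq_bot_iff_of_injective _ spWr_injective).mp hb)
    have hR₀d : dser (R₀ : Subgroup (Matrix.symplecticGroup (Fin n) F)) (Nat.log 2 n + 1) ≠ ⊥ := by
      intro hb
      apply hYd
      rw [eq_bot_iff, ← hb]
      exact dser_mono hR₀ _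
    rw [hlog]
    intro hb
    apply hR₀d
    rw [← dser_eq_bot_iff]
    exact derived_eq_bot_of_injective (Sylow.equiv R₀ R).toMonoidHom (Sylow.equiv R₀ R).injective
      _ hb

end Cfsg.Agent.Helper37
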