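import Mathlib
import Cfsg.Prelude.Def_Local
import Cfsg.Agent.Helper22.Basic
import Cfsg.Agent.Helper37.MaxSyl2

set_option autoImplicit false

namespace Cfsg.Agent.Helper37

open Equiv

/-- the pointwise stabiliser of the first four points in the alternating group -/
def stdL (n : ℕ) (h4 : 4 ≤ n) : Subgroup (alternatingGroup (Fin n)) :=
  ⨅ i : Fin 4, MulAction.stabilizer ↥(alternatingGroup (Fin n)) (Fin.castLE h4 i : Fin n)

theorem std_mem (n : ℕ) (h4 : 4 ≤ n) (g : alternatingGroup (Fin n)) :
    g ∈ stdL n h4 ↔ ∀ x : Fin n, x.val < 4 → g.1 x = x := by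
  unfold stdL
  rw [Subgroup.mem_iInf]
  constructor
  · intro h x hx
    have := h ⟨x.val, hx⟩
    rw [MulAction.mem_stabilizer_iff] at this
    have e : (Fin.castLE h4 ⟨x.val, hx⟩ : Fin n) = x := Fin.ext rfl
    rw [e] at this
    exact this
  · intro h i
    rw [MulAction.mem_stabilizer_iff]
    exact h _ (by simp)

theorem std_exists (n : ℕ) (h4 : 4 ≤ n) (l : List (Fin n)) (hl : l.length + 4 < n) :
    ∃ b : Fin n, ¬ b.val < 4 ∧ b ∉ l := by
  obtain ⟨b, hb⟩ := exists_not_mem_list ((List.finRange 4).map (Fin.castLE h4) ++ l)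
    (by simp only [List.length_append, List.length_map, List.length_finRange,
          Nat.card_eq_fintype_card, Fintype.card_fin]; omega)
  rw [List.mem_append, not_or] at hb
  refine ⟨b, fun hlt => hb.1 ?_, hb.2⟩
  rw [List.mem_map]
  exact ⟨⟨b.val, hlt⟩, List.mem_finRange _, Fin.ext rfl⟩

theorem std_three_apply {α : Type*} [DecidableEq α] (a b c : α) (hab : a ≠ b) (hac : a ≠ c)
    (hbc : b ≠ c) :
    (swap a b * swap a c) a = c ∧ (swap a b * swap a c) c = b ∧ (swap a b * swap a c) b = a ∧
      ∀ x, x ≠ a → x ≠ b → x ≠ c → (swap a b * swap a c) x = x := by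
  refine ⟨?_, ?_, ?_, ?_⟩
  · rw [Perm.mul_apply, swap_apply_left, swap_apply_of_ne_of_ne (Ne.symm hac) (Ne.symm hbc)]
  · rw [Perm.mul_apply, swap_apply_right, swap_apply_left]
  · rw [Perm.mul_apply, swap_apply_of_ne_of_ne (Ne.symm hab) hbc, swap_apply_right]
  · intro x hxa hxb hxc
    rw [Perm.mul_apply, swap_apply_of_ne_of_ne hxa hxc, swap_apply_of_ne_of_ne hxa hxb]

theorem std_three (n : ℕ) (h4 : 4 ≤ n) (a b c : Fin n) (hab : a ≠ b) (hac : a ≠ c)
    (hbc : b ≠ c) (ha : ¬ a.val < 4) (hb : ¬ b.val < 4) (hc : ¬ c.val < 4) :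
    ∃ t : alternatingGroup (Fin n), t ∈ stdL n h4 ∧ t.1 = swap a b * swap a c := by
  refine ⟨⟨swap a b * swap a c,
    (Perm.isThreeCycle_swap_mul_swap_same hab hac hbc).mem_alternatingGroup⟩, ?_, rfl⟩
  rw [std_mem]
  intro x hx
  exact (std_three_apply a b c hab hac hbc).2.2.2 x (fun h => ha (h ▸ hx)) (fun h => hb (h ▸ hx))
    (fun h => hc (h ▸ hx))

/-- elements of `stdL` preserve the complement of the first four points -/
theorem std_fix_preserve {n : ℕ} (g : Perm (Fin n)) (p : Fin n → Prop)
    (h : ∀ x, p x → g x = x) : ∀ x, p (g x) ↔ p x := by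
  intro x
  constructor
  · intro hx
    have := h _ hx
    have e : g x = x := g.injective this
    rw [← e]
    exact hx
  · intro hx
    rw [h x hx]
    exact hx

theorem std_quasisimple (n : ℕ) (h4 : 4 ≤ n) (hn : 9 ≤ n) :
    Cfsg.IsQuasisimple ↥(stdL n h4) := by
  classical
  let s : Finset (Fin n) := Finset.univ.filter (fun x => ¬ x.val < 4)
  have hs : ∀ x, x ∈ s ↔ ¬ x.val < 4 := fun x => by simp [s]
  have h5 : 5 ≤ Nat.card ↥s := by
    rw [Nat.card_eq_fintype_card]
    have := Fintype.card_le_of_injective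
      (fun i : Fin 5 => (⟨⟨i.val + 4, by omega⟩, (hs _).mpr (by simp)⟩ : ↥s))
      (fun i j hij => by
        have := congrArg (fun z : ↥s => z.1.val) hij
        simp only at this
        exact Fin.ext (by omega))
    simpa using this
  have hrange : (alternatingGroup.ofSubtype s).range = stdL n h4 := by
    ext g
    constructor
    · rintro ⟨σ, rfl⟩
      rw [std_mem]
      intro x hx
      rw [alternatingGroup.coe_ofSubtype]
      exact Perm.ofSubtype_apply_of_not_mem _ (fun hxs => (hs x).mp hxs hx)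
    · intro hg
      rw [std_mem] at hg
      have h₁ : ∀ x, g.1 x ∈ s ↔ x ∈ s := by
        intro x
        rw [hs, hs]
        exact not_congr (std_fix_preserve g.1 (fun x => x.val < 4) hg x)
      have h₂ : ∀ x, g.1 x ≠ x → x ∈ s := by
        intro x hx
        rw [hs]
        exact fun hlt => hx (hg x hlt)
      have e : Perm.ofSubtype (g.1.subtypePerm h₁) = g.1 := Perm.ofSubtype_subtypePerm h₁ h₂
      have hsign : g.1.subtypePerm h₁ ∈ alternatingGroup ↥s := by
        rw [Perm.mem_alternatingGroup, ← Perm.sign_ofSubtype, e]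
        exact Perm.mem_alternatingGroup.mp g.2
      exact ⟨⟨g.1.subtypePerm h₁, hsign⟩, Subtype.ext e⟩
  have hq : Cfsg.IsQuasisimple ↥(alternatingGroup ↥s) := by
    haveI := alternatingGroup.isSimpleGroup h5
    apply Cfsg.Agent.Helper22.isQuasisimple_of_forall_normal
    · exact ⟨commutator_alternatingGroup_eq_top h5⟩
    · infer_instance
    · intro N hN
      rcases hN.eq_bot_or_eq_top with h | h
      · right
        rw [h]
        exact bot_le
      · left
        exact h
  exact Cfsg.Agent.Helper22.isQuasisimple_of_equiv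
    ((MonoidHom.ofInjective alternatingGroup.ofSubtype_injective).trans
      (MulEquiv.subgroupCongr hrange)) hq

end Cfsg.Agent.Helper37
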