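import Mathlib
import Cfsg.Agent.Helper37.StdAlt

set_option autoImplicit false

namespace Cfsg.Agent.Helper37

open Equiv
open scoped commutatorElement

theorem std_cent_fix (n : ℕ) (h4 : 4 ≤ n) (hn : 9 ≤ n) (k : alternatingGroup (Fin n))
    (hk : k ∈ Subgroup.centralizer (stdL n h4 : Set (alternatingGroup (Fin n)))) :
    ∀ y : Fin n, ¬ y.val < 4 → k.1 y = y := by
  intro y hy
  obtain ⟨b, hb4, hb⟩ := std_exists n h4 [y] (by simp only [List.length_cons, List.length_nil]; omega)
  obtain ⟨c, hc4, hc⟩ := std_exists n h4 [y, b] (by simp only [List.length_cons, List.length_nil]; omega)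
  obtain ⟨d, hd4, hd⟩ := std_exists n h4 [y, b, c] (by simp only [List.length_cons, List.length_nil]; omega)
  obtain ⟨e, he4, he⟩ := std_exists n h4 [y, b, c, d] (by simp only [List.length_cons, List.length_nil]; omega)
  simp only [List.mem_cons, List.not_mem_nil, or_false, not_or] at hb hc hd he
  obtain ⟨t1, ht1, ht1e⟩ := std_three n h4 y b c (Ne.symm hb) (Ne.symm hc.1) (Ne.symm hc.2)
    hy hb4 hc4
  obtain ⟨t2, ht2, ht2e⟩ := std_three n h4 y d e (Ne.symm hd.1) (Ne.symm he.1)
    (Ne.symm he.2.2.2) hy hd4 he4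
  rw [Subgroup.mem_centralizer_iff] at hk
  have key : ∀ t : alternatingGroup (Fin n), t ∈ stdL n h4 → t.1 y ≠ y →
      t.1 (k.1 y) ≠ k.1 y := by
    intro t ht hty h
    have h1 := hk t ht
    have h2 : t.1 (k.1 y) = k.1 (t.1 y) := congrArg (fun z : alternatingGroup (Fin n) => z.1 y) h1
    rw [h2] at h
    exact hty (k.1.injective h)
  have a1 := std_three_apply y b c (Ne.symm hb) (Ne.symm hc.1) (Ne.symm hc.2)
  have a2 := std_three_apply y d e (Ne.symm hd.1) (Ne.symm he.1) (Ne.symm he.2.2.2)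
  have m1 := key t1 ht1 (by rw [ht1e, a1.1]; exact hc.1)
  have m2 := key t2 ht2 (by rw [ht2e, a2.1]; exact he.1)
  by_contra hne
  have n1 : k.1 y = b ∨ k.1 y = c := by
    by_contra h
    push Not at h
    exact m1 (by rw [ht1e]; exact a1.2.2.2 _ hne h.1 h.2)
  have n2 : k.1 y = d ∨ k.1 y = e := by
    by_contra h
    push Not at h
    exact m2 (by rw [ht2e]; exact a2.2.2.2 _ hne h.1 h.2)
  rcases n1 with h | h <;> rcases n2 with h' | h' <;> rw [h] at h'
  · exact hd.2.1 h'.symm
  · exact he.2.1 h'.symm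
  · exact hd.2.2 h'.symm
  · exact he.2.2.1 h'.symm

theorem std_cent_mem (n : ℕ) (h4 : 4 ≤ n) (k : alternatingGroup (Fin n))
    (hk : ∀ y : Fin n, ¬ y.val < 4 → k.1 y = y) :
    k ∈ Subgroup.centralizer (stdL n h4 : Set (alternatingGroup (Fin n))) := by
  rw [Subgroup.mem_centralizer_iff]
  intro l hl
  rw [SetLike.mem_coe, std_mem] at hl
  apply Subtype.ext
  apply Equiv.ext
  intro x
  show l.1 (k.1 x) = k.1 (l.1 x)
  by_cases hx : x.val < 4
  · have h1 : (k.1 x).val < 4 := by
      by_contra h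
      exact ((std_fix_preserve k.1 (fun x => ¬ x.val < 4) hk x).mp h) hx
    rw [hl x hx, hl _ h1]
  · have h1 : ¬ (l.1 x).val < 4 := fun h =>
      hx ((std_fix_preserve l.1 (fun x => x.val < 4) hl x).mp h)
    rw [hk x hx, hk _ h1]

theorem std_norm_of_pres (n : ℕ) (h4 : 4 ≤ n) (g : alternatingGroup (Fin n))
    (hg : ∀ x : Fin n, (g.1 x).val < 4 ↔ x.val < 4) :
    g ∈ Subgroup.normalizer (stdL n h4 : Set (alternatingGroup (Fin n))) := by
  rw [Subgroup.mem_normalizer_iff]
  intro h
  rw [std_mem, std_mem]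
  have hinv : ∀ x : Fin n, (g.1⁻¹ x).val < 4 ↔ x.val < 4 := by
    intro x
    have := hg (g.1⁻¹ x)
    have e : g.1 (g.1⁻¹ x) = x := by simp
    rw [e] at this
    exact this.symm
  constructor
  · intro hh x hx
    show g.1 (h.1 (g.1⁻¹ x)) = x
    rw [hh _ ((hinv x).mpr hx)]
    simp
  · intro hh x hx
    have := hh (g.1 x) ((hg x).mpr hx)
    have e : (g * h * g⁻¹).1 (g.1 x) = g.1 (h.1 x) := by
      show g.1 (h.1 (g.1⁻¹ (g.1 x))) = _
      simp
    rw [e] at this
    exact g.1.injective this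

theorem std_norm_cent {G : Type*} [Group G] (L : Subgroup G) :
    Subgroup.normalizer (L : Set G) ≤
      Subgroup.normalizer (Subgroup.centralizer (L : Set G) : Set G) := by
  have key : ∀ g : G, g ∈ Subgroup.normalizer (L : Set G) →
      ∀ k ∈ Subgroup.centralizer (L : Set G), g * k * g⁻¹ ∈ Subgroup.centralizer (L : Set G) := by
    intro g hg k hk
    rw [Subgroup.mem_centralizer_iff] at hk ⊢
    intro l hl
    rw [Subgroup.mem_normalizer_iff] at hg
    have h1 : g⁻¹ * l * g ∈ L := by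
      rw [hg (g⁻¹ * l * g)]
      have : g * (g⁻¹ * l * g) * g⁻¹ = l := by group
      rw [this]
      exact hl
    have h2 := hk _ h1
    calc l * (g * k * g⁻¹) = g * ((g⁻¹ * l * g) * k) * g⁻¹ := by group
      _ = g * (k * (g⁻¹ * l * g)) * g⁻¹ := by rw [h2]
      _ = g * k * g⁻¹ * l := by group
  intro g hg
  rw [Subgroup.mem_normalizer_iff]
  intro k
  constructor
  · exact key g hg k
  · intro hk
    have := key g⁻¹ (Subgroup.inv_mem _ hg) _ hk
    have e : g⁻¹ * (g * k * g⁻¹) * g⁻¹⁻¹ = k := by group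
    rw [e] at this
    exact this

theorem std_pres_of_norm (n : ℕ) (h4 : 4 ≤ n) (hn : 9 ≤ n) (g : alternatingGroup (Fin n))
    (hg : g ∈ Subgroup.normalizer
      (Subgroup.centralizer (stdL n h4 : Set (alternatingGroup (Fin n))) :
        Set (alternatingGroup (Fin n)))) :
    ∀ x : Fin n, (g.1 x).val < 4 ↔ x.val < 4 := by
  have claim : ∀ g : alternatingGroup (Fin n), g ∈ Subgroup.normalizer
      (Subgroup.centralizer (stdL n h4 : Set (alternatingGroup (Fin n))) :
        Set (alternatingGroup (Fin n))) → ∀ x : Fin n, x.val < 4 → (g.1 x).val < 4 := by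
    intro g hg x hx
    by_contra hgx
    have hx'lt : (x.val + 1) % 4 < n := by omega
    have hx''lt : (x.val + 2) % 4 < n := by omega
    have h1 : x ≠ (⟨(x.val + 1) % 4, hx'lt⟩ : Fin n) := fun h => by
      have := congrArg Fin.val h
      simp only at this
      omega
    have h2 : x ≠ (⟨(x.val + 2) % 4, hx''lt⟩ : Fin n) := fun h => by
      have := congrArg Fin.val h
      simp only at this
      omega
    have h3 : (⟨(x.val + 1) % 4, hx'lt⟩ : Fin n) ≠ ⟨(x.val + 2) % 4, hx''lt⟩ := fun h => by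
      have := congrArg Fin.val h
      simp only at this
      omega
    have hk3 := Perm.isThreeCycle_swap_mul_swap_same h1 h2 h3
    have a := std_three_apply x _ _ h1 h2 h3
    have hkK : (⟨_, hk3.mem_alternatingGroup⟩ : alternatingGroup (Fin n)) ∈
        Subgroup.centralizer (stdL n h4 : Set (alternatingGroup (Fin n))) := by
      apply std_cent_mem
      intro y hy
      exact a.2.2.2 y (fun h => hy (h ▸ hx))
        (fun h => hy (by rw [h]; show (x.val + 1) % 4 < 4; omega))
        (fun h => hy (by rw [h]; show (x.val + 2) % 4 < 4; omega))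
    rw [Subgroup.mem_normalizer_iff] at hg
    have h4' := (hg _).mp hkK
    have h5 := std_cent_fix n h4 hn _ h4' (g.1 x) hgx
    have e : (g * (⟨_, hk3.mem_alternatingGroup⟩ : alternatingGroup (Fin n)) * g⁻¹).1 (g.1 x)
        = g.1 ((swap x ⟨(x.val + 1) % 4, hx'lt⟩ * swap x ⟨(x.val + 2) % 4, hx''lt⟩) x) := by
      show g.1 ((swap x ⟨(x.val + 1) % 4, hx'lt⟩ * swap x ⟨(x.val + 2) % 4, hx''lt⟩)
        (g.1⁻¹ (g.1 x))) = _
      simp
    rw [e] at h5
    have h6 := g.1.injective h5
    rw [a.1] at h6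
    exact h2 h6.symm
  intro x
  constructor
  · intro hx
    have := claim g⁻¹ (Subgroup.inv_mem _ hg) (g.1 x) hx
    have e : (g⁻¹).1 (g.1 x) = x := by
      show g.1⁻¹ (g.1 x) = x
      simp
    rw [e] at this
    exact this
  · exact claim g hg x

end Cfsg.Agent.Helper37
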