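import Mathlib
import Cfsg.Agent.Helper37.StdAlt2

set_option autoImplicit false

namespace Cfsg.Agent.Helper37

open Equiv
open scoped commutatorElement

theorem std_even_card (n : ℕ) (h4 : 4 ≤ n) :
    Even (Nat.card ↥(Subgroup.centralizer (stdL n h4 : Set (alternatingGroup (Fin n))))) := by
  have hd : ∀ i j : Fin 4, i ≠ j → (Fin.castLE h4 i : Fin n) ≠ Fin.castLE h4 j := by
    intro i j hij h
    exact hij (Fin.castLE_injective h4 h)
  have h01 := hd 0 1 (by decide)
  have h02 := hd 0 2 (by decide)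
  have h03 := hd 0 3 (by decide)
  have h12 := hd 1 2 (by decide)
  have h13 := hd 1 3 (by decide)
  have h23 := hd 2 3 (by decide)
  have hmem : swap (Fin.castLE h4 0 : Fin n) (Fin.castLE h4 1) *
      swap (Fin.castLE h4 2 : Fin n) (Fin.castLE h4 3) ∈ alternatingGroup (Fin n) := by
    rw [Perm.mem_alternatingGroup, Perm.sign_mul, Perm.sign_swap h01, Perm.sign_swap h23]
    rfl
  have hK : (⟨_, hmem⟩ : alternatingGroup (Fin n)) ∈
      Subgroup.centralizer (stdL n h4 : Set (alternatingGroup (Fin n))) := by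
    apply std_cent_mem
    intro y hy
    have hne : ∀ i : Fin 4, y ≠ Fin.castLE h4 i := fun i h => hy (by rw [h]; simp)
    show (swap (Fin.castLE h4 0 : Fin n) (Fin.castLE h4 1) *
      swap (Fin.castLE h4 2 : Fin n) (Fin.castLE h4 3)) y = y
    rw [Perm.mul_apply, swap_apply_of_ne_of_ne (hne 2) (hne 3),
      swap_apply_of_ne_of_ne (hne 0) (hne 1)]
  have hcomm := swap_commute h02 h03 h12 h13
  have hord : orderOf (⟨⟨_, hmem⟩, hK⟩ :
      ↥(Subgroup.centralizer (stdL n h4 : Set (alternatingGroup (Fin n))))) = 2 := by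
    apply orderOf_eq_prime
    · apply Subtype.ext
      apply Subtype.ext
      show (swap (Fin.castLE h4 0 : Fin n) (Fin.castLE h4 1) *
        swap (Fin.castLE h4 2 : Fin n) (Fin.castLE h4 3)) ^ 2 = 1
      rw [hcomm.mul_pow, pow_two, pow_two, swap_mul_self, swap_mul_self, one_mul]
    · intro h
      have h1 := congrArg (fun z : ↥(Subgroup.centralizer
        (stdL n h4 : Set (alternatingGroup (Fin n)))) => z.1.1 (Fin.castLE h4 0)) h
      simp only at h1
      have h2 : (swap (Fin.castLE h4 0 : Fin n) (Fin.castLE h4 1) *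
          swap (Fin.castLE h4 2 : Fin n) (Fin.castLE h4 3)) (Fin.castLE h4 0)
          = Fin.castLE h4 1 := by
        rw [Perm.mul_apply, swap_apply_of_ne_of_ne h02 h03, swap_apply_left]
      have h3 : (swap (Fin.castLE h4 0 : Fin n) (Fin.castLE h4 1) *
          swap (Fin.castLE h4 2 : Fin n) (Fin.castLE h4 3)) (Fin.castLE h4 0)
          = Fin.castLE h4 0 := h1
      rw [h2] at h3
      exact h01 h3.symm
  rw [even_iff_two_dvd, ← hord]
  exact orderOf_dvd_natCard _

theorem std_main (n : ℕ) (h4 : 4 ≤ n) (hn : 9 ≤ n) : Cfsg.IsStandardSubgroup (stdL n h4) := by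
  classical
  refine ⟨std_quasisimple n h4 hn, ⟨std_even_card n h4, ?_⟩, ?_, ?_⟩
  · intro g hg
    have hnP : ¬ ∀ x : Fin n, (g.1 x).val < 4 ↔ x.val < 4 := fun hP =>
      hg (std_norm_cent _ (std_norm_of_pres n h4 g hP))
    obtain ⟨x₀, hx₀, hgx₀⟩ : ∃ x₀ : Fin n, x₀.val < 4 ∧ ¬ (g.1⁻¹ x₀).val < 4 := by
      by_contra hcon
      push Not at hcon
      apply hnP
      intro x
      constructor
      · intro hx
        have := hcon _ hx
        simpa using this
      · intro hx
        exact Perm.perm_symm_on_of_perm_on_finite (f := g.1⁻¹) (p := fun x : Fin n => x.val < 4)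
          hcon hx
    by_contra hodd
    rw [Nat.not_odd_iff_even, even_iff_two_dvd] at hodd
    haveI : Fact (Nat.Prime 2) := ⟨Nat.prime_two⟩
    obtain ⟨h, hh⟩ := exists_prime_orderOf_dvd_card' 2 hodd
    have hord : orderOf h.1.1 = 2 := by
      rw [Subgroup.orderOf_coe, Subgroup.orderOf_coe]
      exact hh
    obtain ⟨hK, hKg⟩ := Subgroup.mem_inf.mp h.2
    rw [Subgroup.mem_map] at hKg
    obtain ⟨k, hk, hke⟩ := hKg
    have hke' : g * k * g⁻¹ = h.1 := hke
    have fix1 := std_cent_fix n h4 hn _ hK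
    have fix2 : h.1.1 x₀ = x₀ := by
      rw [← hke']
      show g.1 (k.1 (g.1⁻¹ x₀)) = x₀
      rw [std_cent_fix n h4 hn k hk _ hgx₀]
      simp
    have hsub : h.1.1.support ⊆ (Finset.univ.image (Fin.castLE h4 : Fin 4 → Fin n)).erase x₀ := by
      intro y hy
      rw [Perm.mem_support] at hy
      rw [Finset.mem_erase, Finset.mem_image]
      refine ⟨fun h' => hy (h' ▸ fix2), ?_⟩
      have hy4 : y.val < 4 := by
        by_contra h'
        exact hy (fix1 y h')
      exact ⟨⟨y.val, hy4⟩, Finset.mem_univ _, Fin.ext rfl⟩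
    have hx₀mem : x₀ ∈ Finset.univ.image (Fin.castLE h4 : Fin 4 → Fin n) :=
      Finset.mem_image.mpr ⟨⟨x₀.val, hx₀⟩, Finset.mem_univ _, Fin.ext rfl⟩
    have hcard : h.1.1.support.card ≤ 3 := by
      have h1 := Finset.card_le_card hsub
      rw [Finset.card_erase_of_mem hx₀mem] at h1
      have h2 : (Finset.univ.image (Fin.castLE h4 : Fin 4 → Fin n)).card ≤ 4 := by
        have := Finset.card_image_le (s := (Finset.univ : Finset (Fin 4)))
          (f := (Fin.castLE h4 : Fin 4 → Fin n))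
        simpa using this
      omega
    obtain ⟨m, hm⟩ := Perm.cycleType_prime_order (σ := h.1.1) (by rw [hord]; exact Nat.prime_two)
    rw [hord] at hm
    have hsum := Perm.sum_cycleType h.1.1
    rw [hm, Multiset.sum_replicate, smul_eq_mul] at hsum
    have hm0 : m = 0 := by omega
    have hsign := Perm.sign_of_cycleType h.1.1
    rw [hm, hm0, Perm.mem_alternatingGroup.mp h.1.2] at hsign
    exact absurd hsign (by decide)
  · intro g hne
    have hnP : ¬ ∀ x : Fin n, (g.1 x).val < 4 ↔ x.val < 4 := by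
      intro hP
      apply hne
      have hN := std_norm_of_pres n h4 g hP
      rw [Subgroup.mem_normalizer_iff] at hN
      ext h
      rw [Subgroup.mem_map]
      constructor
      · rintro ⟨l, hl, rfl⟩
        exact (hN l).mp hl
      · intro hh
        refine ⟨g⁻¹ * h * g, ?_, ?_⟩
        · rw [hN]
          have : g * (g⁻¹ * h * g) * g⁻¹ = h := by group
          rw [this]
          exact hh
        · show g * (g⁻¹ * h * g) * g⁻¹ = h
          group
    obtain ⟨x₁, hx₁, hgx₁⟩ : ∃ x₁ : Fin n, ¬ x₁.val < 4 ∧ (g.1⁻¹ x₁).val < 4 := by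
      by_contra hcon
      push Not at hcon
      apply hnP
      have hm : ∀ z : Fin n, z.val < 4 → (g.1 z).val < 4 := by
        intro z hz
        by_contra h
        have := hcon (g.1 z) (not_lt.mp h)
        have e : g.1⁻¹ (g.1 z) = z := by simp
        rw [e] at this
        omega
      intro x
      constructor
      · intro hx
        have := Perm.perm_symm_on_of_perm_on_finite (f := g.1) (p := fun x : Fin n => x.val < 4)
          hm hx
        have e : g.1.symm (g.1 x) = x := by simp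
        rw [e] at this
        exact this
      · intro hx
        exact hm x hx
    obtain ⟨c, hc4, hc⟩ := std_exists n h4
      ((List.finRange 4).map (fun i => g.1 (Fin.castLE h4 i)))
      (by simp only [List.length_map, List.length_finRange]; omega)
    have hgc : ¬ (g.1⁻¹ c).val < 4 := by
      intro h
      apply hc
      rw [List.mem_map]
      refine ⟨⟨(g.1⁻¹ c).val, h⟩, List.mem_finRange _, ?_⟩
      have e : (Fin.castLE h4 ⟨(g.1⁻¹ c).val, h⟩ : Fin n) = g.1⁻¹ c := Fin.ext rfl
      rw [e]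
      simp
    have hcx : c ≠ x₁ := fun h => hgc (h ▸ hgx₁)
    obtain ⟨a', ha4, ha'⟩ := std_exists n h4 [c, x₁]
      (by simp only [List.length_cons, List.length_nil]; omega)
    simp only [List.mem_cons, List.not_mem_nil, or_false, not_or] at ha'
    obtain ⟨l, hl, hle⟩ := std_three n h4 c x₁ a' hcx (Ne.symm ha'.1) (Ne.symm ha'.2)
      hc4 hx₁ ha4
    have al := std_three_apply c x₁ a' hcx (Ne.symm ha'.1) (Ne.symm ha'.2)
    obtain ⟨b₀, hb4, hb₀⟩ := std_exists n h4 [g.1⁻¹ c]
      (by simp only [List.length_cons, List.length_nil]; omega)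
    obtain ⟨b₁, hb14, hb₁⟩ := std_exists n h4 [g.1⁻¹ c, b₀]
      (by simp only [List.length_cons, List.length_nil]; omega)
    simp only [List.mem_cons, List.not_mem_nil, or_false, not_or] at hb₀ hb₁
    obtain ⟨l₀, hl₀, hl₀e⟩ := std_three n h4 (g.1⁻¹ c) b₀ b₁ (Ne.symm hb₀) (Ne.symm hb₁.1)
      (Ne.symm hb₁.2) hgc hb4 hb14
    have al₀ := std_three_apply (g.1⁻¹ c) b₀ b₁ (Ne.symm hb₀) (Ne.symm hb₁.1) (Ne.symm hb₁.2)
    have hl' : g * l₀ * g⁻¹ ∈ (stdL n h4).map (MulAut.conj g).toMonoidHom :=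
      Subgroup.mem_map.mpr ⟨l₀, hl₀, rfl⟩
    intro hbot
    have hcomm : ⁅l, g * l₀ * g⁻¹⁆ ∈ ⁅stdL n h4, (stdL n h4).map (MulAut.conj g).toMonoidHom⁆ :=
      Subgroup.commutator_mem_commutator hl hl'
    rw [hbot, Subgroup.mem_bot, commutatorElement_eq_one_iff_mul_comm] at hcomm
    have h1 := congrArg (fun z : alternatingGroup (Fin n) => z.1 x₁) hcomm
    have e1 : (l * (g * l₀ * g⁻¹)).1 x₁ = c := by
      show l.1 (g.1 (l₀.1 (g.1⁻¹ x₁))) = c
      rw [(std_mem n h4 l₀).mp hl₀ _ hgx₁]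
      have e : g.1 (g.1⁻¹ x₁) = x₁ := by simp
      rw [e, hle]
      exact al.2.2.1
    have e2 : (g * l₀ * g⁻¹ * l).1 x₁ = g.1 b₁ := by
      show g.1 (l₀.1 (g.1⁻¹ (l.1 x₁))) = g.1 b₁
      rw [hle, al.2.2.1, hl₀e, al₀.1]
    have h1' : (l * (g * l₀ * g⁻¹)).1 x₁ = (g * l₀ * g⁻¹ * l).1 x₁ := h1
    rw [e1, e2] at h1'
    apply hb₁.1
    rw [h1']
    simp
  · apply le_antisymm (std_norm_cent _)
    intro g hg
    exact std_norm_of_pres n h4 g (std_pres_of_norm n h4 hn g hg)

end Cfsg.Agent.Helper37
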