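import Mathlib
import Cfsg.Agent.Helper9.OrdTools
import Cfsg.Agent.Helper9.OrdTools2
import Cfsg.Agent.Helper8.SylFix
import Cfsg.Agent.Helper52.U7920Defs

set_option autoImplicit false

namespace Cfsg.Agent.Helper37

open Cfsg.Agent.Helper52

variable {G : Type*} [Group G] [Finite G]

/-- PIECE P2c of CALL S0435. -/
theorem u7920_fix_z (h : U7920Hyp G)
    (hTI : ∀ S S' : Sylow 3 G, S ≠ S' → (S : Subgroup G) ⊓ (S' : Subgroup G) = ⊥)
    (R : Sylow 3 G) (z : G) (hz : orderOf z = 2)
    (hzR : ∀ r ∈ (R : Subgroup G), z * r = r * z) :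
    Nat.card {S : Sylow 3 G // z ∈ Subgroup.normalizer ((S : Subgroup G) : Set G)} = 19 := by
  classical
  haveI : Fact (Nat.Prime 3) := ⟨by norm_num⟩
  haveI : Fact (Nat.Prime 2) := ⟨Nat.prime_two⟩
  haveI := h.simple
  haveI : Fintype (Sylow 3 G) := Fintype.ofFinite _
  have hcongr : Nat.card {S : Sylow 3 G // z ∈ Subgroup.normalizer ((S : Subgroup G) : Set G)}
      = Nat.card (MulAction.fixedBy (Sylow 3 G) z) :=
    Nat.card_congr (Equiv.subtypeEquivRight (fun S =>
      ⟨fun hS => MulAction.mem_fixedBy.2 (Sylow.smul_eq_iff_mem_normalizer.2 hS),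
        fun hS => Sylow.smul_eq_iff_mem_normalizer.1 (MulAction.mem_fixedBy.1 hS)⟩))
  rw [hcongr]
  obtain ⟨f, hf⟩ : ∃ f : ℕ, f = Nat.card (MulAction.fixedBy (Sylow 3 G) z) := ⟨_, rfl⟩
  rw [← hf]
  have hz1 : z ≠ 1 := by
    intro h1
    rw [h1, orderOf_one] at hz
    omega
  have hz2 : z ^ 2 = 1 := by
    rw [← hz]
    exact pow_orderOf_eq_one z
  have h55 := h.num3
  -- fewer than 55 fixed points
  have hlt : f < 55 := by
    have h1 := Cfsg.Agent.Helper8.SylFix.card_fixedBy_lt (p := 3) (by rw [h55]; norm_num) z hz1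
    rwa [h55, ← hf] at h1
  -- parity
  have hmod2 := Cfsg.Agent.Helper8.SylFix.card_fixedBy_modEq (p := 3) z (k := 1)
    (by rw [hz, pow_one])
  rw [h55, ← hf] at hmod2
  unfold Nat.ModEq at hmod2
  -- the group is not abelian
  have hna : ∃ a b : G, a * b ≠ b * a := by
    by_contra hcon
    push Not at hcon
    have hsub : ∀ P Q : Sylow 3 G, P = Q := by
      intro P Q
      obtain ⟨g, hg⟩ := MulAction.exists_smul_eq G P Q
      rw [← hg]
      have hgN : g ∈ Subgroup.normalizer ((P : Subgroup G) : Set G) :=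
        Subgroup.mem_normalizer_iff.2 (fun x => by rw [hcon g x, mul_inv_cancel_right])
      exact (Sylow.smul_eq_iff_mem_normalizer.2 hgN).symm
    have h1 : Nat.card (Sylow 3 G) ≤ 1 := Finite.card_le_one_iff_subsingleton.2 ⟨hsub⟩
    omega
  -- the number of 2-cycles is even
  have heven : (55 - f) / 2 % 2 = 0 := by
    by_contra hodd
    obtain ⟨σ, hσ⟩ : ∃ σ : Equiv.Perm (Sylow 3 G), σ = MulAction.toPermHom G (Sylow 3 G) z :=
      ⟨_, rfl⟩
    have hσ2 : σ ^ 2 = 1 := by rw [hσ, ← map_pow, hz2, map_one]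
    have hfp : Function.fixedPoints σ = MulAction.fixedBy (Sylow 3 G) z := by
      ext S
      rw [hσ]
      rfl
    have hs := Cfsg.Agent.Helper8.SylFix.sign_of_involution σ hσ2 ((55 - f) / 2)
      (by
        rw [← Nat.card_eq_fintype_card, ← Nat.card_eq_fintype_card, hfp, h55, ← hf]
        omega)
      (Nat.odd_iff.2 (by omega))
    have h1 := Cfsg.Agent.Helper9.OrdTools.hom_trivial hna
      (Equiv.Perm.sign.comp (MulAction.toPermHom G (Sylow 3 G))) z
    have h3 : Equiv.Perm.sign σ = 1 := by rw [hσ]; exact h1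
    rw [hs] at h3
    exact absurd h3 (by decide)
  -- `f ≡ 1 (mod 9)`
  have h9 : 9 ∣ f + 8 := by
    let S₀ : SubMulAction (↥(R : Subgroup G)) (Sylow 3 G) :=
      { carrier := MulAction.fixedBy (Sylow 3 G) z
        smul_mem' := by
          intro c Q hQ
          rw [MulAction.mem_fixedBy] at hQ
          change z • ((c : G) • Q) = (c : G) • Q
          rw [← mul_smul, hzR c c.2, mul_smul, hQ] }
    have hmemR : R ∈ MulAction.fixedBy (Sylow 3 G) z := by
      rw [MulAction.mem_fixedBy, Sylow.smul_eq_iff_mem_normalizer]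
      refine Subgroup.centralizer_le_normalizer _ ?_
      rw [Subgroup.mem_centralizer_iff]
      intro x hx
      exact (hzR x hx).symm
    have hfix1 : ∀ r ∈ (⊤ : Subgroup ↥(R : Subgroup G)), r ≠ 1 →
        Nat.card (MulAction.fixedBy (↥S₀) r) = 1 := by
      intro r _ hr1
      have hkey : ∀ a : ↥S₀, r • a = a → (a : Sylow 3 G) = R := by
        intro a ha
        by_contra hne
        have h1 : (r : G) • (a : Sylow 3 G) = (a : Sylow 3 G) := congrArg Subtype.val ha
        have h2 : (r : G) ∈ Subgroup.normalizer (((a : Sylow 3 G) : Subgroup G) : Set G) :=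
          Sylow.smul_eq_iff_mem_normalizer.1 h1
        have h3 : Subgroup.zpowers (r : G) ≤ ((a : Sylow 3 G) : Subgroup G) :=
          Cfsg.Agent.Helper9.OrdTools.mem_sylow_of_mem_normalizer (a : Sylow 3 G)
            (IsPGroup.to_le R.isPGroup' (Subgroup.zpowers_le.2 r.2)) (Subgroup.zpowers_le.2 h2)
        have h4 : (r : G) ∈ ((a : Sylow 3 G) : Subgroup G) ⊓ (R : Subgroup G) :=
          ⟨h3 (Subgroup.mem_zpowers _), r.2⟩
        rw [hTI _ _ hne, Subgroup.mem_bot] at h4
        exact hr1 (Subtype.ext h4)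
      rw [Nat.card_eq_one_iff_unique]
      constructor
      · constructor
        intro a b
        exact Subtype.ext (Subtype.ext ((hkey a.1 a.2).trans (hkey b.1 b.2).symm))
      · refine ⟨⟨⟨R, hmemR⟩, ?_⟩⟩
        show r • (⟨R, hmemR⟩ : ↥S₀) = ⟨R, hmemR⟩
        apply Subtype.ext
        change (r : G) • R = R
        rw [Sylow.smul_eq_iff_mem_normalizer]
        exact Subgroup.le_normalizer r.2
    have hd := Cfsg.Agent.Helper8.SylFix.card_dvd_of_fix_one (G := ↥(R : Subgroup G))
      (X := ↥S₀) ⊤ hfix1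
    rw [Subgroup.card_top, (h.syl3 R).1] at hd
    have hS₀ : Nat.card ↥S₀ = f := by rw [hf]; rfl
    rw [hS₀] at hd
    exact hd
  omega

end Cfsg.Agent.Helper37
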