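import Mathlib
import Cfsg.Agent.Helper8.SylFix

set_option autoImplicit false

namespace Cfsg.Agent.Helper37

variable {G : Type*} [Group G] [Finite G]

/-- the sign of an involution with an even number of `2`-cycles is `1`. -/
theorem u7920_sign_even {α : Type*} [Fintype α] [DecidableEq α] (σ : Equiv.Perm α)
    (h : σ ^ 2 = 1) (c : ℕ) (hfix : Fintype.card (Function.fixedPoints σ) + 2 * c = Fintype.card α)
    (hc : Even c) : Equiv.Perm.sign σ = 1 := by
  have h2 : ∀ n ∈ σ.cycleType, n = 2 := by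
    intro n hn
    have hdvd : n ∣ 2 := (Equiv.Perm.dvd_of_mem_cycleType hn).trans (orderOf_dvd_of_pow_eq_one h)
    have hle := Equiv.Perm.two_le_of_mem_cycleType hn
    have := Nat.le_of_dvd (by norm_num) hdvd
    omega
  have hrep := Multiset.eq_replicate_card.mpr h2
  have hsum : σ.cycleType.sum = 2 * Multiset.card σ.cycleType := by
    conv_lhs => rw [hrep]
    rw [Multiset.sum_replicate, smul_eq_mul, mul_comm]
  have hfp := Equiv.Perm.card_fixedPoints σ
  have hle := Equiv.Perm.sum_cycleType_le σ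
  have hcard : Multiset.card σ.cycleType = c := by omega
  rw [Equiv.Perm.sign_of_cycleType, hsum, hcard]
  rw [pow_add, pow_mul]
  simp [hc.neg_one_pow]

/-- PIECE P3s of CALL S0435. -/
theorem u7920_sign (R : Sylow 3 G) (hR : Nat.card ↥(R : Subgroup G) = 9) (T : Subgroup G)
    (hT : T ≤ Subgroup.normalizer ((R : Subgroup G) : Set G)) :
    ∃ φ : ↥T →* ℤˣ, ∀ t : ↥T, (t : G) ^ 2 = 1 →
      (Nat.card ↥((R : Subgroup G) ⊓ Subgroup.centralizer ({(t : G)} : Set G)) = 3 →
        φ t = -1) ∧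
      (Nat.card ↥((R : Subgroup G) ⊓ Subgroup.centralizer ({(t : G)} : Set G)) = 1 →
        φ t = 1) := by
  classical
  haveI : Fintype ↥(R : Subgroup G) := Fintype.ofFinite _
  letI act : MulAction ↥T ↥(R : Subgroup G) :=
    { smul := fun t r => ⟨(t : G) * r * (t : G)⁻¹,
        (Subgroup.mem_normalizer_iff.1 (hT t.2) r).1 r.2⟩
      one_smul := fun r => by
        apply Subtype.ext
        show ((1 : ↥T) : G) * (r : G) * ((1 : ↥T) : G)⁻¹ = (r : G)
        simp
      mul_smul := fun s t r => by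
        apply Subtype.ext
        show ((s * t : ↥T) : G) * (r : G) * ((s * t : ↥T) : G)⁻¹
          = (s : G) * ((t : G) * (r : G) * (t : G)⁻¹) * (s : G)⁻¹
        simp [mul_assoc] }
  have hsmul : ∀ (t : ↥T) (r : ↥(R : Subgroup G)),
      ((t • r : ↥(R : Subgroup G)) : G) = (t : G) * r * (t : G)⁻¹ := fun _ _ => rfl
  refine ⟨Equiv.Perm.sign.comp (MulAction.toPermHom ↥T ↥(R : Subgroup G)), ?_⟩
  intro t ht2
  obtain ⟨σ, hσ⟩ : ∃ σ : Equiv.Perm ↥(R : Subgroup G),
      σ = MulAction.toPermHom ↥T ↥(R : Subgroup G) t := ⟨_, rfl⟩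
  have hσ2 : σ ^ 2 = 1 := by
    have h1 : t ^ 2 = 1 := Subtype.ext (by rw [Subgroup.coe_pow]; exact ht2)
    rw [hσ, ← map_pow, h1, map_one]
  have hσapp : ∀ r, σ r = t • r := fun r => by rw [hσ]; rfl
  have hcardfix : Nat.card (Function.fixedPoints σ) =
      Nat.card ↥((R : Subgroup G) ⊓ Subgroup.centralizer ({(t : G)} : Set G)) := by
    refine Nat.card_congr
      { toFun := fun x => ⟨(x.1 : G), ⟨x.1.2, ?_⟩⟩
        invFun := fun y => ⟨⟨y.1, y.2.1⟩, ?_⟩
        left_inv := fun x => rfl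
        right_inv := fun y => rfl }
    · show ((x.1 : ↥(R : Subgroup G)) : G) ∈ Subgroup.centralizer ({(t : G)} : Set G)
      rw [Subgroup.mem_centralizer_iff]
      intro h hh
      rw [Set.mem_singleton_iff.1 hh]
      have hx : σ x.1 = x.1 := x.2
      rw [hσapp] at hx
      have hx' := congrArg Subtype.val hx
      rw [hsmul] at hx'
      exact mul_inv_eq_iff_eq_mul.1 hx'
    · show σ ⟨y.1, y.2.1⟩ = ⟨y.1, y.2.1⟩
      rw [hσapp]
      apply Subtype.ext
      rw [hsmul]
      have hc := Subgroup.mem_centralizer_iff.1 y.2.2 (t : G) (Set.mem_singleton _)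
      show (t : G) * (y : G) * (t : G)⁻¹ = (y : G)
      rw [hc, mul_inv_cancel_right]
  have hcardR : Fintype.card ↥(R : Subgroup G) = 9 := by rw [← Nat.card_eq_fintype_card, hR]
  constructor
  · intro h3
    have hs := Cfsg.Agent.Helper8.SylFix.sign_of_involution σ hσ2 3
      (by rw [← Nat.card_eq_fintype_card, hcardfix, h3, hcardR]) (by decide)
    show Equiv.Perm.sign (MulAction.toPermHom ↥T ↥(R : Subgroup G) t) = -1
    rw [← hσ]
    exact hs
  · intro h1
    have hs := u7920_sign_even σ hσ2 4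
      (by rw [← Nat.card_eq_fintype_card, hcardfix, h1, hcardR]) (by decide)
    show Equiv.Perm.sign (MulAction.toPermHom ↥T ↥(R : Subgroup G) t) = 1
    rw [← hσ]
    exact hs

end Cfsg.Agent.Helper37
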